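import Cfsg.Agent.Lib.JTwoType.Table

/-!
# Certificates: the tables of the alternating groups of degree five and four
-/

set_option autoImplicit false
set_option maxRecDepth 100000
set_option maxHeartbeats 2000000

namespace Cfsg.Agent.JTwoType.Table

/-- Certificate with 60 cosets. -/
def a5Cert : Cert where
  n := 60
  inv := [0, 2, 1]
  subs := []
  rels := [[0, 0], [1, 1, 1], [0, 1, 0, 1, 0, 1, 0, 1, 0, 1]]
  spec := [(1, 0, false), (1, 0, true), (2, 0, false), (2, 1, false), (2, 0, true), (2, 1, true)]
  tab := [
    0xe803b00d003300b802d00a803900e003100c802f00c003700d802b00b0035008c020007c01e006c01a00a40210088028009c026007001d00940240044010003c00e003400c002c00a0064018005c0160054014004c0120014004000c0020024008001c0060000001,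
    0xe403700e003b00d803a00a403500a0033009c031009802f009402d009002b00d003200c002e00b002a0060023005c02100580140078013007001200680220080015007c01d006c0190024011002000f001c00d001800b004000e003000a000400500000030010002,
    0xe003600ec03900e803700d002900c802800c002700b802600b002500a802400d403300c402f00b402b00880180080017005401d005001b004c0190048023008401f005801e007001a0040009003800800300070028006004400f003400b001000100080000014003]
  rnk := [
    0x25409501c406f01b406b024c07101bc094025008a022806d01ac0890224093014404f013404b01240470144088022004f013404b021c087012404700c402f00b402b00a4027009402300c402f00b402b00a40270094023004400f003400b004400f003400b0004001,
    0x2480910238075023407301a408601940850184084017408301640820154081019c063017c05b015c0530114080010407f024003b01f803701f4033023c04300fc08c00f403900d408b008407c007407b006407a0054079007c01b005c01300240780014077001c003,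
    0x1d4073024808e024408d02180670214063021005f020c05b0208057020405301a4065018405d0164055020004301fc03f00f407e00e407d00d408f022c0450104090023003b00dc03301f001f01ec01b01e801701e4013008401d006401501e000701dc0030024005]
  jst := [
    0x2000500040010004001002000000000050020005002000000000050020005000400100040010004001000000500200000000000001400800000000004001000400100040010004001000000000000000000000000000000040010004001000000000000000004000,
    0xc0030018000001800000040030004003000400300040030004003000400300000000000000000000000040030004003000c001000c001000c001000c000000000600000000000006000400300040030004003000400300000000000000000400300040030000000,
    0x40010010007001000700100010010001001000100100010010001001000100000000000000000000000100010010001000400400040040004004001c0000000004001c0000000000001000100100010010001001000100000000000000001000100100010000000]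
  par := 0xe003600d003300b802d00a402900a0028009c027009802600940250090024008c020007c01e006c01a0060018005c01700540140050013004c0120044010003c00e003400c002c00a00240090020008001c00700180060014004000c002000400100000000000000
  pl := 0x400100000000000000000800100080010008001000800100080010008001000000000000000000000000800100080010004002000400200040020000000000000000000000000000000800100080010008001000800100000000000000000800100080010000000

/-- Certificate with 12 cosets. -/
def a4Cert : Cert where
  n := 12
  inv := [1, 0, 2]
  subs := []
  rels := [[0, 0, 0], [2, 2], [0, 2, 0, 2, 0, 2]]
  spec := [(0, 0, false), (0, 0, true), (2, 1, false), (2, 0, true)]
  tab := [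
    0x1400b0010009000c007002800800180000008001,
    0x2800500200040018003002c009001c0010000002,
    0x180090028007002000b000800100000050010003]
  rnk := [
    0x5401a00440190034018004c00f002c003005c001,
    0x68013006400f006000b005401100340170004003,
    0x6c01d007401c007001b00240070014009001c005]
  jst := [
    0x40030004003000400300000000000001000c000,
    0x1000100100010010001000000000000040004000,
    0x1800600140050018005000400100040000000000]
  par := 0x140050010004000c003000800100000000000000
  pl := 0x400000040000004000000800200080010000000

theorem a5Cert_ok : a5Cert.check = true := by decide +kernel

theorem a4Cert_ok : a4Cert.check = true := by decide +kernel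

end Cfsg.Agent.JTwoType.Table
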