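import Cfsg.Agent.Lib.JTwoType.TableBig
import Cfsg.Agent.Lib.JTwoType.TableSmall
import Cfsg.Agent.Lib.JTwoPerm.Basic

/-!
# A presentation of the Hall-Janko group

* `iso_of_system`: a group of order 604800 with seven elements satisfying the relators is the Hall-Janko group
-/

set_option autoImplicit false
set_option maxRecDepth 100000
set_option linter.style.haveILetI false

namespace Cfsg.Agent.JTwoType.Present

open Subgroup Table Cfsg.Agent.StabCert
open scoped Pointwise

/-- The seven letters in the generators of the Hall-Janko group. -/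
def modelWords : List (List ℕ) := [[2, 2, 4, 2, 4, 3, 1, 0], [4, 4, 0, 2, 2, 0, 4, 1], [0, 0, 0, 2, 4, 0, 5, 3], [3, 0, 2, 5, 1, 0, 1, 2], [0, 2, 3, 2, 5, 1, 0, 1, 0], [0, 4, 5, 1, 4, 2, 3, 2], [2, 4, 3, 4, 2, 4, 4, 1]]

/-- The six generators in the seven letters. -/
def backWords : List (List ℕ) := [[5, 6, 1, 5, 6, 1, 5, 6, 1, 5, 6], [3, 5, 3, 6, 1, 0, 6, 1, 0, 5], [1, 6, 0, 2, 5, 6, 1, 0, 5, 6], [0, 1, 3, 6, 0, 2, 0, 6, 1], [4, 6, 0, 5, 3, 6, 2, 6, 1, 0, 5, 6, 1, 4], [6, 1, 0, 5, 3, 6, 2, 5, 3, 6, 1, 0]]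

/-- The model element of a letter. -/
noncomputable def mdl (a : ℕ) : JTwoPerm.jTwo :=
  if h : ∀ k ∈ modelWords.getD a [], k < 6 then JTwoPerm.el (modelWords.getD a []) h else 1

/-- Substitution of the model words. -/
def expand (w : List ℕ) : List ℕ := w.flatMap fun a => modelWords.getD a []

theorem model_lt : ((List.range 7).all fun a => (modelWords.getD a []).all fun k => Nat.blt k 6) = true := by
  decide +kernel

theorem mdl_coe {a : ℕ} (ha : a < 7) :
    (mdl a : Equiv.Perm (Fin 100)) = wordEl JTwoPerm.gen (modelWords.getD a []) := by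
  have h := model_lt
  simp only [List.all_eq_true, List.mem_range, Nat.blt_eq] at h
  rw [mdl, dif_pos (h a ha)]
  rfl

theorem val_mdl : ∀ w : List ℕ, (∀ a ∈ w, a < 7) →
    ((Cert.val mdl w : JTwoPerm.jTwo) : Equiv.Perm (Fin 100)) = wordEl JTwoPerm.gen (expand w)
  | [], _ => by simp [Cert.val, expand, wordEl]
  | a :: w, h => by
    rw [Cert.val_cons, Subgroup.coe_mul, val_mdl w (fun b hb => h b (List.mem_cons_of_mem _ hb)),
      mdl_coe (h a List.mem_cons_self), ← wordEl_append]
    rfl

/-- The word acts trivially. -/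
def trivOK (w : List ℕ) : Bool :=
  w.all (fun a => Nat.blt a 7) && (List.range 100).all fun i => Nat.beq (ev 7 JTwoPerm.tab (expand w) i) i

/-- A word gives a generator. -/
def genOK (k : ℕ) : Bool :=
  (backWords.getD k []).all (fun a => Nat.blt a 7) &&
    (List.range 100).all fun i => Nat.beq (ev 7 JTwoPerm.tab (expand (backWords.getD k [])) i)
      (look 7 (JTwoPerm.tab.getD k 0) i)

theorem rels_ok : (bigCert.rels.all trivOK && (List.range 7).all fun a => trivOK [bigCert.iv a, a]) = true := by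
  decide +kernel

theorem gens_ok : (List.range 6).all genOK = true := by decide +kernel

theorem expand_lt {w : List ℕ} (hw : ∀ a ∈ w, a < 7) : ∀ k ∈ expand w, k < 6 := by
  intro k hk
  obtain ⟨a, ha, hka⟩ := List.mem_flatMap.1 hk
  have h := model_lt
  simp only [List.all_eq_true, List.mem_range, Nat.blt_eq] at h
  exact h a (hw a ha) k hka

theorem val_one {w : List ℕ} (h : trivOK w = true) : Cert.val mdl w = 1 := by
  simp only [trivOK, Bool.and_eq_true, List.all_eq_true, List.mem_range, Nat.blt_eq] at h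
  refine Subtype.ext ?_
  rw [val_mdl w h.1]
  refine Equiv.ext fun x => ?_
  have h2 := (ev_spec JTwoPerm.sound (expand w) (expand_lt h.1) x x.isLt).2
  rw [Nat.eq_of_beq_eq_true (h.2 x x.isLt), JTwoPerm.pt_val] at h2
  simpa using h2

theorem gen_eq {k : ℕ} (hk : k < 6) :
    ((Cert.val mdl (backWords.getD k []) : JTwoPerm.jTwo) : Equiv.Perm (Fin 100)) = JTwoPerm.gen k ∧
      ∀ a ∈ backWords.getD k [], a < 7 := by
  have h := gens_ok
  simp only [genOK, Bool.and_eq_true, List.all_eq_true, List.mem_range, Nat.blt_eq] at h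
  obtain ⟨hw, hi⟩ := h k hk
  refine ⟨?_, hw⟩
  rw [val_mdl _ hw]
  refine Equiv.ext fun x => ?_
  have h2 := (ev_spec JTwoPerm.sound (expand _) (expand_lt hw) x x.isLt).2
  have h3 := (JTwoPerm.sound k hk x x.isLt).2
  rw [Nat.eq_of_beq_eq_true (hi x x.isLt)] at h2
  simp only [MonoidHom.id_apply, JTwoPerm.pt_val] at h2 h3
  rw [h2, h3]

/-- A group of order 604800 with seven elements satisfying the relators is the Hall-Janko group. -/
theorem iso_of_system {G : Type*} [Group G] [Finite G] (hG : Nat.card G = 604800) (g : ℕ → G)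
    (hinv : ∀ a < 7, g (bigCert.iv a) * g a = 1) (hrel : ∀ r ∈ bigCert.rels, Cert.val g r = 1)
    (hne : g 0 ≠ 1) : Nonempty (G ≃* JTwoPerm.jTwo) := by
  haveI := JTwoPerm.isSimpleGroup_jTwo
  haveI : Finite JTwoPerm.jTwo := Nat.finite_of_card_ne_zero (by rw [JTwoPerm.natCard_jTwo]; norm_num)
  let p : ℕ → G × JTwoPerm.jTwo := fun a => (g a, mdl a)
  have hval : ∀ w, Cert.val p w = (Cert.val g w, Cert.val mdl w) := by
    intro w
    induction w with
    | nil => rfl
    | cons a w ih => rw [Cert.val_cons, Cert.val_cons, Cert.val_cons, ih]; rfl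
  have hok := rels_ok
  simp only [Bool.and_eq_true, List.all_eq_true, List.mem_range] at hok
  have hprel : ∀ r ∈ bigCert.rels, Cert.val p r = 1 := fun r hr => by
    rw [hval, hrel r hr, val_one (hok.1 r hr)]; rfl
  have hpinv : ∀ a < bigCert.k, p (bigCert.iv a) * p a = 1 := fun a ha => by
    have h1 := val_one (hok.2 a ha)
    simp only [Cert.val, List.map_cons, List.map_nil, List.prod_cons, List.prod_nil, mul_one] at h1
    exact _root_.Prod.ext (hinv a ha) h1
  set A := closure ((fun i => p i) '' {i | i < a5Cert.k}) with hA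
  set B := closure ((fun i => p (i + 3)) '' {i | i < a4Cert.k}) with hB
  have hAc : Nat.card A ≤ 60 := by
    have := Cert.card_le (Γ := G × JTwoPerm.jTwo) (C := a5Cert) ⊥ a5Cert_ok (g := fun i => p i) ?_ ?_ ?_
    · simpa [show a5Cert.n = 60 from rfl] using this
    · intro a ha
      have : a = 0 ∨ a = 1 ∨ a = 2 := by
        have : a < 3 := ha
        omega
      rcases this with rfl | rfl | rfl
      exacts [hpinv 0 (by decide), hpinv 1 (by decide), hpinv 2 (by decide)]
    · intro r hr
      exact hprel r ((show ∀ r ∈ a5Cert.rels, r ∈ bigCert.rels by decide +kernel) r hr)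
    · intro a ha; exact absurd ha (List.not_mem_nil)
  have hBc : Nat.card B ≤ 12 := by
    have := Cert.card_le (Γ := G × JTwoPerm.jTwo) (C := a4Cert) ⊥ a4Cert_ok (g := fun i => p (i + 3)) ?_ ?_ ?_
    · simpa [show a4Cert.n = 12 from rfl] using this
    · intro a ha
      have : a = 0 ∨ a = 1 ∨ a = 2 := by
        have : a < 3 := ha
        omega
      rcases this with rfl | rfl | rfl
      exacts [hpinv 3 (by decide), hpinv 4 (by decide), hpinv 5 (by decide)]
    · intro r hr
      have h' := hprel _ ((show ∀ r ∈ a4Cert.rels, r.map (· + 3) ∈ bigCert.rels by decide +kernel) r hr)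
      simpa [Cert.val, List.map_map, Function.comp_def] using h'
    · intro a ha; exact absurd ha (List.not_mem_nil)
  have hcomm : A ≤ normalizer (B : Set (G × JTwoPerm.jTwo)) := by
    refine le_trans ?_ (centralizer_le_normalizer _)
    rw [hA, hB, closure_le, centralizer_closure]
    rintro _ ⟨i, hi, rfl⟩
    rw [SetLike.mem_coe, mem_centralizer_iff]
    rintro _ ⟨j, hj, rfl⟩
    have hi' : i < 3 := hi
    have hj' : j < 3 := hj
    have key : ∀ r ∈ bigCert.rels, Cert.val p r = 1 := hprel
    have hc : ∀ (u u' v v' : ℕ), p u' * p u = 1 → p v' * p v = 1 → ([u', v', u, v] ∈ bigCert.rels) →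
        p v * p u = p u * p v := by
      intro u u' v v' hu hv hm
      have h1 := key _ hm
      simp only [Cert.val, List.map_cons, List.map_nil, List.prod_cons, List.prod_nil, mul_one] at h1
      rw [eq_inv_of_mul_eq_one_left hu, eq_inv_of_mul_eq_one_left hv] at h1
      have := eq_inv_of_mul_eq_one_right h1
      calc p v * p u = p v * p u * ((p u)⁻¹ * ((p v)⁻¹ * (p u * p v))) := by rw [h1, mul_one]
        _ = p u * p v := by group
    have hinv' : ∀ u v : ℕ, p u * p v = 1 → p v * p u = 1 := fun u v h => mul_eq_one_comm.1 h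
    have c03 := hc 0 0 3 4 (hpinv 0 (by decide)) (hpinv 3 (by decide)) (by decide +kernel)
    have c05 := hc 0 0 5 5 (hpinv 0 (by decide)) (hpinv 5 (by decide)) (by decide +kernel)
    have c13 := hc 1 2 3 4 (hpinv 1 (by decide)) (hpinv 3 (by decide)) (by decide +kernel)
    have c15 := hc 1 2 5 5 (hpinv 1 (by decide)) (hpinv 5 (by decide)) (by decide +kernel)
    have e2 : p 2 = (p 1)⁻¹ := eq_inv_of_mul_eq_one_left (hpinv 1 (by decide))
    have e4 : p 4 = (p 3)⁻¹ := eq_inv_of_mul_eq_one_left (hpinv 3 (by decide))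
    have cA : ∀ u, u = 0 ∨ u = 1 → ∀ v, v = 3 ∨ v = 5 → Commute (p v) (p u) := by
      rintro u (rfl | rfl) v (rfl | rfl) <;> assumption
    interval_cases i <;> interval_cases j <;> simp only [Nat.reduceAdd, e2, e4]
    all_goals
      first
        | exact cA _ (by omega) _ (by omega)
        | exact (cA _ (by omega) _ (by omega)).inv_left
        | exact (cA _ (by omega) _ (by omega)).inv_right
        | exact (cA _ (by omega) _ (by omega)).inv_inv
  set H := A ⊔ B with hH
  have hHc : Nat.card H ≤ 720 := by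
    have hcoe : (H : Set (G × JTwoPerm.jTwo)) = (A : Set _) * (B : Set _) :=
      coe_mul_of_left_le_normalizer_right A B hcomm
    let f : A × B → H := fun q => ⟨q.1 * q.2, mul_mem ((le_sup_left : A ≤ H) q.1.2) ((le_sup_right : B ≤ H) q.2.2)⟩
    have hf : Function.Surjective f := by
      intro y
      have hy : (y : G × JTwoPerm.jTwo) ∈ (H : Set (G × JTwoPerm.jTwo)) := y.2
      rw [hcoe] at hy
      obtain ⟨u, hu, v, hv, e⟩ := hy
      exact ⟨(⟨u, hu⟩, ⟨v, hv⟩), Subtype.ext e⟩
    calc Nat.card H ≤ Nat.card (A × B) := Nat.card_le_card_of_surjective f hf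
      _ = Nat.card A * Nat.card B := Nat.card_prod _ _
      _ ≤ 60 * 12 := Nat.mul_le_mul hAc hBc
  set K := closure (p '' {a | a < bigCert.k}) with hK
  have hKc : Nat.card K ≤ 604800 := by
    refine (Cert.card_le (C := bigCert) H bigCert_ok hpinv hprel ?_).trans ?_
    · intro a ha
      rcases (show ∀ a ∈ bigCert.subs, a < 3 ∨ (a - 3 < 3 ∧ a - 3 + 3 = a) by decide +kernel) a ha with h | ⟨h, e⟩
      · exact (le_sup_left : A ≤ H) (subset_closure ⟨a, h, rfl⟩)
      · exact (le_sup_right : B ≤ H) (subset_closure ⟨a - 3, h, by simp only [e]⟩)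
    · rw [show bigCert.n = 840 from rfl]
      calc 840 * Nat.card H ≤ 840 * 720 := Nat.mul_le_mul_left _ hHc
        _ = 604800 := rfl
  let π : K →* JTwoPerm.jTwo := (MonoidHom.snd G JTwoPerm.jTwo).comp K.subtype
  have hπ : Function.Surjective π := by
    have hle : JTwoPerm.jTwo ≤ π.range.map JTwoPerm.jTwo.subtype := by
      refine (closure_le _).2 ?_
      rintro _ ⟨k, hk, rfl⟩
      obtain ⟨e, hw⟩ := gen_eq (List.mem_range.1 hk)
      refine ⟨Cert.val mdl (backWords.getD k []), ⟨⟨Cert.val p (backWords.getD k []), ?_⟩, ?_⟩, e⟩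
      · refine list_prod_mem fun x hx => ?_
        obtain ⟨a, ha, rfl⟩ := List.mem_map.1 hx
        exact subset_closure ⟨a, hw a ha, rfl⟩
      · show (Cert.val p (backWords.getD k [])).2 = _
        rw [hval]
    intro y
    obtain ⟨y', ⟨x, hx⟩, he⟩ := hle y.2
    exact ⟨x, hx.trans (Subtype.ext he)⟩
  have hbij : Function.Bijective π := by
    refine (Nat.bijective_iff_surjective_and_card _).2 ⟨hπ, le_antisymm ?_ ?_⟩
    · rw [JTwoPerm.natCard_jTwo]; exact hKc
    · exact Nat.card_le_card_of_surjective _ hπ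
  let e := MulEquiv.ofBijective π hbij
  let ψ : JTwoPerm.jTwo →* G := ((MonoidHom.fst G JTwoPerm.jTwo).comp K.subtype).comp e.symm.toMonoidHom
  have h0 : p 0 ∈ K := subset_closure ⟨0, by decide, rfl⟩
  have hψ : ψ (mdl 0) = g 0 := by
    show ((e.symm (mdl 0) : K) : G × JTwoPerm.jTwo).1 = g 0
    rw [show e.symm (mdl 0) = ⟨p 0, h0⟩ from e.symm_apply_eq.2 rfl]
  have hker : ψ.ker = ⊥ := by
    rcases (inferInstance : ψ.ker.Normal).eq_bot_or_eq_top with h | h
    · exact h
    · exfalso
      apply hne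
      rw [← hψ, ← MonoidHom.mem_ker, h]
      exact mem_top _
  have hinj : Function.Injective ψ := (MonoidHom.ker_eq_bot_iff ψ).1 hker
  exact ⟨(MulEquiv.ofBijective ψ ((Nat.bijective_iff_injective_and_card _).2
    ⟨hinj, by rw [JTwoPerm.natCard_jTwo, hG]⟩)).symm⟩

end Cfsg.Agent.JTwoType.Present
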