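import Cfsg.Agent.Lib.JTwoType.Outer

/-!
# Alternating group of degree five: rigidity

* `hom_fixing_alt4`: an endomorphism fixing a point stabiliser pointwise is the identity
* `aut_fixing_alt4`: an automorphism fixing an involution and an element of order three generating a
  point stabiliser is trivial
-/

set_option autoImplicit false

namespace Cfsg.Agent.JTwoType.Alt5

theorem trans2 : ∀ i j k : Fin 5, j ≠ i → k ≠ i → ∃ x : A5, x.1 i = i ∧ x.1 j = k := by decide +kernel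

theorem common_fixed : ∀ a c : A5, a * a = 1 → a ≠ 1 → c * c * c = 1 → c ≠ 1 →
    a * (c * a * c⁻¹) = (c * a * c⁻¹) * a → c * a * c⁻¹ ≠ a → ∃ i, a.1 i = i ∧ c.1 i = i := by decide +kernel

set_option synthInstance.maxHeartbeats 200000 in
set_option synthInstance.maxSize 1024 in
theorem rigid : ∀ i : Fin 5, ∃ d : A5, d.1 i ≠ i ∧ ∀ d' : A5,
    (∀ x : A5, x.1 i = i → (x * d * (x * d) = 1 → x * d' * (x * d') = 1) ∧
      (x * d * (x * d) * (x * d) = 1 → x * d' * (x * d') * (x * d') = 1)) → d' = d := by decide +kernel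

theorem hom_fixing_alt4 (θ : A5 →* A5) (i : Fin 5) (h : ∀ x : A5, x.1 i = i → θ x = x) : ∀ x, θ x = x := by
  obtain ⟨d, hdi, hd⟩ := rigid i
  have hθd : θ d = d := hd _ fun x hx => by
    refine ⟨fun e => ?_, fun e => ?_⟩ <;>
      · rw [← h x hx]
        simp only [← map_mul]
        rw [e, map_one]
  intro g
  by_cases hg : g.1 i = i
  · exact h g hg
  obtain ⟨x, hxi, hxg⟩ := trans2 i (d.1 i) (g.1 i) hdi hg
  have hy : ((x * d)⁻¹ * g).1 i = i := by
    show ((x.1 * d.1)⁻¹ * g.1) i = i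
    rw [Equiv.Perm.mul_apply, ← hxg, Equiv.Perm.inv_eq_iff_eq, Equiv.Perm.mul_apply]
  calc θ g = θ (x * d * ((x * d)⁻¹ * g)) := by rw [mul_inv_cancel_left]
    _ = x * d * ((x * d)⁻¹ * g) := by rw [map_mul, map_mul, h x hxi, hθd, h _ hy]
    _ = g := mul_inv_cancel_left _ _

set_option synthInstance.maxHeartbeats 200000 in
set_option synthInstance.maxSize 1024 in
theorem mem_gen : ∀ i : Fin 5, ∀ a : A5, a.1 i = i → a * a = 1 → a ≠ 1 →
    ∀ c : A5, c.1 i = i → c * c * c = 1 → c ≠ 1 → ∀ x : A5, x.1 i = i →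
    x ∈ [1, a, c * a * c⁻¹, a * (c * a * c⁻¹)] ∨ x * c⁻¹ ∈ [1, a, c * a * c⁻¹, a * (c * a * c⁻¹)] ∨
      x * c ∈ [1, a, c * a * c⁻¹, a * (c * a * c⁻¹)] := by decide +kernel

theorem aut_fixing_alt4 (θ : A5 →* A5) {a c : A5} (ha2 : a * a = 1) (ha1 : a ≠ 1) (hc3 : c * c * c = 1)
    (hc1 : c ≠ 1) (hcomm : a * (c * a * c⁻¹) = (c * a * c⁻¹) * a) (hne : c * a * c⁻¹ ≠ a)
    (ha : θ a = a) (hc : θ c = c) : ∀ x, θ x = x := by
  obtain ⟨i, hai, hci⟩ := common_fixed a c ha2 ha1 hc3 hc1 hcomm hne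
  refine hom_fixing_alt4 θ i fun x hx => ?_
  have hV : ∀ y ∈ [1, a, c * a * c⁻¹, a * (c * a * c⁻¹)], θ y = y := by
    intro y hy
    simp only [List.mem_cons, List.not_mem_nil, or_false] at hy
    rcases hy with rfl | rfl | rfl | rfl <;> simp [map_mul, map_inv, ha, hc]
  rcases mem_gen i a hai ha2 ha1 c hci hc3 hc1 x hx with h | h | h
  · exact hV x h
  · have := hV _ h
    rw [map_mul, map_inv, hc] at this
    exact mul_right_cancel this
  · have := hV _ h
    rw [map_mul, hc] at this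
    exact mul_right_cancel this

end Cfsg.Agent.JTwoType.Alt5
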