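import Cfsg.Agent.Lib.JTwoType.ThreeCent
import Cfsg.Agent.Lib.JTwoType.Rigid
import Cfsg.Agent.Lib.JTwoType.Present

/-!
# Groups of Hall-Janko type are isomorphic to the Hall-Janko group

* `exists_iso`: `G ≃* JTwoPerm.jTwo`
-/

set_option autoImplicit false
set_option linter.unusedSectionVars false
set_option linter.style.haveILetI false
set_option maxHeartbeats 1000000

namespace Cfsg.Agent.JTwoType

open Cfsg Subgroup OrderJTwo Table
open scoped commutatorElement

variable {G : Type*} [Group G] [Finite G]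

namespace Alt5

set_option synthInstance.maxSize 1024 in
theorem exists_third : ∀ a : A5, a * a = 1 → a ≠ 1 → ∀ c : A5, c * c * c = 1 → c * a * c⁻¹ ≠ a →
    a * (c * a * c⁻¹) = (c * a * c⁻¹) * a →
    (c * a) ^ 3 = 1 ∧ ∃ d : A5, d * d = 1 ∧ (a * d) ^ 3 = 1 ∧ (c * d) ^ 2 = 1 := by decide +kernel

set_option synthInstance.maxSize 1024 in
theorem no_common : ∀ a : A5, a * a = 1 → a ≠ 1 → ∀ c : A5, c * c * c = 1 → c * a * c⁻¹ ≠ a →
    a * (c * a * c⁻¹) = (c * a * c⁻¹) * a →
    ∀ d : A5, d * d = 1 → (a * d) ^ 3 = 1 → (c * d) ^ 2 = 1 →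
    ∀ i : Fin 5, a.1 i = i → c.1 i = i → d.1 i ≠ i := by decide +kernel

end Alt5

namespace Alt6

/-- standard involution -/
def a6 : Equiv.Perm (Fin 6) := Equiv.swap 0 1 * Equiv.swap 2 3
/-- standard element of order three -/
def b6 : Equiv.Perm (Fin 6) := Equiv.swap 1 4 * Equiv.swap 4 2
/-- the image of the involution under the outer automorphism -/
def y6 : Equiv.Perm (Fin 6) := Equiv.swap 1 3 * Equiv.swap 4 5

/-- letters -/
def lett (a b : Equiv.Perm (Fin 6)) (l : ℕ) : Equiv.Perm (Fin 6) := [a, b, b⁻¹].getD l 1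

/-- the word of the inverting involution -/
def wWord : List ℕ := [1, 0, 1, 0, 2, 0, 2]
/-- a further involution commuting with it -/
def fWord : List ℕ := [0, 1, 0, 2, 0]
/-- an element of order three -/
def vWord : List ℕ := [1, 0, 1, 0, 2]

theorem mem_ok : Equiv.Perm.sign a6 = 1 ∧ Equiv.Perm.sign b6 = 1 ∧ a6 5 = 5 ∧ b6 5 = 5 ∧ a6 ≠ 1 ∧
    (a6 * b6) ≠ 1 := by decide +kernel

theorem words_ok :
    Cert.val (lett a6 b6) [0, 0] = 1 ∧ Cert.val (lett a6 b6) [1, 1, 1] = 1 ∧
    Cert.val (lett a6 b6) [0, 1, 0, 1, 0, 1, 0, 1, 0, 1] = 1 ∧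
    Cert.val (lett a6 b6) (wWord ++ wWord) = 1 ∧ Cert.val (lett a6 b6) wWord ≠ 1 ∧
    Cert.val (lett a6 b6) (wWord ++ [0, 1] ++ wWord ++ [0, 1]) = 1 ∧
    Cert.val (lett a6 b6) (fWord ++ fWord) = 1 ∧ Cert.val (lett a6 b6) fWord ≠ 1 ∧
    Cert.val (lett a6 b6) fWord ≠ Cert.val (lett a6 b6) wWord ∧
    Cert.val (lett a6 b6) (fWord ++ wWord ++ fWord ++ wWord) = 1 ∧
    Cert.val (lett a6 b6) (vWord ++ vWord ++ vWord) = 1 := by decide +kernel

theorem image_cases : ∀ y : Equiv.Perm (Fin 6), Equiv.Perm.sign y = 1 → y * y = 1 → (y * (a6 * b6)) ^ 3 = 1 →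
    Cert.val (lett y (y * (a6 * b6))) wWord = Cert.val (lett a6 b6) wWord → y = a6 ∨ y = y6 := by
  decide +kernel

theorem pair_ok :
    b6 * Cert.val (lett y6 (y6 * (a6 * b6))) vWord = Cert.val (lett y6 (y6 * (a6 * b6))) vWord * b6 ∧
    ∀ i j : Fin 3, b6 ^ (i : ℕ) * Cert.val (lett y6 (y6 * (a6 * b6))) vWord ^ (j : ℕ) = 1 → i = 0 ∧ j = 0 := by
  decide +kernel

end Alt6

namespace Data

variable {D : Data G}

namespace Triple

variable {t : G} (T : D.Triple t)

/-- the third generator -/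
theorem exists_x3 {x w : G} (hx : x ∈ T.P.B) (hx5 : orderOf x = 5) (hw : w ∈ T.P.B) (hw2 : w * w = 1)
    (hwx : w * x * w = x⁻¹) :
    (T.k * t) ^ 3 = 1 ∧ ∃ d : G, d * x = x * d ∧ d * w = w * d ∧ d * d = 1 ∧ (t * d) ^ 3 = 1 ∧ (T.k * d) ^ 2 = 1 := by
  classical
  set C := centralizer ({x} : Set G) with hC
  obtain ⟨-, π, hπ, hker⟩ := T.hk.card_cent_five hx hx5
  have hwinv : w⁻¹ = w := inv_eq_of_mul_eq_one_right hw2
  have hx51 : x ^ 5 = 1 := hx5 ▸ pow_orderOf_eq_one x
  have hwC : ∀ y : C, w * (y : G) * w ∈ C := fun y => by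
    have hyx : Commute (y : G) x := mem_centralizer_singleton_iff.1 y.2
    have h2 : w * x⁻¹ * w = x := by
      calc w * x⁻¹ * w = (w⁻¹ * x * w⁻¹)⁻¹ := by group
        _ = x := by rw [hwinv, hwx, inv_inv]
    refine mem_centralizer_singleton_iff.2 ?_
    show w * y * w * x = x * (w * y * w)
    nth_rw 1 [← h2]
    nth_rw 2 [← h2]
    calc w * y * w * (w * x⁻¹ * w) = w * (y * (w * w) * x⁻¹) * w := by group
      _ = w * (x⁻¹ * y) * w := by rw [hw2, mul_one, hyx.inv_right.eq]
      _ = w * x⁻¹ * (w * w) * y * w := by rw [hw2]; group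
      _ = w * x⁻¹ * w * (w * y * w) := by group
  let cw : C →* C :=
    { toFun := fun y => ⟨w * y * w, hwC y⟩
      map_one' := Subtype.ext (show w * 1 * w = 1 by rw [mul_one, hw2])
      map_mul' := fun y y' => Subtype.ext (show w * (y * y') * w = w * y * w * (w * y' * w) by
        calc w * ((y : G) * y') * w = w * y * (1 : G) * y' * w := by group
          _ = _ := by rw [← hw2]; group) }
  have hkerw : π.ker ≤ (π.comp cw).ker := fun y hy => by
    obtain ⟨j, hj⟩ := mem_zpowers_iff.1 ((hker y).1 hy)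
    refine (hker _).2 ?_
    show w * (y : G) * w ∈ zpowers x
    rw [← hj]
    have : w * x ^ j * w = x⁻¹ ^ j := by
      calc w * x ^ j * w = w * x ^ j * w⁻¹ := by rw [hwinv]
        _ = (w * x * w⁻¹) ^ j := (conj_zpow).symm
        _ = _ := by rw [hwinv, hwx]
    rw [this]
    exact zpow_mem (inv_mem (mem_zpowers x)) j
  let θ : Alt5.A5 →* Alt5.A5 := π.liftOfSurjective hπ ⟨π.comp cw, hkerw⟩
  have hθ : ∀ y, θ (π y) = π (cw y) := fun y => π.liftOfRightInverse_comp_apply _ _ _ y
  let kC : C := ⟨T.k, Cyc.k_mem_cent hx T.hk⟩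
  let tC : C := ⟨t, mem_centralizer_singleton_iff.2 (T.P.comm t T.P.aV x hx)⟩
  have hMinj : ∀ (y : C), (y : G) ∈ T.hk.M → π y = 1 → (y : G) = 1 := fun y hy h =>
    T.hk.M_inf_B hy (zpowers_le.2 hx ((hker y).1 h))
  have hkV : T.k * t * T.k⁻¹ ∈ T.P.V := T.hk.normV t T.P.aV
  have ha2 : π tC * π tC = 1 := by
    rw [← map_mul, show tC * tC = 1 from Subtype.ext (T.P.sqV t T.P.aV), map_one]
  have ha1 : π tC ≠ 1 := fun h => T.P.ne_one (hMinj tC (T.hk.V_le_M T.P.aV) h)
  have hc3 : π kC * π kC * π kC = 1 := by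
    rw [← map_mul, ← map_mul, show kC * kC * kC = 1 from Subtype.ext (by
      show T.k * T.k * T.k = 1
      rw [← T.hk.k3, pow_succ, pow_two]), map_one]
  have hc1 : π kC ≠ 1 := fun h => T.hk.k_ne_one (hMinj kC T.hk.k_mem_M h)
  have hne : π kC * π tC * (π kC)⁻¹ ≠ π tC := fun h => by
    have h1 : π (kC * tC * kC⁻¹ * tC⁻¹) = 1 := by rw [map_mul, map_mul, map_mul, map_inv, map_inv, h, mul_inv_cancel]
    have h2 : T.k * t * T.k⁻¹ * t⁻¹ = 1 := hMinj _
      (mul_mem (T.hk.V_le_M hkV) (inv_mem (T.hk.V_le_M T.P.aV))) h1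
    exact T.hk.moves (mul_inv_eq_one.1 h2)
  have hcomm : π tC * (π kC * π tC * (π kC)⁻¹) = π kC * π tC * (π kC)⁻¹ * π tC := by
    simp only [← map_mul, ← map_inv]
    exact congrArg π (Subtype.ext (T.P.V_comm T.P.aV hkV))
  have hfix : ∀ y : C, (y : G) ∈ T.hk.M → π (cw y) = π y := fun y hy => by
    have hcy : cw y = y := Subtype.ext (by
      show w * y * w = y
      rw [← T.hk.M_comm_B hy hw, mul_assoc, hw2, mul_one])
    rw [hcy]
  have hθ1 := Alt5.aut_fixing_alt4 θ ha2 ha1 hc3 hc1 hcomm hne ((hθ tC).trans (hfix tC (T.hk.V_le_M T.P.aV)))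
    ((hθ kC).trans (hfix kC T.hk.k_mem_M))
  -- the complement
  set S : Subgroup C := (centralizer ({w} : Set G)).subgroupOf C with hS
  have hSmem : ∀ y : C, y ∈ S ↔ w * (y : G) * w = y := fun y => by
    rw [mem_subgroupOf, mem_centralizer_singleton_iff]
    constructor
    · intro h; rw [← h, mul_assoc, hw2, mul_one]
    · intro h
      calc (y : G) * w = w * y * w * w := by rw [h]
        _ = w * y := by rw [mul_assoc, hw2, mul_one]
  have hinj : ∀ y ∈ S, π y = 1 → y = 1 := by
    intro y hy h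
    obtain ⟨j, hj⟩ := mem_zpowers_iff.1 ((hker y).1 h)
    have h1 := (hSmem y).1 hy
    rw [← hj] at h1
    have h2 : w * x ^ j * w = x⁻¹ ^ j := by
      calc w * x ^ j * w = w * x ^ j * w⁻¹ := by rw [hwinv]
        _ = (w * x * w⁻¹) ^ j := (conj_zpow).symm
        _ = _ := by rw [hwinv, hwx]
    rw [h2, inv_zpow] at h1
    have h3 : x ^ (2 * j) = 1 := by
      rw [two_mul, zpow_add]
      nth_rw 1 [← h1]
      exact inv_mul_cancel _
    have h5 : (5 : ℤ) ∣ 2 * j := by
      have := orderOf_dvd_iff_zpow_eq_one.2 h3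
      rwa [hx5] at this
    obtain ⟨l, hl⟩ : (5 : ℤ) ∣ j := by omega
    refine Subtype.ext ?_
    rw [← hj, hl, zpow_mul, zpow_ofNat, hx51, one_zpow]
    rfl
  have hsurj : ∀ σ, ∃ y ∈ S, π y = σ := by
    intro σ
    obtain ⟨y, rfl⟩ := hπ σ
    have hxC : x ∈ C := mem_centralizer_singleton_iff.2 rfl
    have h1 : π (cw y * y⁻¹) = 1 := by rw [map_mul, map_inv, ← hθ y, hθ1, mul_inv_cancel]
    obtain ⟨j, hj⟩ := mem_zpowers_iff.1 ((hker _).1 h1)
    change x ^ j = w * y * w * (y : G)⁻¹ at hj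
    have hyx : Commute (y : G) x := mem_centralizer_singleton_iff.1 y.2
    refine ⟨y * ⟨x ^ (3 * j), zpow_mem hxC _⟩, (hSmem _).2 ?_, ?_⟩
    · show w * (y * x ^ (3 * j)) * w = y * x ^ (3 * j)
      have h2 : w * x ^ (3 * j) * w = x⁻¹ ^ (3 * j) := by
        calc w * x ^ (3 * j) * w = w * x ^ (3 * j) * w⁻¹ := by rw [hwinv]
          _ = (w * x * w⁻¹) ^ (3 * j) := (conj_zpow).symm
          _ = _ := by rw [hwinv, hwx]
      have h3 : w * y * w = x ^ j * y := by rw [hj, inv_mul_cancel_right]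
      calc w * (y * x ^ (3 * j)) * w = w * y * (w * w) * x ^ (3 * j) * w := by rw [hw2]; group
        _ = w * y * w * (w * x ^ (3 * j) * w) := by group
        _ = y * x ^ j * x⁻¹ ^ (3 * j) := by rw [h2, h3, (hyx.zpow_right j).eq]
        _ = y * x ^ (3 * j) := by
          rw [inv_zpow, mul_assoc, ← zpow_neg, ← zpow_add]
          congr 1
          have h55 : x ^ (5 * j) = 1 := by rw [zpow_mul, zpow_ofNat, hx51, one_zpow]
          rw [show j + -(3 * j) = 3 * j + -(5 * j) by ring, zpow_add, zpow_neg, h55, inv_one, mul_one]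
    · rw [map_mul, (hker ⟨x ^ (3 * j), zpow_mem hxC _⟩).2 (zpow_mem (mem_zpowers x) _), mul_one]
  have hlift : ∀ y ∈ S, ∀ n : ℕ, (π y) ^ n = 1 → (y : G) ^ n = 1 := fun y hy n h =>
    congrArg Subtype.val (hinj _ (pow_mem hy n) (by rw [map_pow, h]))
  have hkS : kC ∈ S := (hSmem _).2 (by
    show w * T.k * w = T.k
    rw [← T.hk.centB w hw, mul_assoc, hw2, mul_one])
  have htS : tC ∈ S := (hSmem _).2 (by
    show w * t * w = t
    rw [← T.P.comm t T.P.aV w hw, mul_assoc, hw2, mul_one])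
  obtain ⟨h31, d, hd2, had, hcd⟩ := Alt5.exists_third _ ha2 ha1 _ hc3 hne hcomm
  refine ⟨hlift _ (mul_mem hkS htS) 3 (by rw [map_mul]; exact h31), ?_⟩
  obtain ⟨y, hyS, rfl⟩ := hsurj d
  refine ⟨y, mem_centralizer_singleton_iff.1 y.2, mem_centralizer_singleton_iff.1 (mem_subgroupOf.1 hyS), ?_,
    hlift _ (mul_mem htS hyS) 3 (by rw [map_mul]; exact had), hlift _ (mul_mem hkS hyS) 2 (by rw [map_mul]; exact hcd)⟩
  rw [← pow_two]; exact hlift y hyS 2 (by rw [pow_two]; exact hd2)

/-- the third generator moves `f` -/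
theorem not_fix {w f d : G} (hw : w ∈ T.P.B) (hw2 : w * w = 1) (hw1 : w ≠ 1) (hf : f ∈ T.P.B) (hf2 : f * f = 1)
    (hf1 : f ≠ 1) (hfw : f ≠ w) (hfc : f * w = w * f) (hdw : d * w = w * d) (hdf : d * f = f * d) (hd2 : d * d = 1)
    (htd : (t * d) ^ 3 = 1) (hkd : (T.k * d) ^ 2 = 1) : False := by
  classical
  obtain ⟨g, hg⟩ := isConj_iff.1 (T.P.classB w hw (orderOf_eq_prime (by rw [pow_two, hw2]) hw1))
  set c : G →* G := (MulAut.conj g⁻¹).toMonoidHom with hc
  have hcz : c w = D.z := by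
    rw [hc, ← hg]
    show g⁻¹ * (g * D.z * g⁻¹) * g⁻¹⁻¹ = D.z
    group
  have hcinj : Function.Injective c := (MulAut.conj g⁻¹).injective
  have hm : ∀ y, y * w = w * y → c y ∈ centralizer ({D.z} : Set G) := fun y hy => D.mem_C.2 (by
    rw [← hcz, ← map_mul, ← map_mul, hy])
  have hconj : ∀ y, IsConj y (c y) := fun y => isConj_iff.2 ⟨g⁻¹, rfl⟩
  have htw : t * w = w * t := T.P.comm t T.P.aV w hw
  have hkw : T.k * w = w * T.k := T.hk.centB w hw
  set tC : centralizer ({D.z} : Set G) := ⟨c t, hm t htw⟩ with htC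
  set kC : centralizer ({D.z} : Set G) := ⟨c T.k, hm _ hkw⟩ with hkC
  set dC : centralizer ({D.z} : Set G) := ⟨c d, hm d hdw⟩ with hdC
  -- `V` meets `Q` trivially
  have hVQ : ∀ v ∈ T.P.V, v ≠ 1 → c v ∉ D.Q := by
    intro v hv hv1 hq
    have h2 : c v * c v = 1 := by rw [← map_mul, T.P.sqV v hv, map_one]
    have h1 : c v ≠ 1 := fun e => hv1 (hcinj (e.trans (map_one c).symm))
    refine T.P.V_notz hv hv1 ?_
    by_cases hz : c v = D.z
    · exact (hz ▸ hconj v).symm
    · exact (D.invSet_isConj ⟨hq, h2, h1, hz⟩).trans (hconj v).symm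
  have ha2 : D.psi tC * D.psi tC = 1 := by
    rw [← map_mul, show tC * tC = 1 from Subtype.ext (by
      show c t * c t = 1
      rw [← map_mul, T.P.sqV t T.P.aV, map_one]), map_one]
  have ha1 : D.psi tC ≠ 1 := fun h => hVQ t T.P.aV T.P.ne_one ((D.psi_ker tC).1 h)
  have hc3 : D.psi kC * D.psi kC * D.psi kC = 1 := by
    rw [← map_mul, ← map_mul, show kC * kC * kC = 1 from Subtype.ext (by
      show c T.k * c T.k * c T.k = 1
      rw [← map_mul, ← map_mul, show T.k * T.k * T.k = 1 by rw [← T.hk.k3, pow_succ, pow_two], map_one]), map_one]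
  have hkV : T.k * t * T.k⁻¹ ∈ T.P.V := T.hk.normV t T.P.aV
  have hne : D.psi kC * D.psi tC * (D.psi kC)⁻¹ ≠ D.psi tC := by
    intro h
    have h1 : D.psi (kC * tC * kC⁻¹ * tC⁻¹) = 1 := by
      rw [map_mul, map_mul, map_mul, map_inv, map_inv, h, mul_inv_cancel]
    refine hVQ (T.k * t * T.k⁻¹ * t⁻¹) (mul_mem hkV (inv_mem T.P.aV)) (fun e => T.hk.moves (mul_inv_eq_one.1 e)) ?_
    have h2 := (D.psi_ker _).1 h1
    simpa only [htC, hkC, Subgroup.coe_mul, Subgroup.coe_inv, map_mul, map_inv] using h2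
  have hcomm : D.psi tC * (D.psi kC * D.psi tC * (D.psi kC)⁻¹) = D.psi kC * D.psi tC * (D.psi kC)⁻¹ * D.psi tC := by
    simp only [← map_mul, ← map_inv]
    refine congrArg D.psi (Subtype.ext ?_)
    show c t * (c T.k * c t * (c T.k)⁻¹) = c T.k * c t * (c T.k)⁻¹ * c t
    simp only [← map_mul, ← map_inv]
    rw [T.P.V_comm T.P.aV hkV]
  have hd2' : D.psi dC * D.psi dC = 1 := by
    rw [← map_mul, show dC * dC = 1 from Subtype.ext (by
      show c d * c d = 1
      rw [← map_mul, hd2, map_one]), map_one]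
  have had : (D.psi tC * D.psi dC) ^ 3 = 1 := by
    rw [← map_mul, ← map_pow, show (tC * dC) ^ 3 = 1 from Subtype.ext (by
      show (c t * c d) ^ 3 = 1
      rw [← map_mul, ← map_pow, htd, map_one]), map_one]
  have hcd : (D.psi kC * D.psi dC) ^ 2 = 1 := by
    rw [← map_mul, ← map_pow, show (kC * dC) ^ 2 = 1 from Subtype.ext (by
      show (c T.k * c d) ^ 2 = 1
      rw [← map_mul, ← map_pow, hkd, map_one]), map_one]
  -- the pair of `f`
  have hfC : c f * D.z = D.z * c f := D.mem_C.1 (hm f hfc)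
  have hfz : IsConj D.z (c f) := (T.P.classB f hf (orderOf_eq_prime (by rw [pow_two, hf2]) hf1)).trans (hconj f)
  have hfI : c f ∈ invSet D.Q D.z :=
    (D.z_class hfC hfz).resolve_left fun e => hfw (hcinj (e.trans hcz.symm))
  obtain ⟨i, hi⟩ := D.u_cover _ hfI
  have hfix : ∀ (y : G) (hy : y * w = w * y), y * f = f * y → (D.psi ⟨c y, hm y hy⟩).1 i = i := by
    intro y hy hyf
    rw [D.psi_val]
    refine D.phi_of_pair _ (Or.inl ?_)
    show c y * D.u i * (c y)⁻¹ = D.u i
    have h1 : c y * c f * (c y)⁻¹ = c f := by rw [← map_mul, hyf, map_mul, mul_inv_cancel_right]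
    rcases hi with e | e <;> rw [e] at h1
    · exact h1
    · exact mul_right_cancel ((D.conj_mul_z (D.mem_C.1 (hm y hy)) (D.u i)).symm.trans h1)
  exact Alt5.no_common _ ha2 ha1 _ hc3 hne hcomm _ hd2' had hcd i (hfix t htw (T.P.comm t T.P.aV f hf))
    (hfix T.k hkw (T.hk.centB f hf)) (hfix d hdw hdf)

/-- a square root of one among the powers of `k` -/
theorem zpowers_sq {q : G} (hq : q ∈ zpowers T.k) (h : q * q = 1) : q = 1 := by
  rcases mem_zpowers_three T.hk.k3 hq with r | r | r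
  · exact r
  · exfalso
    apply T.hk.k_ne_one
    rw [r] at h
    calc T.k = T.k ^ 3 * (T.k * T.k)⁻¹ := by simp only [pow_succ, pow_zero, one_mul]; group
      _ = 1 := by rw [h, T.hk.k3]; group
  · exfalso
    apply T.hk.k_ne_one
    rw [r, ← pow_add] at h
    calc T.k = T.k ^ (2 + 2) * (T.k ^ 3)⁻¹ := by simp only [pow_succ, pow_zero, one_mul]; group
      _ = 1 := by rw [h, T.hk.k3]; group

theorem val_map {H K : Type*} [Group H] [Group K] (φ : H →* K) (g : ℕ → H) (w : List ℕ) :
    φ (Cert.val g w) = Cert.val (fun l => φ (g l)) w := by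
  rw [Cert.val, map_list_prod, List.map_map]; rfl

include T in
/-- seven elements satisfying the relators -/
theorem exists_system : ∃ g : ℕ → G, (∀ l < 7, g (bigCert.iv l) * g l = 1) ∧
    (∀ r ∈ bigCert.rels, Cert.val g r = 1) ∧ g 0 ≠ 1 := by
  classical
  obtain ⟨ψ, hker, hrange, hlift⟩ := T.exists_psi
  obtain ⟨hma, hmb, ha5, hb5, ha6, hx6⟩ := Alt6.mem_ok
  obtain ⟨ac, haB, hψa⟩ := hlift Alt6.a6 (Equiv.Perm.mem_alternatingGroup.2 hma) ha5
  obtain ⟨bc, hbB, hψb⟩ := hlift Alt6.b6 (Equiv.Perm.mem_alternatingGroup.2 hmb) hb5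
  have hdisj : ∀ y ∈ T.P.B, y ∈ zpowers T.k → y = 1 := fun y hy hk =>
    T.hk.M_inf_B (zpowers_le.2 T.hk.k_mem_M hk) hy
  let gC : ℕ → centralizer ({T.k} : Set G) := fun l => [ac, bc, bc⁻¹].getD l 1
  have hgψ : (fun l => ψ (gC l)) = Alt6.lett Alt6.a6 Alt6.b6 := by
    funext l
    match l with
    | 0 => exact hψa
    | 1 => exact hψb
    | 2 => show ψ bc⁻¹ = Alt6.b6⁻¹; rw [map_inv, hψb]
    | l + 3 => exact map_one ψ
  have hgB : ∀ l, ((gC l : centralizer ({T.k} : Set G)) : G) ∈ T.P.B := by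
    intro l
    match l with
    | 0 => exact haB
    | 1 => exact hbB
    | 2 => exact inv_mem hbB
    | l + 3 => exact one_mem _
  have hvalB : ∀ u : List ℕ, ((Cert.val gC u : centralizer ({T.k} : Set G)) : G) ∈ T.P.B := by
    intro u
    induction u with
    | nil => exact one_mem _
    | cons l u ih => rw [Cert.val_cons, Subgroup.coe_mul]; exact mul_mem (hgB l) ih
  have hψval : ∀ u, ψ (Cert.val gC u) = Cert.val (Alt6.lett Alt6.a6 Alt6.b6) u := fun u => by
    rw [val_map ψ gC u, hgψ]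
  have hone : ∀ u, Cert.val (Alt6.lett Alt6.a6 Alt6.b6) u = 1 → Cert.val gC u = 1 := fun u h =>
    Subtype.ext (hdisj _ (hvalB u) ((hker _).1 ((hψval u).trans h)))
  obtain ⟨h00, h111, h5, hww, hw1', hwxw, hff, hf1', hfw', hfwc, hvvv⟩ := Alt6.words_ok
  have hsplit : ∀ u v, Cert.val gC (u ++ v) = Cert.val gC u * Cert.val gC v := fun u v => Cert.val_append gC u v
  set a : G := (ac : G) with hadef
  set b : G := (bc : G) with hbdef
  have e00 : a * a = 1 := by
    have := congrArg Subtype.val (hone _ h00)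
    simp only [Cert.val, List.map_cons, List.map_nil, List.prod_cons, List.prod_nil, mul_one] at this
    exact this
  have e111 : b * (b * b) = 1 := by
    have := congrArg Subtype.val (hone _ h111)
    simp only [Cert.val, List.map_cons, List.map_nil, List.prod_cons, List.prod_nil, mul_one] at this
    exact this
  set xc : centralizer ({T.k} : Set G) := ac * bc with hxc
  set x : G := (xc : G) with hxdef
  have hxab : x = a * b := rfl
  have e5 : x ^ 5 = 1 := by
    have := congrArg Subtype.val (hone _ h5)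
    simp only [Cert.val, List.map_cons, List.map_nil, List.prod_cons, List.prod_nil, mul_one] at this
    rw [hxab]
    simpa [pow_succ, mul_assoc, gC, hadef, hbdef] using this
  have hx5 : orderOf x = 5 := by
    haveI : Fact (Nat.Prime 5) := ⟨Nat.prime_five⟩
    refine orderOf_eq_prime e5 fun h => hx6 ?_
    have : xc = 1 := Subtype.ext h
    rw [← hψa, ← hψb, ← map_mul, ← hxc, this, map_one]
  set wc := Cert.val gC Alt6.wWord with hwc
  set w : G := (wc : G) with hwdef
  have hw2 : w * w = 1 := congrArg Subtype.val ((hsplit _ _).symm.trans (hone _ hww))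
  have hw1 : w ≠ 1 := fun h => hw1' (by rw [← hψval, ← hwc, show wc = 1 from Subtype.ext h, map_one])
  have hwx : w * x * w = x⁻¹ := by
    have := congrArg Subtype.val (hone _ hwxw)
    rw [hsplit, hsplit, hsplit] at this
    refine eq_inv_of_mul_eq_one_left ?_
    simpa [Cert.val, hwdef, hwc, hxdef, hxc, gC, mul_assoc] using this
  obtain ⟨hkt3, d, hdx, hdw, hd2, htd, hkd⟩ := T.exists_x3 (mul_mem haB hbB) hx5 (hvalB _) hw2 hwx
  have hdx' : d * x = x * d := hdx
  have hdinv : d⁻¹ = d := inv_eq_of_mul_eq_one_right hd2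
  have hdk : d * T.k * d = T.k⁻¹ := by
    refine eq_inv_of_mul_eq_one_right ?_
    calc T.k * (d * T.k * d) = (T.k * d) ^ 2 := by rw [pow_two]; group
      _ = 1 := hkd
  have hθC : ∀ c : centralizer ({T.k} : Set G), d * (c : G) * d ∈ centralizer ({T.k} : Set G) := by
    intro c
    have hc : Commute (c : G) T.k := mem_centralizer_singleton_iff.1 c.2
    have h' : Commute (d * (c : G) * d) T.k⁻¹ := by
      rw [← hdk]
      show d * c * d * (d * T.k * d) = d * T.k * d * (d * c * d)
      calc d * c * d * (d * T.k * d) = d * (c * (d * d) * T.k) * d := by group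
        _ = d * (T.k * (d * d) * c) * d := by rw [hd2, mul_one, mul_one, hc.eq]
        _ = _ := by group
    exact mem_centralizer_singleton_iff.2 (inv_inv T.k ▸ h'.inv_right).eq
  let θ : centralizer ({T.k} : Set G) →* centralizer ({T.k} : Set G) :=
    { toFun := fun c => ⟨d * c * d, hθC c⟩
      map_one' := Subtype.ext (show d * 1 * d = 1 by rw [mul_one, hd2])
      map_mul' := fun c c' => Subtype.ext (show d * (c * c') * d = d * c * d * (d * c' * d) by
        calc d * ((c : G) * c') * d = d * c * (1 : G) * c' * d := by group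
          _ = _ := by rw [← hd2]; group) }
  have hθx : θ xc = xc := Subtype.ext (by
    show d * x * d = x
    rw [hdx', mul_assoc, hd2, mul_one])
  have hθw : θ wc = wc := Subtype.ext (by
    show d * w * d = w
    rw [hdw, mul_assoc, hd2, mul_one])
  set y := ψ (θ ac) with hy
  have hac2 : ac * ac = 1 := Subtype.ext e00
  have hθb : θ bc = θ ac * xc := by
    nth_rw 1 [show bc = ac * xc by rw [hxc, ← mul_assoc, hac2, one_mul]]
    rw [map_mul, hθx]
  have hψθ : (fun l => ψ (θ (gC l))) = Alt6.lett y (y * (Alt6.a6 * Alt6.b6)) := by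
    have hb' : ψ (θ bc) = y * (Alt6.a6 * Alt6.b6) := by rw [hθb, map_mul, hxc, map_mul, hψa, hψb, hy]
    funext l
    match l with
    | 0 => rfl
    | 1 => exact hb'
    | 2 => show ψ (θ bc⁻¹) = (y * (Alt6.a6 * Alt6.b6))⁻¹; rw [map_inv, map_inv, hb']
    | l + 3 => exact (congrArg ψ (map_one θ)).trans (map_one ψ)
  have hψθval : ∀ u, ψ (θ (Cert.val gC u)) = Cert.val (Alt6.lett y (y * (Alt6.a6 * Alt6.b6))) u := fun u => by
    rw [← MonoidHom.comp_apply, val_map (ψ.comp θ) gC u]
    exact congrArg (fun g => Cert.val g u) hψθ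
  have hycases : y = Alt6.a6 ∨ y = Alt6.y6 := by
    refine Alt6.image_cases y (Equiv.Perm.mem_alternatingGroup.1 (hrange.le ⟨_, rfl⟩)) ?_ ?_ ?_
    · rw [hy, ← map_mul, ← map_mul, hac2, map_one, map_one]
    · rw [hy, ← hψa, ← hψb, ← map_mul, ← map_mul, ← hxc, ← hθb, ← map_pow, ← map_pow,
        show bc ^ 3 = 1 from Subtype.ext (by
          show b ^ 3 = 1
          rw [pow_succ', pow_two]; exact e111), map_one, map_one]
    · rw [← hψθval, ← hwc, hθw, hwc, hψval]
  rcases hycases with hy6 | hy6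
  · exfalso
    have hθa : θ ac = ac := by
      have h1 : ψ (ac⁻¹ * θ ac) = 1 := by rw [map_mul, map_inv, ← hy, hy6, hψa, inv_mul_cancel]
      have h2 := (hker _).1 h1
      set q := ((ac⁻¹ * θ ac : centralizer ({T.k} : Set G)) : G) with hq
      have haq : Commute a q := by
        obtain ⟨n, hn⟩ := mem_zpowers_iff.1 h2
        rw [← hn]
        exact (show Commute a T.k from (T.hk.centB a haB).symm).zpow_right n
      have hq2 : q * q = 1 := by
        have he : a * q = ((θ ac : centralizer ({T.k} : Set G)) : G) := by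
          rw [hq, Subgroup.coe_mul, Subgroup.coe_inv, ← hadef, mul_inv_cancel_left]
        have hsq : (a * q) * (a * q) = 1 := by
          rw [he, ← Subgroup.coe_mul, ← map_mul, hac2, map_one]; rfl
        calc q * q = a * a * (q * q) := by rw [e00, one_mul]
          _ = a * (a * q) * q := by group
          _ = a * (q * a) * q := by rw [haq.eq]
          _ = a * q * (a * q) := by group
          _ = 1 := hsq
      exact (inv_mul_eq_one.1 (show ac⁻¹ * θ ac = 1 from Subtype.ext (T.zpowers_sq h2 hq2))).symm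
    have hθbb : θ bc = bc := by rw [hθb, hθa, hxc, ← mul_assoc, hac2, one_mul]
    have hfixall : ∀ u, θ (Cert.val gC u) = Cert.val gC u := fun u => by
      rw [val_map θ gC u]
      congr 1
      funext l
      match l with
      | 0 => exact hθa
      | 1 => exact hθbb
      | 2 => show θ bc⁻¹ = bc⁻¹; rw [map_inv, hθbb]
      | l + 3 => exact map_one θ
    set fc := Cert.val gC Alt6.fWord with hfc
    have hdf : d * (fc : G) = fc * d := by
      have : d * (fc : G) * d = fc := congrArg Subtype.val (hfixall Alt6.fWord)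
      calc d * (fc : G) = d * fc * d * d := by rw [mul_assoc (d * (fc : G)), hd2, mul_one]
        _ = fc * d := by rw [this]
    refine T.not_fix (f := (fc : G)) (hvalB _) hw2 hw1 (hvalB _) ?_ ?_ ?_ ?_ hdw hdf hd2 htd hkd
    · exact congrArg Subtype.val ((hsplit _ _).symm.trans (hone _ hff))
    · exact fun h => hf1' (by rw [← hψval, show Cert.val gC Alt6.fWord = 1 from Subtype.ext h, map_one])
    · intro h
      exact hfw' (by rw [← hψval, ← hψval, show Cert.val gC Alt6.fWord = Cert.val gC Alt6.wWord from Subtype.ext h])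
    · have h := congrArg Subtype.val (hone _ hfwc)
      rw [hsplit, hsplit, hsplit] at h
      have h' : (fc : G) * w * fc * w = 1 := h
      have hf2 : (fc : G) * fc = 1 := congrArg Subtype.val ((hsplit _ _).symm.trans (hone _ hff))
      calc (fc : G) * w = fc * w * fc * w * (w⁻¹ * (fc : G)⁻¹) := by group
        _ = w * fc := by
          rw [h', one_mul, inv_eq_of_mul_eq_one_right hw2, inv_eq_of_mul_eq_one_right hf2]
  · set vc := θ (Cert.val gC Alt6.vWord) with hvc
    obtain ⟨hcom6, hind6⟩ := Alt6.pair_ok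
    have hψv : ψ vc = Cert.val (Alt6.lett Alt6.y6 (Alt6.y6 * (Alt6.a6 * Alt6.b6))) Alt6.vWord := by
      rw [hvc, hψθval, hy6]
    set R : centralizer ({T.k} : Set G) := bc⁻¹ * vc⁻¹ * bc * vc with hR
    have hRk : (R : G) ∈ zpowers T.k := (hker _).1 (by
      rw [hR, map_mul, map_mul, map_mul, map_inv, map_inv, hψb, hψv, mul_assoc, hcom6]
      group)
    have hv3 : (vc : G) ^ 3 = 1 := by
      have h1 : Cert.val gC Alt6.vWord * Cert.val gC Alt6.vWord * Cert.val gC Alt6.vWord = 1 := by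
        rw [← hsplit, ← hsplit]; exact hone _ hvvv
      have : vc ^ 3 = 1 := by rw [hvc, ← map_pow, pow_succ, pow_two, h1, map_one]
      exact congrArg Subtype.val this
    have hR1 : (R : G) ≠ 1 := by
      intro h
      refine T.not_commute (u := b) (v := (vc : G)) (mem_centralizer_singleton_iff.1 bc.2)
        (mem_centralizer_singleton_iff.1 vc.2) (by rw [pow_succ', pow_two]; exact e111) hv3 ?_ ?_
      · intro i j hm
        refine hind6 i j ?_
        rw [← hψv, ← hψb, ← map_pow, ← map_pow, ← map_mul]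
        exact (hker _).2 hm
      · have h' : (bc : G)⁻¹ * (vc : G)⁻¹ * bc * vc = 1 := h
        calc b * (vc : G) = (vc : G) * b * ((bc : G)⁻¹ * (vc : G)⁻¹ * bc * vc) := by rw [hbdef]; group
          _ = vc * b := by rw [h', mul_one]
    set x1 : G := (R : G)⁻¹ with hx1
    have hx1k : x1 = T.k ∨ x1 = T.k⁻¹ := by
      rcases mem_zpowers_three T.hk.k3 hRk with e | e | e
      · exact absurd e hR1
      · exact Or.inr (by rw [hx1, e])
      · refine Or.inl ?_
        rw [hx1, e]
        refine inv_eq_of_mul_eq_one_right ?_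
        rw [← pow_succ, T.hk.k3]
    have ht2 : t * t = 1 := T.P.sqV t T.P.aV
    have hx13 : x1 ^ 3 = 1 := by
      rcases hx1k with e | e <;> rw [e]
      · exact T.hk.k3
      · rw [inv_pow, T.hk.k3, inv_one]
    have hx1t : (x1 * t) ^ 3 = 1 := by
      rcases hx1k with e | e <;> rw [e]
      · exact hkt3
      · calc (T.k⁻¹ * t) ^ 3 = ((t * T.k) ^ 3)⁻¹ := by
              rw [← inv_pow, mul_inv_rev, inv_eq_of_mul_eq_one_right ht2]
          _ = (t * (T.k * t) ^ 3 * t⁻¹)⁻¹ := by simp only [pow_succ, pow_zero, one_mul]; group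
          _ = 1 := by rw [hkt3, mul_one, mul_inv_cancel, inv_one]
    have hx1d : (x1 * d) ^ 2 = 1 := by
      rcases hx1k with e | e <;> rw [e]
      · exact hkd
      · calc (T.k⁻¹ * d) ^ 2 = (d * T.k * d) * d * (d * T.k * d) * d := by rw [hdk, pow_two]; group
          _ = d * T.k * (d * d) * (d * T.k) * (d * d) := by group
          _ = d * (T.k * d) ^ 2 * d⁻¹ := by rw [hd2, mul_one, mul_one, pow_two]; group
          _ = 1 := by rw [hkd]; group
    have hx1B : ∀ c ∈ T.P.B, Commute x1 c := by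
      intro c hc
      rcases hx1k with e | e <;> rw [e]
      · exact T.hk.centB c hc
      · exact (show Commute T.k c from T.hk.centB c hc).inv_left
    have htB : ∀ c ∈ T.P.B, Commute t c := fun c hc => T.P.comm t T.P.aV c hc
    let g : ℕ → G := fun l => [a, b, b⁻¹, x1, x1⁻¹, t, d].getD l 1
    have hgval : ∀ u : List ℕ, (∀ l ∈ u, l < 3) → Cert.val g u = ((Cert.val gC u : centralizer ({T.k} : Set G)) : G) := by
      intro u
      induction u with
      | nil => exact fun _ => rfl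
      | cons l u ih =>
        intro hl
        have h3 := hl l List.mem_cons_self
        rw [Cert.val_cons, Cert.val_cons, ih fun m hm => hl m (List.mem_cons_of_mem _ hm), Subgroup.coe_mul]
        congr 1
        interval_cases l <;> rfl
    refine ⟨g, ?_, ?_, ?_⟩
    · intro l hl
      interval_cases l
      · exact e00
      · exact inv_mul_cancel b
      · exact mul_inv_cancel b
      · exact inv_mul_cancel x1
      · exact mul_inv_cancel x1
      · exact ht2
      · exact hd2
    · intro r hr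
      have hsmall : ∀ u : List ℕ, (∀ l ∈ u, l < 3) → Cert.val (Alt6.lett Alt6.a6 Alt6.b6) u = 1 → Cert.val g u = 1 :=
        fun u hu h => by rw [hgval u hu, hone u h]; rfl
      have hainv : a⁻¹ = a := inv_eq_of_mul_eq_one_right e00
      have htinv : t⁻¹ = t := inv_eq_of_mul_eq_one_right ht2
      have hrels : bigCert.rels = [[1, 1, 1], [0, 1, 0, 1, 0, 1, 0, 1, 0, 1], [3, 3, 3], [3, 5, 3, 5, 3, 5],
          [5, 6, 5, 6, 5, 6], [3, 6, 3, 6], [0, 0], [5, 5], [6, 6], [0, 4, 0, 3], [0, 5, 0, 5], [2, 4, 1, 3],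
          [2, 5, 1, 5], [2, 0, 6, 0, 1, 6], Alt6.wWord ++ [6] ++ Alt6.wWord ++ [6],
          [3, 2, 6, 1, 0, 2, 0, 2, 6, 1, 6, 1, 0, 1, 0, 2, 6]] := by decide +kernel
      rw [hrels] at hr
      simp only [List.mem_cons, List.not_mem_nil, or_false] at hr
      rcases hr with rfl | rfl | rfl | rfl | rfl | rfl | rfl | rfl | rfl | rfl | rfl | rfl | rfl | rfl | rfl | rfl
      · exact hsmall _ (by decide) h111
      · exact hsmall _ (by decide) h5
      · show x1 * (x1 * (x1 * 1)) = 1
        refine Eq.trans ?_ hx13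
        simp only [pow_succ, pow_zero, one_mul, mul_one, mul_assoc]
      · show x1 * (t * (x1 * (t * (x1 * (t * 1))))) = 1
        refine Eq.trans ?_ hx1t
        simp only [pow_succ, pow_zero, one_mul, mul_one, mul_assoc]
      · show t * (d * (t * (d * (t * (d * 1))))) = 1
        refine Eq.trans ?_ htd
        simp only [pow_succ, pow_zero, one_mul, mul_one, mul_assoc]
      · show x1 * (d * (x1 * (d * 1))) = 1
        refine Eq.trans ?_ hx1d
        simp only [pow_succ, pow_zero, one_mul, mul_one, mul_assoc]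
      · exact hsmall _ (by decide) h00
      · show t * (t * 1) = 1
        rw [mul_one, ht2]
      · show d * (d * 1) = 1
        rw [mul_one, hd2]
      · show a * (x1⁻¹ * (a * (x1 * 1))) = 1
        rw [mul_one, ← (hx1B a haB).eq, inv_mul_cancel_left, e00]
      · show a * (t * (a * (t * 1))) = 1
        rw [mul_one, ← (htB a haB).eq, ← mul_assoc t t, ht2, one_mul, e00]
      · show b⁻¹ * (x1⁻¹ * (b * (x1 * 1))) = 1
        rw [mul_one, ← (hx1B b hbB).eq, inv_mul_cancel_left, inv_mul_cancel]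
      · show b⁻¹ * (t * (b * (t * 1))) = 1
        rw [mul_one, ← (htB b hbB).eq, ← mul_assoc t t, ht2, one_mul, inv_mul_cancel]
      · show b⁻¹ * (a * (d * (a * (b * (d * 1))))) = 1
        calc b⁻¹ * (a * (d * (a * (b * (d * 1))))) = b⁻¹ * a⁻¹ * (d * (a * b) * d) := by rw [hainv]; group
          _ = 1 := by rw [← hxab, hdx', mul_assoc x d d, hd2, hxab]; group
      · rw [Cert.val_append, Cert.val_append, Cert.val_append, hgval _ (by decide), ← hwc, ← hwdef]
        show w * (d * 1) * w * (d * 1) = 1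
        rw [mul_one, mul_assoc w d w, hdw, ← mul_assoc w w, hw2, one_mul, hd2]
      · have hvG : (vc : G) = d * (b * (a * (b * (a * (b⁻¹ * 1))))) * d := rfl
        have hRG : (R : G) = b⁻¹ * (vc : G)⁻¹ * b * vc := rfl
        show x1 * (b⁻¹ * (d * (b * (a * (b⁻¹ * (a * (b⁻¹ * (d * (b * (d * (b * (a * (b * (a * (b⁻¹ * (d * 1)))))))))))))))) = 1
        refine Eq.trans ?_ (inv_mul_cancel (R : G))
        rw [hx1]
        congr 1
        rw [hRG, hvG]
        simp only [mul_inv_rev, inv_one, mul_one, one_mul, inv_inv, hainv, hdinv, mul_assoc]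
    · intro h
      exact ha6 (by rw [← hψa, show ac = 1 from Subtype.ext h, map_one])

end Triple

variable (D)

include D in
/-- A group of Hall-Janko type is isomorphic to the Hall-Janko group. -/
theorem exists_iso : Nonempty (G ≃* JTwoPerm.jTwo) := by
  obtain ⟨t, ⟨T⟩⟩ := D.exists_triple
  obtain ⟨g, hinv, hrel, hne⟩ := T.exists_system
  exact Present.iso_of_system D.card_G g hinv hrel hne

end Data

end Cfsg.Agent.JTwoType
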