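import Cfsg.Agent.Lib.JTwoType.Order

/-!
# Groups of Hall-Janko type: the four-group attached to a class of involutions

* `Data.Pair D a`: the decomposition `C(a) = V × B` for any `a` in the class of `t`
* `Pair.V_unique`: `V` is the centre of `C(a)`
-/

set_option autoImplicit false
set_option linter.unusedSectionVars false
set_option linter.style.haveILetI false
set_option maxHeartbeats 800000

namespace Cfsg.Agent.JTwoType

open Cfsg Subgroup OrderJTwo
open scoped commutatorElement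

variable {G : Type*} [Group G] [Finite G]

namespace Alt5

theorem center_trivial : ∀ x : A5, (∀ y : A5, x * y = y * x) → x = 1 := by decide +kernel

theorem two_involutions : ∀ x : A5, ∃ a : A5, a * a = 1 ∧ (a * x) * (a * x) = 1 := by decide +kernel

end Alt5

theorem cent_conj (g a : G) :
    centralizer ({g * a * g⁻¹} : Set G) = (centralizer ({a} : Set G)).map (MulAut.conj g).toMonoidHom := by
  ext y
  simp only [mem_map, mem_centralizer_singleton_iff, MulEquiv.coe_toMonoidHom, MulAut.conj_apply]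
  constructor
  · intro hy
    refine ⟨g⁻¹ * y * g, ?_, by group⟩
    calc g⁻¹ * y * g * a = g⁻¹ * (y * (g * a * g⁻¹)) * g := by group
      _ = g⁻¹ * (g * a * g⁻¹ * y) * g := by rw [hy]
      _ = a * (g⁻¹ * y * g) := by group
  · rintro ⟨x, hx, rfl⟩
    rw [conj_mul, conj_mul, hx]

theorem card_cent_isConj {a b : G} (h : IsConj a b) :
    Nat.card (centralizer ({b} : Set G)) = Nat.card (centralizer ({a} : Set G)) := by
  obtain ⟨g, rfl⟩ := isConj_iff.1 h
  rw [cent_conj, card_map_of_injective (MulAut.conj g).injective]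

namespace Data

/-- `C(a) = V × B` with `V` a four-group containing `a` and `B ≅ A5`. -/
structure Pair (D : Data G) (a : G) where
  V : Subgroup G
  B : Subgroup G
  hVC : V ≤ centralizer ({a} : Set G)
  hBC : B ≤ centralizer ({a} : Set G)
  cardV : Nat.card V = 4
  sqV : ∀ v ∈ V, v * v = 1
  aV : a ∈ V
  comm : ∀ v ∈ V, ∀ b ∈ B, v * b = b * v
  disj : V ⊓ B = ⊥
  cardC : Nat.card (centralizer ({a} : Set G)) = 240
  iso : Nonempty (B ≃* alternatingGroup (Fin 5))
  classB : ∀ x ∈ B, orderOf x = 2 → IsConj D.z x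
  classOut : ∀ x ∈ centralizer ({a} : Set G), orderOf x = 2 → x ∉ B → IsConj a x
  notz : ¬ IsConj D.z a
  ne_one : a ≠ 1

variable {D : Data G}

/-- the decomposition for an outer involution -/
noncomputable def pairOuter {t : G} (ht : D.Outer t) : D.Pair t where
  V := (D.prod ht).V
  B := (D.prod ht).B
  hVC := (D.prod ht).hVC
  hBC := (D.prod ht).hBC
  cardV := (D.prod ht).cardV
  sqV := (D.prod ht).sqV
  aV := (D.prod ht).tV
  comm := (D.prod ht).comm
  disj := (D.prod ht).disj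
  cardC := (D.prod ht).cardC
  iso := (D.prod ht).iso
  classB := (D.prod ht).classB
  classOut := (D.prod ht).classOut
  notz := D.outer_not_conj ht
  ne_one := fun h => ht.out (h ▸ one_mem _)

theorem exists_pair {a : G} (ha : orderOf a = 2) (haz : ¬ IsConj D.z a) : Nonempty (D.Pair a) := by
  obtain ⟨t, ht, -⟩ := D.exists_outer
  obtain ⟨g, rfl⟩ := isConj_iff.1 ((D.classes ht ha).resolve_left haz)
  let P := pairOuter ht
  let c := (MulAut.conj g).toMonoidHom
  have hc : Function.Injective c := (MulAut.conj g).injective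
  have hord : ∀ x, orderOf (c x) = orderOf x := fun x => orderOf_injective c hc x
  refine ⟨{ V := P.V.map c, B := P.B.map c, hVC := ?_, hBC := ?_, cardV := ?_, sqV := ?_, aV := ?_, comm := ?_,
            disj := ?_, cardC := ?_, iso := ?_, classB := ?_, classOut := ?_, notz := haz, ne_one := ?_ }⟩
  · rw [cent_conj]; exact map_mono P.hVC
  · rw [cent_conj]; exact map_mono P.hBC
  · rw [card_map_of_injective hc, P.cardV]
  · rintro _ ⟨v, hv, rfl⟩; rw [← map_mul, P.sqV v hv, map_one]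
  · exact ⟨t, P.aV, rfl⟩
  · rintro _ ⟨v, hv, rfl⟩ _ ⟨b, hb, rfl⟩; rw [← map_mul, ← map_mul, P.comm v hv b hb]
  · rw [← map_inf _ _ c hc, P.disj, Subgroup.map_bot]
  · rw [cent_conj, card_map_of_injective hc, P.cardC]
  · exact ⟨(P.B.equivMapOfInjective c hc).symm.trans P.iso.some⟩
  · rintro _ ⟨x, hx, rfl⟩ h2
    exact (P.classB x hx (hord x ▸ h2)).trans (isConj_iff.2 ⟨g, rfl⟩)
  · intro y hy h2 hyB
    rw [cent_conj] at hy
    obtain ⟨x, hx, rfl⟩ := hy
    have h := P.classOut x hx (hord x ▸ h2) fun h => hyB ⟨x, h, rfl⟩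
    exact (isConj_iff.2 ⟨g, rfl⟩ : IsConj t _).symm.trans (h.trans (isConj_iff.2 ⟨g, rfl⟩))
  · intro e
    rw [e, orderOf_one] at ha
    omega

namespace Pair

variable {a : G} (P : D.Pair a)

theorem cardB : Nat.card P.B = 60 := by
  obtain ⟨e⟩ := P.iso
  rw [Nat.card_congr e.toEquiv, Alt5.card_A5]

theorem unique {v v' b b' : G} (hv : v ∈ P.V) (hv' : v' ∈ P.V) (hb : b ∈ P.B) (hb' : b' ∈ P.B)
    (h : v * b = v' * b') : v = v' ∧ b = b' := by
  have h1 : v'⁻¹ * v = b' * b⁻¹ := by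
    calc v'⁻¹ * v = v'⁻¹ * (v * b) * b⁻¹ := by group
      _ = _ := by rw [h]; group
  have h2 : v'⁻¹ * v ∈ P.V ⊓ P.B :=
    mem_inf.2 ⟨mul_mem (inv_mem hv') hv, h1 ▸ mul_mem hb' (inv_mem hb)⟩
  rw [P.disj, mem_bot] at h2
  exact ⟨(inv_mul_eq_one.1 h2).symm, (mul_inv_eq_one.1 (h1.symm.trans h2)).symm⟩

theorem decomp {x : G} (hx : x ∈ centralizer ({a} : Set G)) : ∃ v ∈ P.V, ∃ b ∈ P.B, x = v * b := by
  let f : P.V × P.B → centralizer ({a} : Set G) := fun p => ⟨p.1 * p.2, mul_mem (P.hVC p.1.2) (P.hBC p.2.2)⟩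
  have hf : Function.Injective f := fun p q h => by
    obtain ⟨e1, e2⟩ := P.unique p.1.2 q.1.2 p.2.2 q.2.2 (congrArg Subtype.val h)
    exact _root_.Prod.ext (Subtype.ext e1) (Subtype.ext e2)
  obtain ⟨p, hp⟩ := (hf.bijective_of_nat_card_le (by rw [Nat.card_prod, P.cardV, P.cardB, P.cardC])).2 ⟨x, hx⟩
  exact ⟨_, p.1.2, _, p.2.2, (congrArg Subtype.val hp).symm⟩

theorem V_comm {v w : G} (hv : v ∈ P.V) (hw : w ∈ P.V) : v * w = w * v := by
  have h := P.sqV _ (mul_mem hv hw)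
  have h1 : v * w = (v * w)⁻¹ := (inv_eq_of_mul_eq_one_right h).symm
  rw [h1, mul_inv_rev, inv_eq_of_mul_eq_one_right (P.sqV v hv), inv_eq_of_mul_eq_one_right (P.sqV w hw)]

theorem centerB {b : G} (hb : b ∈ P.B) (h : ∀ y ∈ P.B, b * y = y * b) : b = 1 := by
  obtain ⟨e⟩ := P.iso
  have h1 := Alt5.center_trivial (e ⟨b, hb⟩) fun y => by
    obtain ⟨x, rfl⟩ := e.surjective y
    rw [← map_mul, ← map_mul]
    exact congrArg e (Subtype.ext (h x x.2))
  exact congrArg Subtype.val (e.injective (h1.trans (map_one e).symm))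

theorem mem_V_iff {x : G} :
    x ∈ P.V ↔ x ∈ centralizer ({a} : Set G) ∧ ∀ y ∈ centralizer ({a} : Set G), x * y = y * x := by
  constructor
  · intro hx
    refine ⟨P.hVC hx, fun y hy => ?_⟩
    obtain ⟨v, hv, b, hb, rfl⟩ := P.decomp hy
    rw [← mul_assoc, P.V_comm hx hv, mul_assoc, P.comm x hx b hb, ← mul_assoc]
  · rintro ⟨hx, hc⟩
    obtain ⟨v, hv, b, hb, rfl⟩ := P.decomp hx
    have hb1 : b = 1 := P.centerB hb fun y hy => by
      have h := hc y (P.hBC hy)
      rw [mul_assoc, ← mul_assoc y, ← P.comm v hv y hy, mul_assoc v y] at h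
      exact mul_left_cancel h
    rw [hb1, mul_one]; exact hv

theorem notMem_B {v : G} (hv : v ∈ P.V) (hv1 : v ≠ 1) : v ∉ P.B := fun h =>
  hv1 (mem_bot.1 (P.disj ▸ mem_inf.2 ⟨hv, h⟩))

theorem ord_V {v : G} (hv : v ∈ P.V) (hv1 : v ≠ 1) : orderOf v = 2 :=
  orderOf_eq_prime (by rw [pow_two]; exact P.sqV v hv) hv1

theorem V_isConj {v : G} (hv : v ∈ P.V) (hv1 : v ≠ 1) : IsConj a v :=
  P.classOut v (P.hVC hv) (P.ord_V hv hv1) (P.notMem_B hv hv1)

theorem V_notz {v : G} (hv : v ∈ P.V) (hv1 : v ≠ 1) : ¬ IsConj D.z v := fun h =>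
  P.notz (h.trans (P.V_isConj hv hv1).symm)

theorem cent_V {v : G} (hv : v ∈ P.V) (hv1 : v ≠ 1) : centralizer ({v} : Set G) = centralizer ({a} : Set G) := by
  refine (Subgroup.eq_of_le_of_card_ge (fun y hy => mem_centralizer_singleton_iff.2 ?_) ?_).symm
  · exact ((P.mem_V_iff.1 hv).2 y hy).symm
  · rw [card_cent_isConj (P.V_isConj hv hv1)]

theorem V_unique {b : G} (Q : D.Pair b) (h : centralizer ({b} : Set G) = centralizer ({a} : Set G)) :
    Q.V = P.V := by
  ext x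
  rw [Q.mem_V_iff, P.mem_V_iff, h]

theorem mem_B_of_z {x : G} (hx : x ∈ centralizer ({a} : Set G)) (h : IsConj D.z x) : x ∈ P.B := by
  by_contra hn
  have h2 : orderOf x = 2 := orderOf_eq_prime (by rw [pow_two]; exact sq_of_isConj h D.z2)
    fun e => D.hQ.zne (isConj_one_left.1 (e ▸ h))
  exact P.notz (h.trans (P.classOut x hx h2 hn).symm)

theorem B_gen {x : G} (hx : x ∈ P.B) : ∃ u ∈ P.B, ∃ w ∈ P.B, u * u = 1 ∧ w * w = 1 ∧ x = u * w := by
  obtain ⟨e⟩ := P.iso
  obtain ⟨σ, h1, h2⟩ := Alt5.two_involutions (e ⟨x, hx⟩)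
  refine ⟨(e.symm σ : P.B), (e.symm σ).2, (e.symm σ * ⟨x, hx⟩ : P.B), (e.symm σ * ⟨x, hx⟩).2, ?_, ?_, ?_⟩
  · rw [← Subgroup.coe_mul, ← map_mul, h1, map_one]; rfl
  · rw [← Subgroup.coe_mul, show e.symm σ * ⟨x, hx⟩ = e.symm (σ * e ⟨x, hx⟩) by
      rw [map_mul, MulEquiv.symm_apply_apply], ← map_mul, h2, map_one]; rfl
  · rw [← Subgroup.coe_mul, ← mul_assoc, ← map_mul, h1, map_one, one_mul]

/-- automorphisms of `G` fixing `C(a)` preserve `B` -/
theorem conj_B {n : G} (hn : ∀ x ∈ centralizer ({a} : Set G), n * x * n⁻¹ ∈ centralizer ({a} : Set G))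
    {x : G} (hx : x ∈ P.B) : n * x * n⁻¹ ∈ P.B := by
  have key : ∀ u ∈ P.B, u * u = 1 → n * u * n⁻¹ ∈ P.B := fun u hu hu2 => by
    by_cases h1 : u = 1
    · simp [h1]
    · exact P.mem_B_of_z (hn u (P.hBC hu))
        ((P.classB u hu (orderOf_eq_prime (by rw [pow_two, hu2]) h1)).trans (isConj_iff.2 ⟨n, rfl⟩))
  obtain ⟨u, hu, w, hw, hu2, hw2, rfl⟩ := P.B_gen hx
  rw [← conj_mul]
  exact mul_mem (key u hu hu2) (key w hw hw2)

theorem conj_V {n : G} (hn : ∀ x ∈ centralizer ({a} : Set G), n * x * n⁻¹ ∈ centralizer ({a} : Set G))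
    (hn' : ∀ x ∈ centralizer ({a} : Set G), n⁻¹ * x * n ∈ centralizer ({a} : Set G))
    {v : G} (hv : v ∈ P.V) : n * v * n⁻¹ ∈ P.V := by
  obtain ⟨h1, h2⟩ := P.mem_V_iff.1 hv
  refine P.mem_V_iff.2 ⟨hn v h1, fun y hy => ?_⟩
  calc n * v * n⁻¹ * y = n * (v * (n⁻¹ * y * n)) * n⁻¹ := by group
    _ = n * (n⁻¹ * y * n * v) * n⁻¹ := by rw [h2 _ (hn' y hy)]
    _ = y * (n * v * n⁻¹) := by group

end Pair

end Data

end Cfsg.Agent.JTwoType
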