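import Cfsg.Prelude.Def_Transfer
import Cfsg.Agent.Lib.ZStar.Statements
import Cfsg.Agent.Lib.ZStar.Unique
import Cfsg.Agent.Lib.Cores.Basic
import Cfsg.Agent.Lib.OrderJTwo.Quaternionic
import Cfsg.Agent.Lib.PGroup.Extraspecial

/-!
# Groups of Hall-Janko type: the central involution is not weakly closed in `Q`

* `exists_conj_mem`: in a simple group, a conjugate of `z` other than `z` lies in `Q`
-/

set_option autoImplicit false
set_option linter.unusedSectionVars false
set_option linter.style.haveILetI false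

namespace Cfsg.Agent.JTwoType

open Cfsg Subgroup OrderJTwo

variable {G : Type*} [Group G] [Finite G]

set_option synthInstance.maxSize 1024 in
theorem no_four : ∀ σ : alternatingGroup (Fin 5), σ ^ 4 = 1 → σ ^ 2 = 1 := by decide +kernel

set_option synthInstance.maxSize 1024 in
theorem involution_conj : ∀ σ τ : alternatingGroup (Fin 5), σ * σ = 1 → σ ≠ 1 → τ * τ = 1 → τ ≠ 1 →
    ∃ ρ : alternatingGroup (Fin 5), ρ * σ * ρ⁻¹ = τ := by decide +kernel

/-- Weak closure fails. -/
theorem exists_conj_mem [IsSimpleGroup G] (z : G) (hz : orderOf z = 2) (Qc : Subgroup (centralizer ({z} : Set G)))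
    [Qc.Normal] (hex : Cfsg.IsExtraspecial 2 Qc) (hcard : Nat.card Qc = 32)
    (hminus : ∀ E : Subgroup Qc, Cfsg.IsElementaryAbelian 2 E → Nat.card E ≤ 2 ^ 2)
    (h2c : centralizer (Qc : Set (centralizer ({z} : Set G))) ≤ Qc)
    (eA : (centralizer ({z} : Set G)) ⧸ Qc ≃* alternatingGroup (Fin 5)) :
    ∃ g : G, (∃ hq : g * z * g⁻¹ ∈ centralizer ({z} : Set G),
      (⟨g * z * g⁻¹, hq⟩ : centralizer ({z} : Set G)) ∈ Qc) ∧ g * z * g⁻¹ ≠ z := by
  classical
  by_contra hno
  have hz2 : z * z = 1 := by rw [← pow_two, ← hz, pow_orderOf_eq_one]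
  have hz1 : z ≠ 1 := fun h => by simp [h] at hz
  have hCmem : ∀ x, x ∈ (centralizer ({z} : Set G)) ↔ x * z = z * x := fun x => mem_centralizer_singleton_iff
  have hzC : z ∈ (centralizer ({z} : Set G)) := (hCmem z).2 rfl
  have hzQ : (⟨z, hzC⟩ : (centralizer ({z} : Set G))) ∈ Qc := h2c (mem_centralizer_iff.2 fun q _ => Subtype.ext ((hCmem q).1 q.2))
  -- weak closure
  have hwc : ∀ g : G, ∀ hq : g * z * g⁻¹ ∈ (centralizer ({z} : Set G)), (⟨g * z * g⁻¹, hq⟩ : (centralizer ({z} : Set G))) ∈ Qc → g * z * g⁻¹ = z := fun g hq hm => by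
    by_contra hne
    exact hno ⟨g, ⟨hq, hm⟩, hne⟩
  let π : (centralizer ({z} : Set G)) →* alternatingGroup (Fin 5) := eA.toMonoidHom.comp (QuotientGroup.mk' Qc)
  have hπ : ∀ c : (centralizer ({z} : Set G)), π c = 1 ↔ c ∈ Qc := fun c => by
    show eA (QuotientGroup.mk' Qc c) = 1 ↔ _
    rw [map_eq_one_iff _ eA.injective]; exact QuotientGroup.eq_one_iff c
  have hπs : Function.Surjective π := eA.surjective.comp (QuotientGroup.mk'_surjective Qc)
  -- some conjugate commutes with `z`
  obtain ⟨g, hgC, hgne⟩ : ∃ g : G, g * z * g⁻¹ ∈ (centralizer ({z} : Set G)) ∧ g * z * g⁻¹ ≠ z := by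
    by_contra hh
    have hiso : IsIsolatedInvolution z := ⟨hz, fun g hg => by
      by_contra hne
      exact hh ⟨g, (hCmem _).2 hg.eq.symm, hne⟩⟩
    have hzs := ZStar.zStar_of_brauerSuzuki ZStar.uniqueInvolution hiso
    rcases (Cores.pPrimeCore_normal 2 G).eq_bot_or_eq_top with hb | ht
    · have hcen : z ∈ center G := mem_center_iff.2 fun g => by
        have h1 := hzs g
        rw [hb, mem_bot] at h1
        calc g * z = (z * g * z⁻¹ * g⁻¹) * (g * z) := by rw [h1, one_mul]
          _ = z * g := by group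
      have htop : center G = ⊤ := (inferInstance : (center G).Normal).eq_bot_or_eq_top.resolve_left fun hb' =>
        hz1 (mem_bot.1 (hb' ▸ hcen))
      obtain ⟨σ, τ, hστ⟩ : ∃ σ τ : alternatingGroup (Fin 5), σ * τ ≠ τ * σ := by decide +kernel
      obtain ⟨c, rfl⟩ := hπs σ
      obtain ⟨d, rfl⟩ := hπs τ
      apply hστ
      rw [← map_mul, ← map_mul]
      exact congrArg π (Subtype.ext ((mem_center_iff.1 (htop.ge (mem_top (d : G))) c)))
    · have h1 := Cores.coprime_card_pPrimeCore (G := G) 2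
      rw [ht, Subgroup.card_top] at h1
      have h2 : 2 ∣ Nat.card G := hz ▸ orderOf_dvd_natCard z
      have := Nat.eq_one_of_dvd_coprimes h1 h2 dvd_rfl
      norm_num at this
  set v := g * z * g⁻¹ with hv
  set vC : (centralizer ({z} : Set G)) := ⟨v, hgC⟩ with hvC
  have hvQ : vC ∉ Qc := fun h => hgne (hwc g hgC h)
  have hv2 : v * v = 1 := by rw [hv, conj_mul, hz2]; group
  -- facts on `Q`
  have hES : PGroup.IsES 2 ↥Qc := PGroup.isES_of_isExtraspecial hex
  set zQ : Qc := ⟨⟨z, hzC⟩, hzQ⟩ with hzQdef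
  have hzc : zQ ∈ center Qc := mem_center_iff.mpr fun q => Subtype.ext (Subtype.ext ((hCmem _).1 (q : (centralizer ({z} : Set G))).2))
  have hzQ1 : zQ ≠ 1 := fun h => hz1 (congrArg (fun w : Qc => ((w : (centralizer ({z} : Set G))) : G)) h)
  have hcen : ∀ r : Qc, r ∈ center Qc → r = 1 ∨ r = zQ := by
    intro r hr
    have huniq := (Nat.card_eq_two_iff' (1 : center Qc)).mp hES.card_center
    rcases em ((⟨r, hr⟩ : center Qc) = 1) with h | h
    · exact Or.inl (congrArg Subtype.val h)
    · exact Or.inr (congrArg Subtype.val (huniq.unique h (y₂ := ⟨zQ, hzc⟩) fun h => hzQ1 (congrArg Subtype.val h)))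
  have hzQ2 : zQ * zQ = 1 := Subtype.ext (Subtype.ext hz2)
  -- the action of `v`
  have hvv : ∀ q : (centralizer ({z} : Set G)), vC * (vC * q * vC⁻¹) * vC⁻¹ = q := fun q => Subtype.ext (by
    show v * (v * q * v⁻¹) * v⁻¹ = q
    calc v * (v * q * v⁻¹) * v⁻¹ = v * v * q * (v * v)⁻¹ := by group
      _ = q := by rw [hv2]; group)
  let cv : Qc → Qc := fun q => ⟨vC * q * vC⁻¹, Subgroup.Normal.conj_mem ‹_› _ q.2 _⟩
  have cv_mul : ∀ p q, cv (p * q) = cv p * cv q := fun p q => Subtype.ext (by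
    show vC * ((p : (centralizer ({z} : Set G))) * q) * vC⁻¹ = vC * p * vC⁻¹ * (vC * q * vC⁻¹); group)
  have cv_cv : ∀ q, cv (cv q) = q := fun q => Subtype.ext (hvv q)
  have cv_z : cv zQ = zQ := Subtype.ext (Subtype.ext (by
    show v * z * v⁻¹ = z
    rw [(hCmem v).1 hgC, mul_inv_cancel_right]))
  let cvh : Qc →* Qc := { toFun := cv, map_one' := Subtype.ext (by show vC * 1 * vC⁻¹ = 1; group), map_mul' := cv_mul }
  set F : Subgroup Qc := cvh.eqLocus (MonoidHom.id _) with hF
  have hFmem : ∀ q, q ∈ F ↔ cv q = q := fun q => Iff.rfl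
  have hsq : ∀ q ∈ F, q * q = 1 := by
    intro q hq
    rcases hcen _ (hES.pow_mem q) with h | h <;> rw [pow_two] at h
    · exact h
    exfalso
    have hqv : ((q : (centralizer ({z} : Set G))) : G) * v = v * ((q : (centralizer ({z} : Set G))) : G) := by
      have := congrArg (fun w : Qc => ((w : (centralizer ({z} : Set G))) : G)) ((hFmem q).1 hq)
      change v * ((q : (centralizer ({z} : Set G))) : G) * v⁻¹ = _ at this
      exact (mul_inv_eq_iff_eq_mul.1 this).symm
    set q' := g⁻¹ * ((q : (centralizer ({z} : Set G))) : G) * g with hq'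
    have hq'C : q' ∈ (centralizer ({z} : Set G)) := by
      rw [hCmem]
      calc q' * z = g⁻¹ * (((q : (centralizer ({z} : Set G))) : G) * v) * g := by rw [hq', hv]; group
        _ = g⁻¹ * (v * ((q : (centralizer ({z} : Set G))) : G)) * g := by rw [hqv]
        _ = z * q' := by rw [hq', hv]; group
    have hw : g⁻¹ * z * g ∈ (centralizer ({z} : Set G)) := by
      have := mul_mem hq'C hq'C
      rwa [show q' * q' = g⁻¹ * z * g by
        rw [hq', show g⁻¹ * ((q : (centralizer ({z} : Set G))) : G) * g * (g⁻¹ * ((q : (centralizer ({z} : Set G))) : G) * g) = g⁻¹ * (((q : (centralizer ({z} : Set G))) : G) * ((q : (centralizer ({z} : Set G))) : G)) * g by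
          group, show ((q : (centralizer ({z} : Set G))) : G) * ((q : (centralizer ({z} : Set G))) : G) = z from congrArg (fun w : Qc => ((w : (centralizer ({z} : Set G))) : G)) h]] at this
    have hsqq : π ⟨q', hq'C⟩ ^ 2 = 1 := by
      refine no_four _ ?_
      rw [← map_pow, show (⟨q', hq'C⟩ : (centralizer ({z} : Set G))) ^ 4 = 1 from Subtype.ext (by
        show q' ^ 4 = 1
        rw [hq']
        have h4 : ((q : (centralizer ({z} : Set G))) : G) ^ 4 = 1 := by
          rw [show 4 = 2 * 2 from rfl, pow_mul, pow_two, pow_two,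
            show ((q : (centralizer ({z} : Set G))) : G) * ((q : (centralizer ({z} : Set G))) : G) = z from congrArg (fun w : Qc => ((w : (centralizer ({z} : Set G))) : G)) h, hz2]
        calc (g⁻¹ * ((q : (centralizer ({z} : Set G))) : G) * g) ^ 4 = g⁻¹ * ((q : (centralizer ({z} : Set G))) : G) ^ 4 * g := by
              simp only [pow_succ, pow_zero, one_mul]; group
          _ = 1 := by rw [h4]; group), map_one]
    rw [← map_pow] at hsqq
    have hwQ : (⟨g⁻¹ * z * g, hw⟩ : (centralizer ({z} : Set G))) ∈ Qc := by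
      have h2' := (hπ _).1 hsqq
      rwa [show (⟨q', hq'C⟩ : (centralizer ({z} : Set G))) ^ 2 = ⟨g⁻¹ * z * g, hw⟩ from Subtype.ext (by
        show q' ^ 2 = g⁻¹ * z * g
        rw [← show g⁻¹ * (((q : (centralizer ({z} : Set G))) : G) * ((q : (centralizer ({z} : Set G))) : G)) * g = g⁻¹ * z * g by
          rw [show ((q : (centralizer ({z} : Set G))) : G) * ((q : (centralizer ({z} : Set G))) : G) = z from
            congrArg (fun w : Qc => ((w : (centralizer ({z} : Set G))) : G)) h], pow_two, hq']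
        group)] at h2'
    have h' := hwc g⁻¹ (by rwa [inv_inv]) (by simpa only [inv_inv] using hwQ)
    rw [inv_inv] at h'
    apply hgne
    calc g * z * g⁻¹ = g * (g⁻¹ * z * g) * g⁻¹ := by rw [h']
      _ = z := by group
  have hFcard : Nat.card F ≤ 4 := by
    refine hminus F ⟨isMulCommutative_iff.mpr fun a b => ?_, fun a ha => by rw [pow_two]; exact hsq a ha⟩
    have ha := hsq a a.2
    have hb := hsq b b.2
    have hab := hsq (a * b : Qc) (mul_mem a.2 b.2)
    refine Subtype.ext ?_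
    show (a : Qc) * b = b * a
    calc (a : Qc) * b = ((a : Qc) * b)⁻¹ := (inv_eq_of_mul_eq_one_right hab).symm
      _ = (b : Qc)⁻¹ * (a : Qc)⁻¹ := mul_inv_rev _ _
      _ = b * a := by rw [inv_eq_of_mul_eq_one_right ha, inv_eq_of_mul_eq_one_right hb]
  let f : Qc → Qc := fun q => cv q * q⁻¹
  let ε : Set Qc := {q | f q ∈ center Qc}
  have hfmul : ∀ p q, f q ∈ center Qc → f (p * q) = f p * f q := fun p q hq => by
    show cv (p * q) * (p * q)⁻¹ = cv p * p⁻¹ * (cv q * q⁻¹)
    rw [cv_mul, mul_inv_rev]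
    calc cv p * cv q * (q⁻¹ * p⁻¹) = cv p * ((cv q * q⁻¹) * p⁻¹) := by group
      _ = cv p * (p⁻¹ * (cv q * q⁻¹)) := by rw [mem_center_iff.1 hq p⁻¹]
      _ = _ := by group
  have hf1 : f 1 = 1 := by show cvh 1 * (1 : Qc)⁻¹ = 1; rw [map_one, inv_one, mul_one]
  let P : Subgroup Qc :=
    { carrier := ε
      one_mem' := by show f 1 ∈ center Qc; rw [hf1]; exact one_mem _
      mul_mem' := fun {p q} hp hq => by show f (p * q) ∈ center Qc; rw [hfmul p q hq]; exact mul_mem hp hq
      inv_mem' := fun {p} hp => by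
        show f p⁻¹ ∈ center Qc
        have h1 : f (p⁻¹ * p) = f p⁻¹ * f p := hfmul _ _ hp
        rw [inv_mul_cancel, hf1] at h1
        rw [eq_inv_of_mul_eq_one_left h1.symm]
        exact inv_mem hp }
  have hPmem : ∀ q, q ∈ P ↔ f q ∈ center Qc := fun q => Iff.rfl
  let ε' : P →* center Qc :=
    { toFun := fun q => ⟨f q, q.2⟩
      map_one' := Subtype.ext hf1
      map_mul' := fun p q => Subtype.ext (hfmul p q q.2) }
  have hP8 : Nat.card P ≤ 8 := by
    have h1 := ε'.ker.card_mul_index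
    have h2 : Nat.card ε'.ker ≤ 4 := by
      refine (Nat.card_le_card_of_injective (fun q : ε'.ker => (⟨(q : P), (hFmem _).2 ?_⟩ : F)) ?_).trans hFcard
      · exact mul_inv_eq_one.1 (congrArg Subtype.val q.2)
      · intro p q e
        exact Subtype.ext (Subtype.ext (congrArg (fun w : F => (w : Qc)) e))
    have h3 : ε'.ker.index ≤ 2 := by
      rw [index_ker]; exact hES.card_center ▸ Finite.card_subtype_le _
    have := Nat.mul_le_mul h2 h3
    omega
  have himgP : ∀ q, f q ∈ P := fun q => by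
    rw [hPmem]
    have e : f (f q) = (f q ^ 2)⁻¹ := by
      show cv (cv q * q⁻¹) * (f q)⁻¹ = _
      rw [cv_mul, cv_cv, show cv q⁻¹ = (cv q)⁻¹ from map_inv cvh q, pow_two]
      show q * (cv q)⁻¹ * (cv q * q⁻¹)⁻¹ = (cv q * q⁻¹ * (cv q * q⁻¹))⁻¹
      group
    rw [e]; exact inv_mem (hES.pow_mem _)
  let fbar : Qc ⧸ F → P := Quotient.lift (fun q => (⟨f q, himgP q⟩ : P)) (fun p q h => by
    have h' : cv (p⁻¹ * q) = p⁻¹ * q := (hFmem _).1 (QuotientGroup.leftRel_apply.1 h)
    refine Subtype.ext ?_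
    show cv p * p⁻¹ = cv q * q⁻¹
    rw [show cv q = cv p * (p⁻¹ * q) by rw [← h', ← cv_mul, mul_inv_cancel_left]]
    group)
  have hfinj : Function.Injective fbar := by
    rintro ⟨p⟩ ⟨q⟩ e
    refine Quotient.sound (QuotientGroup.leftRel_apply.2 ((hFmem _).2 ?_))
    have e' : cv p * p⁻¹ = cv q * q⁻¹ := congrArg Subtype.val e
    rw [cv_mul, show cv p⁻¹ = (cv p)⁻¹ from map_inv cvh p]
    calc (cv p)⁻¹ * cv q = (cv p)⁻¹ * (cv q * q⁻¹) * q := by group
      _ = p⁻¹ * q := by rw [← e']; group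
  have hmul32 := F.card_mul_index
  rw [hcard] at hmul32
  have hle := Nat.card_le_card_of_injective fbar hfinj
  rw [← index_eq_card] at hle
  have hidx : 8 ≤ F.index := by
    by_contra hh
    have := Nat.mul_le_mul hFcard (show F.index ≤ 7 by omega)
    omega
  have hbij : Function.Bijective fbar := (Nat.bijective_iff_injective_and_card _).2 ⟨hfinj, by
    rw [← index_eq_card]; omega⟩
  have hF4 : Nat.card F = 4 := by
    have h8 : F.index = 8 := by omega
    rw [h8] at hmul32; omega
  -- elements of `v P` are conjugates of `z`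
  have hvP : ∀ a ∈ P, IsConj z (v * ((a : (centralizer ({z} : Set G))) : G)) := by
    intro a ha
    obtain ⟨qq, hq⟩ := hbij.2 ⟨a, ha⟩
    induction qq using Quotient.ind with
    | _ q =>
      have e : v * ((q : (centralizer ({z} : Set G))) : G) * v⁻¹ * ((q : (centralizer ({z} : Set G))) : G)⁻¹ = ((a : (centralizer ({z} : Set G))) : G) :=
        congrArg (fun w : P => (((w : Qc) : (centralizer ({z} : Set G))) : G)) hq
      refine (show IsConj z v from isConj_iff.2 ⟨g, rfl⟩).trans (isConj_iff.2 ⟨((q : (centralizer ({z} : Set G))) : G), ?_⟩)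
      rw [← e, inv_eq_of_mul_eq_one_right hv2]
      calc ((q : (centralizer ({z} : Set G))) : G) * v * ((q : (centralizer ({z} : Set G))) : G)⁻¹ = v * v * ((q : (centralizer ({z} : Set G))) : G) * v * ((q : (centralizer ({z} : Set G))) : G)⁻¹ := by rw [hv2, one_mul]
        _ = _ := by group
  have houter : ∀ x : (centralizer ({z} : Set G)), x * x = 1 → x ∉ Qc → IsConj z (x : G) := by
    intro x hx hxQ
    have h1 : π x * π x = 1 := by rw [← map_mul, hx, map_one]
    have h2 : π vC * π vC = 1 := by rw [← map_mul, show vC * vC = 1 from Subtype.ext hv2, map_one]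
    obtain ⟨ρ, hρ⟩ := involution_conj _ _ h1 (fun h => hxQ ((hπ x).1 h)) h2 (fun h => hvQ ((hπ vC).1 h))
    obtain ⟨c, rfl⟩ := hπs ρ
    have ha : vC⁻¹ * (c * x * c⁻¹) ∈ Qc := (hπ _).1 (by
      rw [map_mul, map_inv, map_mul, map_mul, map_inv, hρ, inv_mul_cancel])
    set a : Qc := ⟨vC⁻¹ * (c * x * c⁻¹), ha⟩ with hadef
    have hva : vC * (a : (centralizer ({z} : Set G))) = c * x * c⁻¹ := mul_inv_cancel_left _ _
    have hva2 : vC * (a : (centralizer ({z} : Set G))) * (vC * (a : (centralizer ({z} : Set G)))) = 1 := by rw [hva, conj_mul, hx]; group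
    have hvinv : vC⁻¹ = vC := inv_eq_of_mul_eq_one_right (Subtype.ext hv2)
    have hfa : f a = (a ^ 2)⁻¹ := Subtype.ext (by
      show vC * (a : (centralizer ({z} : Set G))) * vC⁻¹ * (a : (centralizer ({z} : Set G)))⁻¹ = ((a : (centralizer ({z} : Set G))) ^ 2)⁻¹
      have e : vC * (a : (centralizer ({z} : Set G))) * vC⁻¹ = (a : (centralizer ({z} : Set G)))⁻¹ := by
        rw [hvinv]
        refine eq_inv_of_mul_eq_one_left ?_
        rw [← hva2]; group
      rw [e, pow_two]; exact (mul_inv_rev _ _).symm)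
    have h3 := hvP a ((hPmem a).2 (hfa ▸ inv_mem (hES.pow_mem a)))
    have h4 : v * ((a : (centralizer ({z} : Set G))) : G) = (c : G) * x * (c : G)⁻¹ := congrArg Subtype.val hva
    rw [h4] at h3
    exact h3.trans (isConj_iff.2 ⟨(c : G), rfl⟩ : IsConj (x : G) _).symm
  -- a non-central fixed point
  obtain ⟨u, huF, hu1, huz⟩ : ∃ u ∈ F, u ≠ 1 ∧ u ≠ zQ := by
    by_contra hh
    push Not at hh
    have hsub : F ≤ center Qc := fun u hu => by
      rcases em (u = 1) with rfl | h
      · exact one_mem _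
      · rw [hh u hu h]; exact hzc
    have := card_dvd_of_le hsub
    rw [hF4, hES.card_center] at this
    norm_num at this
  have hucv := congrArg (fun w : Qc => ((w : (centralizer ({z} : Set G))) : G)) ((hFmem u).1 huF)
  change v * ((u : (centralizer ({z} : Set G))) : G) * v⁻¹ = _ at hucv
  set uG := ((u : (centralizer ({z} : Set G))) : G) with huG
  have huv : v * uG = uG * v := mul_inv_eq_iff_eq_mul.1 hucv
  have huG2 : uG * uG = 1 := congrArg (fun w : Qc => ((w : (centralizer ({z} : Set G))) : G)) (hsq u huF)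
  have hzu : IsConj z uG → False := fun h => by
    obtain ⟨c, hc⟩ := isConj_iff.1 h
    have hcC : c * z * c⁻¹ ∈ (centralizer ({z} : Set G)) := hc ▸ (u : (centralizer ({z} : Set G))).2
    have := hwc c hcC (by
      rw [show (⟨c * z * c⁻¹, hcC⟩ : (centralizer ({z} : Set G))) = (u : (centralizer ({z} : Set G))) from Subtype.ext hc]; exact u.2)
    exact huz (Subtype.ext (Subtype.ext (by rw [← huG, ← hc, this])))
  set u' := g⁻¹ * uG * g with hu'
  have hu'C : u' ∈ (centralizer ({z} : Set G)) := by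
    rw [hCmem]
    calc u' * z = g⁻¹ * (uG * v) * g := by rw [hu', hv]; group
      _ = g⁻¹ * (v * uG) * g := by rw [huv]
      _ = z * u' := by rw [hu', hv]; group
  have hu'2 : (⟨u', hu'C⟩ : (centralizer ({z} : Set G))) * ⟨u', hu'C⟩ = 1 := Subtype.ext (by
    show u' * u' = 1
    rw [hu']
    calc g⁻¹ * uG * g * (g⁻¹ * uG * g) = g⁻¹ * (uG * uG) * g := by group
      _ = 1 := by rw [huG2]; group)
  by_cases hu'Q : (⟨u', hu'C⟩ : (centralizer ({z} : Set G))) ∈ Qc
  · have h1 := hvP u ((hPmem u).2 (by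
      show f u ∈ center Qc
      rw [show f u = 1 from mul_inv_eq_one.2 ((hFmem u).1 huF)]; exact one_mem _))
    rw [← huG] at h1
    have h2 : IsConj z (z * u') := h1.trans (isConj_iff.2 ⟨g⁻¹, by rw [hu', hv]; group⟩)
    obtain ⟨c, hc⟩ := isConj_iff.1 h2
    have hcC : c * z * c⁻¹ ∈ (centralizer ({z} : Set G)) := hc ▸ mul_mem hzC hu'C
    have h3 := hwc c hcC (by
      rw [show (⟨c * z * c⁻¹, hcC⟩ : (centralizer ({z} : Set G))) = ⟨z, hzC⟩ * ⟨u', hu'C⟩ from Subtype.ext hc]
      exact mul_mem hzQ hu'Q)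
    rw [hc] at h3
    have h4 : u' = 1 := mul_eq_left.1 h3
    refine hu1 (Subtype.ext (Subtype.ext ?_))
    show uG = 1
    calc uG = g * u' * g⁻¹ := by rw [hu']; group
      _ = 1 := by rw [h4]; group
  · exact hzu ((houter _ hu'2 hu'Q).trans (isConj_iff.2 ⟨g, by show g * u' * g⁻¹ = uG; rw [hu']; group⟩))

end Cfsg.Agent.JTwoType
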