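import Cfsg.Agent.Lib.OrderJTwo.Quaternionic
import Cfsg.Agent.Lib.PGroup.Extraspecial
import Cfsg.Agent.Lib.Symplectic.GFit
import Cfsg.Agent.S0824

/-!
# Groups of Hall-Janko type: the centraliser of the central involution

* `Data`: `C(z)` is an extension of an extraspecial `Q` of order 32 by the alternating group of
  degree five, acting on five pairs `{u i, u i * z}` of non-central involutions of `Q`
* `exists_data`: such data from the hypotheses of the statements
-/

set_option autoImplicit false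
set_option linter.unusedSectionVars false
set_option linter.style.haveILetI false

namespace Cfsg.Agent.JTwoType

open Cfsg Subgroup OrderJTwo
open scoped commutatorElement

variable {G : Type*} [Group G] [Finite G]

/-- The data attached to an involution `z`. -/
structure Data (G : Type*) [Group G] where
  z : G
  Q : Subgroup G
  u : Fin 5 → G
  φ : Subgroup.centralizer ({z} : Set G) →* Equiv.Perm (Fin 5)
  hQ : Q32 Q z
  le : Q ≤ Subgroup.centralizer ({z} : Set G)
  norm : ∀ g, g * z = z * g → ∀ x ∈ Q, g * x * g⁻¹ ∈ Q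
  self : ∀ g : G, (∀ x ∈ Q, g * x = x * g) → g ∈ Q
  comm2 : ∀ a ∈ invSet Q z, ∀ b ∈ invSet Q z, a * b = b * a → b = a ∨ b = a * z
  u_mem : ∀ i, u i ∈ invSet Q z
  u_cover : ∀ x ∈ invSet Q z, ∃ i, x = u i ∨ x = u i * z
  u_sep : ∀ i j, (u i = u j ∨ u i = u j * z) → i = j
  act : ∀ (g : Subgroup.centralizer ({z} : Set G)) (i : Fin 5),
    (g : G) * u i * (g : G)⁻¹ = u (φ g i) ∨ (g : G) * u i * (g : G)⁻¹ = u (φ g i) * z
  ker : ∀ g, φ g = 1 ↔ (g : G) ∈ Q
  range : φ.range = alternatingGroup (Fin 5)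
  wc : ∃ g : G, g * z * g⁻¹ ∈ Q ∧ g * z * g⁻¹ ≠ z
  two : ∃ x y : G, orderOf x = 2 ∧ orderOf y = 2 ∧ ¬ IsConj x y

theorem exists_eq_mul {Q : Subgroup G} {z : G} (hQ : Q32 Q z) (h10 : (invSet Q z).ncard = 10)
    {q : G} (hq : q ∈ Q) (hqz : q * q = z) :
    ∃ a ∈ invSet Q z, ∃ b ∈ invSet Q z, q = a * b ∧ a * b = b * a * z := by
  obtain ⟨a, ha, hna⟩ : ∃ a ∈ invSet Q z, a * q ≠ q * a := by
    by_contra h
    push Not at h
    set W := invSet Q z
    -- involutions `x` and products `q * x`
    have h1 : (W ∪ (fun x => q * x) '' W) ⊆ {x | x ∈ Q ∧ x * q = q * x ∧ x ≠ 1} := by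
      rintro x (hx | ⟨y, hy, rfl⟩)
      · exact ⟨hx.1, h x hx, hx.2.2.1⟩
      · refine ⟨mul_mem hq hy.1, ?_, fun e => hQ.zne ?_⟩
        · show q * y * q = q * (q * y)
          rw [mul_assoc, h y hy]
        · rw [← hqz]
          have e' : q = y⁻¹ := eq_inv_of_mul_eq_one_left e
          rw [e', ← mul_inv_rev, hy.2.1, inv_one]
    have hdisj : Disjoint W ((fun x => q * x) '' W) := Set.disjoint_left.2 fun x hx ⟨y, hy, hyx⟩ => hQ.zne (by
      have e : x * x = q * q * (y * y) := by
        rw [← hyx]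
        calc q * y * (q * y) = q * (y * q) * y := by group
          _ = q * (q * y) * y := by rw [h y hy]
          _ = _ := by group
      rw [hx.2.1, hy.2.1, hqz, mul_one] at e
      exact e.symm)
    have h2 := Set.ncard_le_ncard h1 (Set.toFinite _)
    rw [Set.ncard_union_eq hdisj (Set.toFinite _) (Set.toFinite _),
      Set.ncard_image_of_injective _ (mul_right_injective q), h10] at h2
    set U : Subgroup G := Q ⊓ centralizer {q}
    have h3 : {x | x ∈ Q ∧ x * q = q * x ∧ x ≠ 1} ⊆ (U : Set G) := fun x hx =>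
      ⟨hx.1, mem_centralizer_singleton_iff.2 hx.2.1⟩
    have h4 := h2.trans (Set.ncard_le_ncard h3 (Set.toFinite _))
    rw [← Nat.card_coe_set_eq, SetLike.coe_sort_coe] at h4
    have h5 := card_dvd_of_le (inf_le_left : U ≤ Q)
    rw [hQ.card] at h5
    have hU : U = Q := by
      refine Subgroup.eq_of_le_of_card_ge inf_le_left ?_
      rw [hQ.card]
      obtain ⟨i, hi, hi'⟩ := (Nat.dvd_prime_pow Nat.prime_two).1 (show Nat.card U ∣ 2 ^ 5 from h5)
      rw [hi'] at h4 ⊢
      interval_cases i <;> simp_all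
    rcases hQ.cen q hq (fun y hy => (mem_centralizer_singleton_iff.1 (hU.ge hy).2).symm) with e | e
    · exact hQ.zne (by rw [← hqz, e, one_mul])
    · exact hQ.zne (by rw [← hqz, e, hQ.sqz])
  have hc : a * q = q * a * z := (hQ.comm a ha.1 q hq).resolve_left hna
  have hb : a * q ∈ invSet Q z := by
    refine ⟨mul_mem ha.1 hq, ?_, fun e => ?_, fun e => ?_⟩
    · calc a * q * (a * q) = (a * q) * a * q := by group
        _ = q * a * z * a * q := by rw [hc]
        _ = q * (a * (z * a)) * q := by group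
        _ = q * z * q := by rw [← hQ.zcomm a ha.1, ← mul_assoc a a z, ha.2.1, one_mul]
        _ = q * q * z := by rw [mul_assoc, ← hQ.zcomm q hq, mul_assoc]
        _ = 1 := by rw [hqz, hQ.sqz]
    · have e' : q = a := (eq_inv_of_mul_eq_one_right e).trans (inv_eq_of_mul_eq_one_right ha.2.1)
      exact hQ.zne (by rw [← hqz, e', ha.2.1])
    · have e' : q = a * z := by rw [← e, ← mul_assoc, ha.2.1, one_mul]
      exact hQ.zne (by rw [← hqz, e', (mul_mem_invSet hQ ha).2.1])
  refine ⟨a, ha, a * q, hb, by rw [← mul_assoc, ha.2.1, one_mul], ?_⟩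
  calc a * (a * q) = q := by rw [← mul_assoc, ha.2.1, one_mul]
    _ = q * (a * a) := by rw [ha.2.1, mul_one]
    _ = a * q * a * z := by
      rw [hc, mul_assoc (q * a) z a, ← hQ.zcomm a ha.1, ← mul_assoc (q * a) a z, mul_assoc (q * a * a) z z,
        hQ.sqz, mul_one, mul_assoc]

theorem eq_or_of_pair {z x y : G} (hz : z * z = 1) (h : x = y * z) : y = x * z := by
  rw [h, mul_assoc, hz, mul_one]

theorem exists_data_of_alt (z : G) (hz : orderOf z = 2) (Qc : Subgroup (centralizer ({z} : Set G))) [Qc.Normal]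
    (h2c : centralizer (Qc : Set (centralizer ({z} : Set G))) ≤ Qc) (hex : Cfsg.IsExtraspecial 2 Qc)
    (hcard : Nat.card Qc = 2 ^ 5) (eA : (centralizer ({z} : Set G)) ⧸ Qc ≃* alternatingGroup (Fin 5))
    (hnwc : ∃ g : G, (∃ hq : g * z * g⁻¹ ∈ centralizer ({z} : Set G),
      (⟨g * z * g⁻¹, hq⟩ : centralizer ({z} : Set G)) ∈ Qc) ∧ g * z * g⁻¹ ≠ z)
    (hcl : ∃ x y : G, orderOf x = 2 ∧ orderOf y = 2 ∧ ¬ IsConj x y) :
    ∃ D : Data G, D.z = z := by
  classical
  have hz2 : z * z = 1 := by rw [← pow_two, ← hz, pow_orderOf_eq_one]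
  have hz1 : z ≠ 1 := fun h => by simp [h] at hz
  set Q : Subgroup G := Qc.map (centralizer ({z} : Set G)).subtype with hQdef
  have hCmem : ∀ x, x ∈ (centralizer ({z} : Set G)) ↔ x * z = z * x := fun x => mem_centralizer_singleton_iff
  have hQC : Q ≤ (centralizer ({z} : Set G)) := map_subtype_le Qc
  have hself : ∀ g : G, (∀ x ∈ Q, g * x = x * g) → g * z = z * g → g ∈ Q := by
    intro g hg hgz
    refine ⟨⟨g, (hCmem g).2 hgz⟩, h2c ?_, rfl⟩
    exact mem_centralizer_iff.2 fun q hq => Subtype.ext (hg q ⟨q, hq, rfl⟩).symm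
  have hzQ : z ∈ Q := hself z (fun x hx => ((hCmem x).1 (hQC hx)).symm) rfl
  have hES : PGroup.IsES 2 ↥Qc := PGroup.isES_of_isExtraspecial hex
  have hzQc : (⟨z, hQC hzQ⟩ : (centralizer ({z} : Set G))) ∈ Qc := by
    obtain ⟨q, hq, hqz⟩ := hzQ
    rwa [show (⟨z, _⟩ : (centralizer ({z} : Set G))) = q from Subtype.ext hqz.symm]
  have hcen : ∀ r : Qc, r ∈ center Qc → ((r : (centralizer ({z} : Set G))) : G) = 1 ∨ ((r : (centralizer ({z} : Set G))) : G) = z := by
    intro r hr
    have hzc : (⟨⟨z, hQC hzQ⟩, hzQc⟩ : Qc) ∈ center Qc :=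
      mem_center_iff.mpr fun g => Subtype.ext (Subtype.ext ((hCmem (g : (centralizer ({z} : Set G)))).mp (g : (centralizer ({z} : Set G))).2))
    have hne : (⟨⟨⟨z, hQC hzQ⟩, hzQc⟩, hzc⟩ : center Qc) ≠ 1 := fun h => hz1
      (congrArg (fun w : center Qc => (((w : Qc) : (centralizer ({z} : Set G))) : G)) h)
    have huniq := (Nat.card_eq_two_iff' (1 : center Qc)).mp hES.card_center
    rcases em ((⟨r, hr⟩ : center Qc) = 1) with h | h
    · exact Or.inl (congrArg (fun w : center Qc => (((w : Qc) : (centralizer ({z} : Set G))) : G)) h)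
    · exact Or.inr (congrArg (fun w : center Qc => (((w : Qc) : (centralizer ({z} : Set G))) : G)) (huniq.unique h hne))
  have hQ32 : Q32 Q z := by
    refine ⟨?_, hzQ, hz2, hz1, fun x hx => (hCmem x).mp (hQC hx), ?_, ?_, ?_⟩
    · rw [hQdef, card_map_of_injective (centralizer ({z} : Set G)).subtype_injective, hcard]; rfl
    · rintro _ ⟨r, hr, rfl⟩ _ ⟨s, hs, rfl⟩
      have e' : (r : G) * s = (((⁅(⟨r, hr⟩ : Qc), ⟨s, hs⟩⁆ : Qc) : (centralizer ({z} : Set G))) : G) * ((s : G) * r) := by
        simp only [commutatorElement_def, Subgroup.coe_mul, Subgroup.coe_inv]; group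
      rcases hcen _ (hES.comm_mem ⟨r, hr⟩ ⟨s, hs⟩) with h | h <;> rw [h] at e'
      · exact Or.inl (by simpa using e')
      · right
        show (r : G) * s = s * r * z
        rw [e', ← (hCmem _).mp (mul_mem s.2 r.2)]
    · rintro _ ⟨r, hr, rfl⟩
      have := hcen _ (hES.pow_mem ⟨r, hr⟩)
      simpa [pow_two] using this
    · rintro _ ⟨r, hr, rfl⟩ hcom
      exact hcen ⟨r, hr⟩ (mem_center_iff.mpr fun g => Subtype.ext (Subtype.ext
        (hcom ((g : (centralizer ({z} : Set G))) : G) ⟨g, g.2, rfl⟩).symm))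
  obtain ⟨c5, hc5, hc51⟩ : ∃ x : alternatingGroup (Fin 5), x ^ 5 = 1 ∧ x ≠ 1 := by decide +kernel
  obtain ⟨cC, hcC⟩ := QuotientGroup.mk_surjective (eA.symm c5)
  -- an element of order five
  have hcC5 : cC ^ 5 ∈ Qc := by
    rw [← QuotientGroup.eq_one_iff, QuotientGroup.mk_pow, hcC, ← map_pow, hc5, map_one]
  set c : (centralizer ({z} : Set G)) := cC ^ 256 with hcdef
  have h256 : (256 : ℕ) = 5 * 51 + 1 := rfl
  have hc : c ^ 5 = 1 := by
    have h32 : (cC ^ 5) ^ 32 = 1 := by
      have := pow_card_eq_one' (x := (⟨cC ^ 5, hcC5⟩ : Qc))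
      rw [hcard] at this
      exact congrArg Subtype.val this
    rw [hcdef, ← pow_mul, show 256 * 5 = 5 * 32 * 8 by rfl, pow_mul, pow_mul, h32, one_pow]
  have hcnQ : c ∉ Qc := by
    intro h
    apply hc51
    rw [← QuotientGroup.eq_one_iff, hcdef, QuotientGroup.mk_pow, hcC, ← map_pow, h256, pow_succ,
      pow_mul, hc5, one_pow, one_mul, ← map_one eA.symm] at h
    exact eA.symm.injective h
  have hcz : (c : G) * z * (c : G)⁻¹ = z := by rw [(hCmem c).1 c.2, mul_inv_cancel_right]
  have hnorm : ∀ g, g * z = z * g → ∀ x ∈ Q, g * x * g⁻¹ ∈ Q := by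
    rintro g hg _ ⟨q, hq, rfl⟩
    exact ⟨⟨g, (hCmem g).2 hg⟩ * q * ⟨g, (hCmem g).2 hg⟩⁻¹,
      Subgroup.Normal.conj_mem (by assumption) q hq _, rfl⟩
  have hcQ : ∃ x ∈ Q, (c : G) * x * (c : G)⁻¹ ≠ x := by
    by_contra h
    push Not at h
    obtain ⟨q, hq, hqc⟩ := hself c (fun x hx => mul_inv_eq_iff_eq_mul.1 (h x hx)) ((hCmem c).1 c.2)
    exact hcnQ ((Subtype.ext hqc : q = c) ▸ hq)
  have hc5G : (c : G) ^ 5 = 1 := by rw [← Subgroup.coe_pow, hc, Subgroup.coe_one]
  obtain ⟨h10, hcomm2⟩ := invSet_facts hQ32 (c : G) hc5G hcz (hnorm c ((hCmem c).1 c.2)) hcQ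
  -- the five pairs
  set I := invSet Q z with hI
  let st : Setoid I :=
    { r := fun x y => (y : G) = x ∨ (y : G) = x * z
      iseqv := ⟨fun x => Or.inl rfl, fun {x y} h => h.elim (fun h => Or.inl h.symm)
        (fun h => Or.inr (eq_or_of_pair hz2 h)), fun {x y w} h h' => by
          rcases h with h | h <;> rcases h' with h' | h' <;> rw [h', h]
          · exact Or.inl rfl
          · exact Or.inr rfl
          · exact Or.inr rfl
          · left; rw [mul_assoc, hz2, mul_one]⟩ }
  have hI2 : ∀ P : Quotient st, Nat.card {x : I // Quotient.mk st x = P} = 2 := by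
    intro P
    induction P using Quotient.ind with
    | _ x =>
      let xz : I := ⟨(x : G) * z, mul_mem_invSet hQ32 x.2⟩
      have hne : x ≠ xz := fun h => hz1 (by
        have : (x : G) * z = (x : G) * 1 := by rw [mul_one]; exact (congrArg Subtype.val h).symm
        exact mul_left_cancel this)
      have hset : {y : I | Quotient.mk st y = Quotient.mk st x} = {x, xz} := by
        ext y
        simp only [Set.mem_setOf_eq, Set.mem_insert_iff, Set.mem_singleton_iff]
        constructor
        · intro h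
          rcases (Quotient.exact h.symm : (y : G) = x ∨ (y : G) = x * z) with h' | h'
          · exact Or.inl (Subtype.ext h')
          · exact Or.inr (Subtype.ext h')
        · rintro (rfl | rfl)
          · rfl
          · exact (Quotient.sound (Or.inr rfl : (xz : G) = x ∨ (xz : G) = x * z)).symm
      rw [← Set.coe_setOf, Nat.card_coe_set_eq, hset, Set.ncard_pair hne]
  haveI : Fintype (Quotient st) := Fintype.ofFinite _
  have hP5 : Nat.card (Quotient st) = 5 := by
    have h := Nat.card_congr (Equiv.sigmaFiberEquiv (Quotient.mk st))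
    rw [Nat.card_sigma, Finset.sum_congr rfl fun P _ => hI2 P, Finset.sum_const, Finset.card_univ, smul_eq_mul,
      Nat.card_coe_set_eq, h10, ← Nat.card_eq_fintype_card] at h
    omega
  let E5 : Quotient st ≃ Fin 5 := Finite.equivFinOfCardEq hP5
  let u : Fin 5 → G := fun i => ((E5.symm i).out : I)
  let idx : I → Fin 5 := fun x => E5 (Quotient.mk st x)
  have hidx : ∀ x : I, (x : G) = u (idx x) ∨ (x : G) = u (idx x) * z := by
    intro x
    have : Quotient.mk st (E5.symm (idx x)).out = Quotient.mk st x := by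
      rw [Quotient.out_eq]
      exact E5.symm_apply_apply _
    exact Quotient.exact this
  have hsep : ∀ i j, (u i = u j ∨ u i = u j * z) → i = j := by
    intro i j h
    apply E5.symm.injective
    rw [← Quotient.out_eq (E5.symm i), ← Quotient.out_eq (E5.symm j)]
    exact (Quotient.sound (h : (((E5.symm i).out : I) : G) = ((E5.symm j).out : I) ∨ _)).symm
  -- the action
  have hconjI : ∀ g : (centralizer ({z} : Set G)), ∀ x ∈ I, (g : G) * x * (g : G)⁻¹ ∈ I := fun g x hx =>
    ⟨hnorm g ((hCmem g).1 g.2) x hx.1, by rw [conj_mul, hx.2.1]; group,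
      fun h => hx.2.2.1 (conj_eq_one_iff.mp h),
      fun h => hx.2.2.2 ((MulAut.conj (g : G)).injective (h.trans (show z = (g : G) * z * (g : G)⁻¹ by
        rw [(hCmem g).1 g.2, mul_inv_cancel_right])))⟩
  let act : (centralizer ({z} : Set G)) → Fin 5 → Fin 5 := fun g i => idx ⟨_, hconjI g (u i) (E5.symm i).out.2⟩
  have hact : ∀ (g : (centralizer ({z} : Set G))) (i : Fin 5), (g : G) * u i * (g : G)⁻¹ = u (act g i) ∨ (g : G) * u i * (g : G)⁻¹ = u (act g i) * z :=
    fun g i => hidx ⟨_, hconjI g (u i) (E5.symm i).out.2⟩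
  have hgz : ∀ (g : (centralizer ({z} : Set G))) (x : G), (g : G) * (x * z) * (g : G)⁻¹ = (g : G) * x * (g : G)⁻¹ * z := fun g x => by
    rw [← conj_mul, show (g : G) * z * (g : G)⁻¹ = z by rw [(hCmem g).1 g.2, mul_inv_cancel_right]]
  have huniq : ∀ (g : (centralizer ({z} : Set G))) i j, ((g : G) * u i * (g : G)⁻¹ = u j ∨ (g : G) * u i * (g : G)⁻¹ = u j * z) →
      act g i = j := by
    intro g i j h
    refine hsep _ _ ?_
    rcases hact g i with h1 | h1 <;> rcases h with h2 | h2 <;> rw [h1] at h2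
    · exact Or.inl h2
    · exact Or.inr h2
    · exact Or.inr (eq_or_of_pair hz2 h2.symm)
    · exact Or.inl (mul_right_cancel h2)
  have hone : act 1 = id := funext fun i => huniq 1 i i (Or.inl (by simp))
  have hmulact : ∀ g h : (centralizer ({z} : Set G)), act (g * h) = act g ∘ act h := by
    intro g h
    funext i
    apply huniq
    have e1 : ((g * h : (centralizer ({z} : Set G))) : G) * u i * ((g * h : (centralizer ({z} : Set G))) : G)⁻¹ =
        (g : G) * ((h : G) * u i * (h : G)⁻¹) * (g : G)⁻¹ := by rw [Subgroup.coe_mul]; group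
    rcases hact h i with h1 | h1 <;> rw [e1, h1]
    · exact hact g _
    · rcases hact g (act h i) with h2 | h2 <;> rw [hgz, h2]
      · exact Or.inr rfl
      · left
        rw [mul_assoc, hz2, mul_one]
        rfl
  let φ : (centralizer ({z} : Set G)) →* Equiv.Perm (Fin 5) :=
    { toFun := fun g => ⟨act g, act g⁻¹, fun i => by
          show (act g⁻¹ ∘ act g) i = i
          rw [← hmulact, inv_mul_cancel, hone]; rfl, fun i => by
          show (act g ∘ act g⁻¹) i = i
          rw [← hmulact, mul_inv_cancel, hone]; rfl⟩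
      map_one' := Equiv.ext fun i => congrFun hone i
      map_mul' := fun g h => Equiv.ext fun i => congrFun (hmulact g h) i }
  have hQker : ∀ g : (centralizer ({z} : Set G)), (g : G) ∈ Q → φ g = 1 := by
    intro g hg
    refine Equiv.ext fun i => huniq g i i ?_
    have hu : u i ∈ I := (E5.symm i).out.2
    rcases hQ32.comm g hg (u i) hu.1 with h | h
    · left; rw [h, mul_inv_cancel_right]
    · right
      rw [h, mul_assoc, ← hQ32.zcomm _ (inv_mem hg), ← mul_assoc, mul_inv_cancel_right]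
  have hQcker : Qc ≤ φ.ker := fun q hq => hQker q ⟨q, hq, rfl⟩
  have hcker : c ∉ φ.ker := by
    intro h
    have hfix : ∀ i, (c : G) * u i * (c : G)⁻¹ = u i := by
      intro i
      have hi := hact c i
      rw [show act c i = i from Equiv.ext_iff.1 h i] at hi
      refine hi.resolve_right fun hh => ?_
      have hstep : ∀ k : ℕ, (c : G) ^ k * u i * ((c : G) ^ k)⁻¹ = u i * z ^ k := by
        intro k
        induction k with
        | zero => simp
        | succ k ih =>
          have hzk : (c : G) * z ^ k * (c : G)⁻¹ = z ^ k := by rw [← conj_pow, hcz]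
          rw [pow_succ' (c : G), show (c : G) * (c : G) ^ k * u i * ((c : G) * (c : G) ^ k)⁻¹ =
            (c : G) * ((c : G) ^ k * u i * ((c : G) ^ k)⁻¹) * (c : G)⁻¹ by group, ih, ← conj_mul, hzk, hh,
            mul_assoc, ← pow_succ']
      have h5 := hstep 5
      rw [hc5G, one_mul, inv_one, mul_one, show z ^ 5 = z by
        rw [pow_succ, pow_succ, pow_succ, pow_succ, pow_one, hz2, one_mul, hz2, one_mul]] at h5
      have h6 : u i * 1 = u i * z := by rw [mul_one]; exact h5
      exact hz1 (mul_left_cancel h6).symm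
    have hfixI : ∀ x ∈ I, (c : G) * x * (c : G)⁻¹ = x := by
      intro x hx
      rcases hidx ⟨x, hx⟩ with h' | h' <;> simp only at h' <;> rw [h']
      · exact hfix _
      · rw [hgz, hfix]
    obtain ⟨x, hx, hcx⟩ := hcQ
    rcases hQ32.sq x hx with hx2 | hx2
    · by_cases h1 : x = 1
      · exact hcx (by simp [h1])
      by_cases h2 : x = z
      · exact hcx (h2 ▸ hcz)
      exact hcx (hfixI x ⟨hx, hx2, h1, h2⟩)
    · obtain ⟨a, ha, b, hb, rfl, -⟩ := exists_eq_mul hQ32 h10 hx hx2
      exact hcx (by rw [← conj_mul, hfixI a ha, hfixI b hb])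
  -- kernel and image
  haveI := eA.toEquiv.nontrivial
  haveI : IsSimpleGroup ((centralizer ({z} : Set G)) ⧸ Qc) := IsSimpleGroup.isSimpleGroup_of_surjective eA.symm.toMonoidHom eA.symm.surjective
  haveI : (φ.ker.map (QuotientGroup.mk' Qc)).Normal := Normal.map inferInstance _ (QuotientGroup.mk'_surjective Qc)
  have hker : φ.ker = Qc := by
    refine le_antisymm (fun g hg => ?_) hQcker
    rcases (inferInstance : (φ.ker.map (QuotientGroup.mk' Qc)).Normal).eq_bot_or_eq_top with h | h
    · exact (QuotientGroup.eq_one_iff g).1 ((Subgroup.eq_bot_iff_forall _).1 h _ ⟨g, hg, rfl⟩)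
    · exfalso
      obtain ⟨k, hk, hkc⟩ := (h.ge (mem_top (QuotientGroup.mk' Qc c)))
      apply hcker
      have : k⁻¹ * c ∈ Qc := QuotientGroup.eq.1 hkc
      have := mul_mem hk (hQcker this)
      rwa [mul_inv_cancel_left] at this
  have hrange : φ.range = alternatingGroup (Fin 5) := by
    apply Equiv.Perm.eq_alternatingGroup_of_index_eq_two
    have h60 : Nat.card φ.range = 60 := by
      rw [← index_ker, hker, index_eq_card, Nat.card_congr eA.toEquiv, Nat.card_eq_fintype_card]
      rfl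
    have h := φ.range.card_mul_index
    rw [h60, Nat.card_perm, Nat.card_eq_fintype_card, Fintype.card_fin, show (5 : ℕ).factorial = 120 by rfl] at h
    omega
  refine ⟨{ z := z, Q := Q, u := u, φ := φ, hQ := hQ32, le := hQC, norm := hnorm, self := ?_,
            comm2 := hcomm2, u_mem := fun i => (E5.symm i).out.2, u_cover := fun x hx => ⟨_, hidx ⟨x, hx⟩⟩,
            u_sep := hsep, act := hact, ker := ?_, range := hrange, wc := ?_, two := hcl }, rfl⟩
  · intro g hg
    exact hself g hg (hg z hzQ)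
  · intro g
    rw [← MonoidHom.mem_ker, hker]
    exact ⟨fun h => ⟨g, h, rfl⟩, fun ⟨q, hq, hqg⟩ => (Subtype.ext hqg : q = g) ▸ hq⟩
  · obtain ⟨g, ⟨hq, hgQ⟩, hne⟩ := hnwc
    exact ⟨g, ⟨_, hgQ, rfl⟩, hne⟩

theorem exists_data (z : G) (hz : orderOf z = 2) (Qc : Subgroup (centralizer ({z} : Set G))) [Qc.Normal]
    (hF : Cfsg.generalizedFittingSubgroup (centralizer ({z} : Set G)) = Qc) (hex : Cfsg.IsExtraspecial 2 Qc)
    (hcard : Nat.card Qc = 2 ^ 5)
    (e : (centralizer ({z} : Set G)) ⧸ Qc ≃* Cfsg.Omega (ZMod 2) (Cfsg.quadFormMinus 1 (ZMod 2) 1 1))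
    (hnwc : ∃ g : G, (∃ hq : g * z * g⁻¹ ∈ centralizer ({z} : Set G),
      (⟨g * z * g⁻¹, hq⟩ : centralizer ({z} : Set G)) ∈ Qc) ∧ g * z * g⁻¹ ≠ z)
    (hcl : ∃ x y : G, orderOf x = 2 ∧ orderOf y = 2 ∧ ¬ IsConj x y) :
    ∃ D : Data G, D.z = z := by
  classical
  obtain ⟨eS⟩ := S0824.result (F := ZMod 2) (by simp)
  have hcomm : (Cfsg.Omega (ZMod 2) (Cfsg.quadFormMinus 1 (ZMod 2) 1 1)).map eS.toMonoidHom =
      alternatingGroup (Fin 5) := by
    refine le_antisymm ?_ fun g hg => ?_
    · rw [Cfsg.Omega, map_commutator_eq, MonoidHom.range_eq_top.2 eS.surjective]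
      exact alternatingGroup.commutator_perm_le
    · have h := (commutator_alternatingGroup_eq_self (α := Fin 5) (by simp)).ge hg
      rw [Cfsg.Omega, map_commutator_eq, MonoidHom.range_eq_top.2 eS.surjective]
      exact commutator_mono le_top le_top h
  let eA : (centralizer ({z} : Set G)) ⧸ Qc ≃* alternatingGroup (Fin 5) :=
    e.trans (((Cfsg.Omega (ZMod 2) (Cfsg.quadFormMinus 1 (ZMod 2) 1 1)).equivMapOfInjective
      eS.toMonoidHom eS.injective).trans (MulEquiv.subgroupCongr hcomm))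
  refine exists_data_of_alt z hz Qc ?_ hex hcard eA hnwc hcl
  intro g hg
  refine hF ▸ Symplectic.centralizer_generalizedFitting_le _ ?_
  rw [hF]
  exact hg

end Cfsg.Agent.JTwoType
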