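import Cfsg.Agent.Lib.JTwoType.ThreeA

/-!
# Groups of Hall-Janko type: the centraliser of `k`

* `Triple.k_inverter`: an element of `C(z)` inverting `k`
* `Triple.card_cent_k`: `|C(k)| = 1080`
-/

set_option autoImplicit false
set_option linter.unusedSectionVars false
set_option linter.style.haveILetI false
set_option maxHeartbeats 800000

namespace Cfsg.Agent.JTwoType

open Cfsg Subgroup OrderJTwo
open scoped commutatorElement Pointwise

variable {G : Type*} [Group G] [Finite G]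

namespace Alt5

theorem two_fixed : ∀ σ : A5, σ ^ 3 = 1 → σ ≠ 1 → ∃ i j : Fin 5, i ≠ j ∧ σ.1 i = i ∧ σ.1 j = j := by
  decide +kernel

theorem cent_three_list : ∀ σ : A5, σ ^ 3 = 1 → σ ≠ 1 → ∀ τ : A5, τ * σ = σ * τ → τ ∈ [1, σ, σ ^ 2] := by
  decide +kernel

end Alt5

theorem centralizer_zpowers (d : G) :
    centralizer ((zpowers d : Subgroup G) : Set G) = centralizer ({d} : Set G) := by
  ext y
  rw [mem_centralizer_iff, mem_centralizer_singleton_iff]
  exact ⟨fun h => (h d (mem_zpowers d)).symm, fun h w hw => by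
    obtain ⟨n, rfl⟩ := mem_zpowers_iff.1 hw
    exact ((show Commute y d from h).zpow_right n).eq.symm⟩

theorem card_norm_zpowers_dvd (d : G) :
    Nat.card (normalizer ((zpowers d : Subgroup G) : Set G)) ∣
      Nat.totient (orderOf d) * Nat.card (centralizer ({d} : Set G)) := by
  set K := zpowers d with hK
  have h1 := K.normalizerMonoidHom.ker.card_mul_index
  rw [index_ker, normalizerMonoidHom_ker,
    Nat.card_congr (subgroupOfEquivOfLe (Subgroup.centralizer_le_normalizer _)).toEquiv, centralizer_zpowers] at h1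
  rw [← h1, mul_comm (Nat.totient _)]
  refine mul_dvd_mul_left _ ?_
  have h2 := card_subgroup_dvd_card K.normalizerMonoidHom.range
  rwa [IsCyclic.card_mulAut, Nat.card_zpowers] at h2

theorem fix_modEq_three (c : G) (hc : c ^ 3 = 1) (F : Subgroup G) (hF : ∀ x ∈ F, c * x * c⁻¹ ∈ F) :
    Nat.card F ≡ Nat.card (F ⊓ centralizer ({c} : Set G) : Subgroup G) [MOD 3] := by
  haveI : Fact (Nat.Prime 3) := ⟨Nat.prime_three⟩
  have hmem : ∀ g ∈ zpowers c, ∀ x ∈ F, g * x * g⁻¹ ∈ F := by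
    intro g hg x hx
    obtain ⟨k, rfl⟩ := mem_powers_iff_mem_zpowers.mpr hg
    induction k with
    | zero => simpa using hx
    | succ k ih =>
      show c ^ (k + 1) * x * (c ^ (k + 1))⁻¹ ∈ F
      rw [show c ^ (k + 1) * x * (c ^ (k + 1))⁻¹ = c * (c ^ k * x * (c ^ k)⁻¹) * c⁻¹ by rw [pow_succ']; group]
      exact hF _ (ih (pow_mem (mem_zpowers c) k))
  letI : MulAction (zpowers c) F :=
    { smul := fun g y => ⟨g * y * (g : G)⁻¹, hmem g g.2 y y.2⟩
      one_smul := fun y => Subtype.ext (show (1 : G) * y * (1 : G)⁻¹ = y by simp)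
      mul_smul := fun g h y => Subtype.ext (show ((g * h : zpowers c) : G) * y *
        ((g * h : zpowers c) : G)⁻¹ = g * (h * y * (h : G)⁻¹) * (g : G)⁻¹ by rw [Subgroup.coe_mul]; group) }
  have hp : IsPGroup 3 (zpowers c) := by
    intro g
    refine ⟨1, Subtype.ext ?_⟩
    obtain ⟨k, hk⟩ := mem_zpowers_iff.1 g.2
    rw [Subgroup.coe_pow, ← hk, pow_one, ← zpow_natCast, ← zpow_mul, mul_comm, zpow_mul, zpow_natCast, hc, one_zpow]
    rfl
  have h := hp.card_modEq_card_fixedPoints F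
  have e : Nat.card (MulAction.fixedPoints (zpowers c) F) =
      Nat.card (F ⊓ centralizer ({c} : Set G) : Subgroup G) := by
    refine Nat.card_eq_of_bijective
      (fun y : MulAction.fixedPoints (zpowers c) F => (⟨(y.1 : G), y.1.2, mem_centralizer_singleton_iff.2
        (mul_inv_eq_iff_eq_mul.1 (congrArg Subtype.val (y.2 ⟨c, mem_zpowers c⟩))).symm⟩ :
          (F ⊓ centralizer ({c} : Set G) : Subgroup G))) ⟨fun a b e => ?_, fun y => ?_⟩
    · exact Subtype.ext (Subtype.ext (congrArg (fun w : (F ⊓ centralizer ({c} : Set G) : Subgroup G) => (w : G)) e))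
    · refine ⟨⟨⟨y, y.2.1⟩, fun g => Subtype.ext ?_⟩, rfl⟩
      obtain ⟨k, hk⟩ := mem_zpowers_iff.1 g.2
      show (g : G) * y * (g : G)⁻¹ = y
      rw [← hk, mul_inv_eq_iff_eq_mul]
      exact ((show Commute c y from (mem_centralizer_singleton_iff.1 y.2.2).symm).zpow_left k).eq
  rwa [e] at h

namespace Data

variable {D : Data G}

include D in
theorem cent_seven_dvd {d : G} (hd : orderOf d = 7) : Nat.card (centralizer ({d} : Set G)) ∣ 189 := by
  classical
  set C := centralizer ({d} : Set G)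
  have hdC : 7 ∣ Nat.card C := hd ▸ Subgroup.orderOf_dvd_natCard C (mem_centralizer_singleton_iff.2 rfl)
  have hdvd : Nat.card C ∣ 189 * 3200 := by
    rw [show 189 * 3200 = 604800 from rfl, ← D.card_G]; exact card_subgroup_dvd_card C
  have h2 : ¬ 2 ∣ Nat.card C := by
    intro h
    haveI : Fact (Nat.Prime 2) := ⟨Nat.prime_two⟩
    obtain ⟨⟨w, hw⟩, hw2⟩ := exists_prime_orderOf_dvd_card' (G := C) 2 h
    rw [Subgroup.orderOf_mk] at hw2
    have h7 : 7 ∣ Nat.card (centralizer ({w} : Set G)) :=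
      hd ▸ Subgroup.orderOf_dvd_natCard _ (mem_centralizer_singleton_iff.2 (mem_centralizer_singleton_iff.1 hw).symm)
    obtain ⟨t, ht, -⟩ := D.exists_outer
    rcases D.classes ht hw2 with h | h <;> rw [card_cent_isConj h] at h7
    · rw [D.card_C] at h7; norm_num at h7
    · rw [D.card_CT ht] at h7; norm_num at h7
  have h5 : ¬ 5 ∣ Nat.card C := by
    intro h
    haveI : Fact (Nat.Prime 5) := ⟨Nat.prime_five⟩
    obtain ⟨⟨w, hw⟩, hw5⟩ := exists_prime_orderOf_dvd_card' (G := C) 5 h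
    rw [Subgroup.orderOf_mk] at hw5
    have h7 : 7 ∣ Nat.card (centralizer ({w} : Set G)) :=
      hd ▸ Subgroup.orderOf_dvd_natCard _ (mem_centralizer_singleton_iff.2 (mem_centralizer_singleton_iff.1 hw).symm)
    rcases D.five_cases hw5 with h | h <;> rw [h] at h7 <;> norm_num at h7
  have hco : (Nat.card C).Coprime 3200 := by
    rw [show 3200 = 2 ^ 7 * 5 ^ 2 from rfl]
    exact Nat.Coprime.mul_right (((Nat.prime_two.coprime_iff_not_dvd).2 h2).symm.pow_right 7)
      (((Nat.prime_five.coprime_iff_not_dvd).2 h5).symm.pow_right 2)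
  exact hco.dvd_of_dvd_mul_right hdvd

namespace Triple

variable {t : G} (T : D.Triple t)

/-- the image of `k` in the alternating group -/
noncomputable def σk : Alt5.A5 := D.psi ⟨T.k, D.mem_C.2 T.kz⟩

theorem σk_spec : T.σk ^ 3 = 1 ∧ T.σk ≠ 1 := by
  refine ⟨?_, fun h => ?_⟩
  · rw [σk, ← map_pow, ← map_one D.psi]
    exact congrArg D.psi (Subtype.ext (show T.k ^ 3 = 1 from T.hk.k3))
  · have h32 : orderOf T.k ∣ 32 := D.hQ.card ▸ Subgroup.orderOf_dvd_natCard _ ((D.psi_ker _).1 h)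
    rw [T.hk.k_ord] at h32
    norm_num at h32

theorem σk_ord : orderOf T.σk = 3 :=
  haveI : Fact (Nat.Prime 3) := ⟨Nat.prime_three⟩
  orderOf_eq_prime T.σk_spec.1 T.σk_spec.2

theorem k_inverter : ∃ w, w * D.z = D.z * w ∧ w * T.k * w⁻¹ = T.k⁻¹ := by
  classical
  haveI : Fact (Nat.Prime 3) := ⟨Nat.prime_three⟩
  obtain ⟨hσ3, hσ1⟩ := T.σk_spec
  obtain ⟨τ, -, -, hτ⟩ := Alt5.inverted T.σk (fun e => hσ1 (by
    rw [← hσ3, pow_succ, pow_two, e, one_mul]))
  obtain ⟨g, hg⟩ := D.psi_surj τ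
  set k' : centralizer ({D.z} : Set G) := ⟨T.k, D.mem_C.2 T.kz⟩
  set K : Subgroup (centralizer ({D.z} : Set G)) := (zpowers T.σk).comap D.psi with hK
  have hK96 : Nat.card K = 96 := by
    have hi : K.index = 20 := by
      rw [hK, index_comap_of_surjective _ D.psi_surj]
      have := (zpowers T.σk).card_mul_index
      rw [Nat.card_zpowers, T.σk_ord, Alt5.card_A5] at this
      omega
    have := K.card_mul_index
    rw [hi, D.card_C] at this
    omega
  have hkK : k' ∈ K := mem_zpowers T.σk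
  have hgK : g * k' * g⁻¹ ∈ K := by
    show D.psi (g * k' * g⁻¹) ∈ zpowers T.σk
    rw [map_mul, map_mul, map_inv, hg]
    show τ * T.σk * τ⁻¹ ∈ _
    rw [hτ]; exact inv_mem (mem_zpowers _)
  obtain ⟨R, hR⟩ := (IsPGroup.of_card (p := 3) (n := 1) (G := zpowers (⟨k', hkK⟩ : K)) (by
    rw [Nat.card_zpowers, Subgroup.orderOf_mk, Subgroup.orderOf_mk, T.hk.k_ord, pow_one])).exists_le_sylow
  have hRk : (R : Subgroup K) = zpowers (⟨k', hkK⟩ : K) := by
    refine (Subgroup.eq_of_le_of_card_ge hR ?_).symm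
    rw [Nat.card_zpowers, Subgroup.orderOf_mk, Subgroup.orderOf_mk, T.hk.k_ord]
    obtain ⟨n, hn⟩ := IsPGroup.iff_card.1 R.isPGroup'
    have hd := card_subgroup_dvd_card (R : Subgroup K)
    rw [hn, hK96] at hd
    rw [hn]
    rcases Nat.lt_or_ge n 2 with h | h
    · exact (Nat.pow_le_pow_right (by norm_num) (show n ≤ 1 by omega)).trans (by norm_num)
    · exact absurd ((Nat.pow_dvd_pow 3 h).trans hd) (by norm_num)
  obtain ⟨h, hh⟩ := conj_into_sylow R ⟨g * k' * g⁻¹, hgK⟩ ⟨1, by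
    rw [Subgroup.orderOf_mk, pow_one]
    exact (MulEquiv.orderOf_eq (MulAut.conj g) k').trans (by rw [Subgroup.orderOf_mk, T.hk.k_ord])⟩
  rw [hRk] at hh
  obtain ⟨m, hm⟩ := mem_zpowers_iff.1 hh
  refine ⟨((h : centralizer ({D.z} : Set G)) : G) * g,
    D.mem_C.1 (mul_mem (h : centralizer ({D.z} : Set G)).2 g.2), ?_⟩
  have e : k' ^ m = (h : centralizer ({D.z} : Set G)) * (g * k' * g⁻¹) * (h : centralizer ({D.z} : Set G))⁻¹ := by
    simpa using congrArg Subtype.val hm
  have hψ : T.σk ^ m = T.σk⁻¹ := by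
    have h2 := congrArg D.psi e
    rw [map_zpow, map_mul, map_mul, map_mul, map_mul, map_inv, map_inv, hg] at h2
    obtain ⟨j, hj⟩ := mem_zpowers_iff.1 (h.2 : D.psi (h : centralizer ({D.z} : Set G)) ∈ zpowers T.σk)
    rw [← hj] at h2
    change T.σk ^ m = T.σk ^ j * (τ * T.σk * τ⁻¹) * (T.σk ^ j)⁻¹ at h2
    rw [hτ] at h2
    rw [h2]; group
  rw [show ((h : centralizer ({D.z} : Set G)) : G) * g * T.k * (((h : centralizer ({D.z} : Set G)) : G) * g)⁻¹ =
    ((h : centralizer ({D.z} : Set G)) : G) * ((g : G) * T.k * (g : G)⁻¹) *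
      ((h : centralizer ({D.z} : Set G)) : G)⁻¹ by group]
  have e' : T.k ^ m = ((h : centralizer ({D.z} : Set G)) : G) * ((g : G) * T.k * (g : G)⁻¹) *
      ((h : centralizer ({D.z} : Set G)) : G)⁻¹ := by
    simpa using congrArg Subtype.val e
  rw [← e', ← zpow_neg_one, zpow_eq_zpow_iff_modEq, T.hk.k_ord]
  have := zpow_eq_zpow_iff_modEq.1 (hψ.trans (zpow_neg_one T.σk).symm)
  rwa [T.σk_ord] at this

/-- the part of `Q` centralised by `k` -/
def F : Subgroup G := D.Q ⊓ centralizer ({T.k} : Set G)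

theorem u_fix {i : Fin 5} (hi : (T.σk).1 i = i) : D.u i ∈ T.F := by
  refine ⟨(D.u_mem i).1, mem_centralizer_singleton_iff.2 ?_⟩
  have hφ : D.φ ⟨T.k, D.mem_C.2 T.kz⟩ i = i := hi
  rcases D.act ⟨T.k, D.mem_C.2 T.kz⟩ i with h | h <;> rw [hφ] at h <;>
    change T.k * D.u i * T.k⁻¹ = _ at h
  · exact (mul_inv_eq_iff_eq_mul.1 h).symm
  · exfalso
    have h2 : T.k * (T.k * D.u i * T.k⁻¹) * T.k⁻¹ = D.u i := by
      rw [h, D.conj_mul_z T.kz, h, mul_assoc, D.z2, mul_one]
    have h3 : T.k * (T.k * (T.k * D.u i * T.k⁻¹) * T.k⁻¹) * T.k⁻¹ = D.u i := by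
      rw [show T.k * (T.k * (T.k * D.u i * T.k⁻¹) * T.k⁻¹) * T.k⁻¹ = T.k ^ 3 * D.u i * (T.k ^ 3)⁻¹ by
        simp only [pow_succ, pow_zero, one_mul, mul_inv_rev, mul_assoc], T.hk.k3, one_mul, inv_one, mul_one]
    rw [h2, h] at h3
    exact D.hQ.zne (mul_eq_left.1 h3)

theorem F_pair : ∃ i j : Fin 5, i ≠ j ∧ D.u i ∈ T.F ∧ D.u j ∈ T.F := by
  obtain ⟨i, j, hij, hi, hj⟩ := Alt5.two_fixed _ T.σk_spec.1 T.σk_spec.2
  exact ⟨i, j, hij, T.u_fix hi, T.u_fix hj⟩

theorem F_card : Nat.card T.F = 8 := by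
  obtain ⟨i, j, hij, hi, hj⟩ := T.F_pair
  have hd : Nat.card T.F ∣ 2 ^ 5 := by
    rw [show 2 ^ 5 = 32 from rfl, ← D.hQ.card]
    exact card_dvd_of_le inf_le_left
  obtain ⟨n, hn, hn'⟩ := (Nat.dvd_prime_pow Nat.prime_two).1 hd
  have hmod : Nat.card D.Q ≡ Nat.card T.F [MOD 3] :=
    fix_modEq_three T.k T.hk.k3 D.Q (fun x hx => D.norm T.k T.kz x hx)
  rw [D.hQ.card, hn'] at hmod
  have hne5 : n ≠ 5 := fun h => by
    have heq : T.F = D.Q := Subgroup.eq_of_le_of_card_ge inf_le_left (by rw [hn', h, D.hQ.card]; norm_num)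
    have hkQ : T.k ∈ D.Q := D.self T.k fun x hx => (mem_centralizer_singleton_iff.1 (heq.ge hx).2).symm
    have := Subgroup.orderOf_dvd_natCard _ hkQ
    rw [T.hk.k_ord, D.hQ.card] at this
    norm_num at this
  have hbig : 3 ≤ n := by
    by_contra hlt
    haveI : Fact (Nat.Prime 2) := ⟨Nat.prime_two⟩
    have hcomm : D.u i * D.u j = D.u j * D.u i := by
      have hc : ∀ x y : T.F, x * y = y * x := by
        interval_cases n
        · haveI : Subsingleton T.F := (Nat.card_eq_one_iff_unique.1 (by simpa using hn')).1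
          exact fun x y => Subsingleton.elim _ _
        · haveI : IsCyclic T.F := isCyclic_of_prime_card (p := 2) (by simpa using hn')
          exact fun x y => mul_comm' x y
        · haveI := IsPGroup.isMulCommutative_of_card_eq_prime_sq (G := T.F) (p := 2) hn'
          exact fun x y => mul_comm' x y
      exact congrArg Subtype.val (hc ⟨_, hi⟩ ⟨_, hj⟩)
    rw [D.u_anti hij] at hcomm
    exact D.hQ.zne (mul_eq_left.1 hcomm)
  rw [hn']
  interval_cases n <;> simp [Nat.ModEq] at hmod hne5 ⊢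

theorem card_cent_kz_dvd : Nat.card (centralizer ({T.k} : Set G) ⊓ centralizer ({D.z} : Set G) : Subgroup G) ∣ 24 := by
  classical
  set H : Subgroup G := centralizer ({T.k} : Set G) ⊓ centralizer ({D.z} : Set G) with hH
  obtain ⟨hσ3, hσ1⟩ := T.σk_spec
  let χ : H →* Alt5.A5 := D.psi.comp (Subgroup.inclusion inf_le_right)
  have hrange : χ.range ≤ zpowers T.σk := by
    rintro _ ⟨y, rfl⟩
    have hm := Alt5.cent_three_list T.σk hσ3 hσ1 (χ y) (by
      show D.psi _ * D.psi _ = D.psi _ * D.psi _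
      rw [← map_mul, ← map_mul]
      exact congrArg D.psi (Subtype.ext (mem_centralizer_singleton_iff.1 y.2.1)))
    simp only [List.mem_cons, List.not_mem_nil, or_false] at hm
    rcases hm with e | e | e <;> rw [e]
    exacts [one_mem _, mem_zpowers _, pow_mem (mem_zpowers _) 2]
  have hr : Nat.card χ.range ∣ 3 := by
    have := card_dvd_of_le hrange
    rwa [Nat.card_zpowers, T.σk_ord] at this
  have hker : Nat.card χ.ker ∣ 8 := by
    have hle : χ.ker ≤ T.F.subgroupOf H := fun y hy =>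
      mem_subgroupOf.2 ⟨(D.psi_ker _).1 hy, y.2.1⟩
    refine (card_dvd_of_le hle).trans ?_
    have hFH : T.F ≤ H := fun y hy => ⟨hy.2, D.le hy.1⟩
    rw [Nat.card_congr (subgroupOfEquivOfLe hFH).toEquiv, T.F_card]
  rw [← χ.ker.card_mul_index, index_ker, show 24 = 8 * 3 from rfl]
  exact Nat.mul_dvd_mul hker hr

theorem B_cent_k : T.P.B ≤ centralizer ({T.k} : Set G) := fun b hb =>
  mem_centralizer_singleton_iff.2 (T.hk.centB b hb).symm

theorem not_25_dvd : ¬ 25 ∣ Nat.card (centralizer ({T.k} : Set G)) := by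
  classical
  haveI : Fact (Nat.Prime 5) := ⟨Nat.prime_five⟩
  set H := centralizer ({T.k} : Set G) with hH
  intro h
  obtain ⟨S⟩ := (inferInstance : Nonempty (Sylow 5 H))
  obtain ⟨S', hS'⟩ := (S.isPGroup'.map H.subtype).exists_le_sylow
  have hd : 25 ∣ Nat.card (S : Subgroup H) := by
    obtain ⟨n, hn⟩ := IsPGroup.iff_card.1 S.isPGroup'
    have h1 := (S : Subgroup H).card_mul_index
    have := S.not_dvd_index
    rw [hn] at h1 ⊢
    rcases Nat.lt_or_ge n 2 with hlt | hge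
    · interval_cases n <;> omega
    · exact Nat.pow_dvd_pow 5 hge
  have heq : (S : Subgroup H).map H.subtype = (S' : Subgroup G) := Subgroup.eq_of_le_of_card_ge hS' (by
    rw [D.sylow5_card S', card_subtype]; exact Nat.le_of_dvd Nat.card_pos hd)
  have hk : T.k ∈ (S' : Subgroup G) := by
    rw [← D.sylow5_self S']
    refine mem_centralizer_iff.2 fun s hs => ?_
    rw [SetLike.mem_coe, ← heq] at hs
    obtain ⟨s', -, rfl⟩ := hs
    exact mem_centralizer_singleton_iff.1 s'.2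
  have := Subgroup.orderOf_dvd_natCard _ hk
  rw [T.hk.k_ord, D.sylow5_card] at this
  norm_num at this

theorem card_cent_k_aux : Nat.card (centralizer ({T.k} : Set G)) = 1080 ∨
    Nat.card (centralizer ({T.k} : Set G)) = 7560 := by
  classical
  haveI : Fact (Nat.Prime 2) := ⟨Nat.prime_two⟩
  haveI : Fact (Nat.Prime 5) := ⟨Nat.prime_five⟩
  haveI : Fact (Nat.Prime 3) := ⟨Nat.prime_three⟩
  set H := centralizer ({T.k} : Set G) with hH
  have hFH : T.F ≤ H := inf_le_right
  obtain ⟨i, j, hij, hi, hj⟩ := T.F_pair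
  obtain ⟨T2, hT2⟩ : ∃ T2 : Sylow 2 H, (T2 : Subgroup H) = T.F.subgroupOf H := by
    refine isSylow_of_norm _ (IsPGroup.of_card (n := 3) (by
      rw [Nat.card_congr (subgroupOfEquivOfLe hFH).toEquiv, T.F_card]; rfl)) fun R hKR hRN hR => ?_
    have hle : R.map H.subtype ≤ H ⊓ centralizer ({D.z} : Set G) := by
      rintro _ ⟨r, hr, rfl⟩
      refine ⟨r.2, D.mem_C.2 (mul_inv_eq_iff_eq_mul.1 ?_)⟩
      have hmemF : ∀ y (hy : y ∈ T.F), (r : G) * y * (r : G)⁻¹ ∈ D.Q := fun y hy =>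
        (mem_subgroupOf.1 ((mem_normalizer_iff.1 (hRN hr) ⟨y, hFH hy⟩).1 (mem_subgroupOf.2 hy))).1
      show (r : G) * D.z * (r : G)⁻¹ = D.z
      set a := (r : G) * D.u i * (r : G)⁻¹ with ha
      set b := (r : G) * D.u j * (r : G)⁻¹ with hb
      have e : a * b = b * a * ((r : G) * D.z * (r : G)⁻¹) := by
        rw [ha, hb, conj_mul, D.u_anti hij]; group
      have hne : (r : G) * D.z * (r : G)⁻¹ ≠ 1 := fun h => D.hQ.zne (conj_eq_one_iff.1 h)
      rcases D.hQ.comm a (hmemF _ hi) b (hmemF _ hj) with h | h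
      · exact absurd (mul_eq_left.1 (h ▸ e).symm) hne
      · exact mul_left_cancel (e.symm.trans h)
    have hd := (card_dvd_of_le hle).trans T.card_cent_kz_dvd
    rw [card_subtype] at hd
    obtain ⟨n, hn⟩ := IsPGroup.iff_card.1 hR
    have h8 : Nat.card R ∣ 8 := by
      rw [hn] at hd ⊢
      have hco : (2 ^ n).Coprime 3 := Nat.Coprime.pow_left n (by norm_num)
      exact hco.dvd_of_dvd_mul_right (by rwa [show 8 * 3 = 24 from rfl])
    exact (Subgroup.eq_of_le_of_card_ge hKR (by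
      rw [Nat.card_congr (subgroupOfEquivOfLe hFH).toEquiv, T.F_card]; exact Nat.le_of_dvd (by norm_num) h8)).ge
  have h2c : Nat.card (T2 : Subgroup H) = 8 := by
    rw [hT2, Nat.card_congr (subgroupOfEquivOfLe hFH).toEquiv, T.F_card]
  have h8 : 8 ∣ Nat.card H := h2c ▸ card_subgroup_dvd_card _
  have h16 : ¬ 16 ∣ Nat.card H := by
    intro h
    have h1 := (T2 : Subgroup H).card_mul_index
    rw [h2c] at h1
    have := T2.not_dvd_index
    omega
  have h27 : 27 ∣ Nat.card H := by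
    obtain ⟨S, hS⟩ := T.exists_sylow3
    rw [← sylow3_card (D := D) S]
    exact card_dvd_of_le fun y hy => mem_centralizer_singleton_iff.2 ((T.sylow3_basic S hS).1 y hy)
  have h5 : 5 ∣ Nat.card H := by
    have : 60 ∣ Nat.card H := T.P.cardB ▸ card_dvd_of_le T.B_cent_k
    omega
  have h25 : ¬ 25 ∣ Nat.card H := T.not_25_dvd
  have hG : Nat.card H ∣ 604800 := D.card_G ▸ card_subgroup_dvd_card H
  obtain ⟨q, hq⟩ : 1080 ∣ Nat.card H := by
    have : 8 * 27 ∣ Nat.card H := Nat.Coprime.mul_dvd_of_dvd_of_dvd (by norm_num) h8 h27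
    exact Nat.Coprime.mul_dvd_of_dvd_of_dvd (m := 8 * 27) (n := 5) (by norm_num) this h5
  have hq7 : q ∣ 7 := by
    have hd : q ∣ 80 * 7 := by
      obtain ⟨c, hc⟩ := hG
      rw [hq] at hc
      exact ⟨c, by nlinarith [hc]⟩
    have hco : q.Coprime 80 := by
      rw [show 80 = 2 ^ 4 * 5 from rfl]
      refine Nat.Coprime.mul_right (((Nat.prime_two.coprime_iff_not_dvd).2 fun h => h16 ?_).symm.pow_right 4)
        ((Nat.prime_five.coprime_iff_not_dvd).2 fun h => h25 ?_).symm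
      · obtain ⟨c, rfl⟩ := h; exact ⟨135 * c, by rw [hq]; ring⟩
      · obtain ⟨c, rfl⟩ := h; exact ⟨216 * c, by rw [hq]; ring⟩
    exact hco.dvd_of_dvd_mul_left hd
  rcases (Nat.dvd_prime (by norm_num : Nat.Prime 7)).1 hq7 with rfl | rfl
  · exact Or.inl (by rw [hq])
  · exact Or.inr (by rw [hq])

/-- an element inverting `k` can be moved into the normaliser of a given Sylow subgroup of `C(k)` -/
theorem frattini {p : ℕ} [Fact p.Prime] (S : Sylow p (centralizer ({T.k} : Set G))) :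
    ∃ n, n * T.k * n⁻¹ = T.k⁻¹ ∧
      ∀ s ∈ (S : Subgroup (centralizer ({T.k} : Set G))).map (centralizer ({T.k} : Set G)).subtype,
        n * s * n⁻¹ ∈ (S : Subgroup (centralizer ({T.k} : Set G))).map (centralizer ({T.k} : Set G)).subtype := by
  obtain ⟨w, -, hw⟩ := T.k_inverter
  have hwH : ∀ y ∈ (centralizer ({T.k} : Set G)), w * y * w⁻¹ ∈ (centralizer ({T.k} : Set G)) := fun y hy => by
    have hc : Commute (w * y * w⁻¹) (w * T.k * w⁻¹) := by
      show w * y * w⁻¹ * (w * T.k * w⁻¹) = w * T.k * w⁻¹ * (w * y * w⁻¹)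
      rw [conj_mul, conj_mul, mem_centralizer_singleton_iff.1 hy]
    rw [hw] at hc
    rw [mem_centralizer_singleton_iff]
    simpa using hc.inv_right.eq
  let θ : (centralizer ({T.k} : Set G)) →* (centralizer ({T.k} : Set G)) :=
    { toFun := fun x => ⟨w * x * w⁻¹, hwH x x.2⟩
      map_one' := Subtype.ext (show w * (1 : G) * w⁻¹ = 1 by rw [mul_one, mul_inv_cancel])
      map_mul' := fun x y => Subtype.ext (show w * ((x : G) * y) * w⁻¹ = w * x * w⁻¹ * (w * y * w⁻¹) by group) }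
  obtain ⟨S1, hS1⟩ := (S.isPGroup'.map θ).exists_le_sylow
  obtain ⟨c, hc⟩ := MulAction.exists_smul_eq (centralizer ({T.k} : Set G)) S1 S
  refine ⟨(c : G) * w, ?_, ?_⟩
  · calc (c : G) * w * T.k * ((c : G) * w)⁻¹ = (c : G) * (w * T.k * w⁻¹) * (c : G)⁻¹ := by group
      _ = T.k⁻¹ := by
        rw [hw, (show Commute (c : G) T.k from mem_centralizer_singleton_iff.1 c.2).inv_right.eq,
          mul_inv_cancel_right]
  · rintro _ ⟨s, hs, rfl⟩
    have h2 := Subgroup.smul_mem_pointwise_smul _ (MulAut.conj c) _ (hS1 ⟨s, hs, rfl⟩)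
    rw [← Sylow.coe_subgroup_smul, hc] at h2
    refine ⟨_, h2, ?_⟩
    show (c : G) * (w * s * w⁻¹) * (c : G)⁻¹ = (c : G) * w * s * ((c : G) * w)⁻¹
    group

theorem seven_free : Nat.card (centralizer ({T.k} : Set G)) = 1080 := by
  classical
  rcases T.card_cent_k_aux with h | h
  · exact h
  exfalso
  haveI : Fact (Nat.Prime 7) := ⟨by norm_num⟩
  set H := centralizer ({T.k} : Set G) with hH
  obtain ⟨S⟩ := (inferInstance : Nonempty (Sylow 7 H))
  have hS7 : Nat.card (S : Subgroup H) = 7 := by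
    obtain ⟨n, hn⟩ := IsPGroup.iff_card.1 S.isPGroup'
    have h1 := (S : Subgroup H).card_mul_index
    have := S.not_dvd_index
    rw [hn, h] at h1
    rw [hn]
    rcases Nat.lt_or_ge n 2 with hlt | hge
    · interval_cases n <;> omega
    · have : 7 ^ 2 ∣ 7560 := (Nat.pow_dvd_pow 7 hge).trans ⟨_, h1.symm⟩
      norm_num at this
  haveI : IsCyclic (S : Subgroup H) := isCyclic_of_prime_card hS7
  obtain ⟨⟨d, hdS⟩, hd⟩ := IsCyclic.exists_generator (α := (S : Subgroup H))
  have hd7 : orderOf (d : G) = 7 := by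
    rw [Subgroup.orderOf_coe, ← Subgroup.orderOf_mk d hdS, orderOf_eq_card_of_forall_mem_zpowers hd, hS7]
  set K := zpowers (d : G) with hK
  have hmap : (S : Subgroup H).map H.subtype = K := by
    have hle : K ≤ (S : Subgroup H).map H.subtype := zpowers_le.2 ⟨d, hdS, rfl⟩
    refine (Subgroup.eq_of_le_of_card_ge hle ?_).symm
    rw [card_subtype, hS7, Nat.card_zpowers, hd7]
  set N := normalizer (K : Set G) with hN
  have hN378 : Nat.card N ∣ 378 := by
    have h1 : Nat.card N ∣ 1134 := by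
      have := (card_norm_zpowers_dvd (d : G)).trans (Nat.mul_dvd_mul_left _ (cent_seven_dvd (D := D) hd7))
      rw [hd7, Nat.totient_prime (by norm_num)] at this
      exact this
    have h2 : Nat.card N ∣ 604800 := D.card_G ▸ card_subgroup_dvd_card N
    exact (Nat.dvd_gcd h1 h2).trans (by norm_num)
  -- `N_H` has index two in a subgroup of `N`
  set NH := normalizer ((S : Subgroup H) : Set H) with hNH
  have hNHN : NH.map H.subtype ≤ N := by
    rintro _ ⟨y, hy, rfl⟩
    refine mem_normalizer_iff.2 fun w => ?_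
    rw [← hmap]
    constructor
    · rintro ⟨s, hs, rfl⟩
      exact ⟨y * s * y⁻¹, (mem_normalizer_iff.1 hy s).1 hs, rfl⟩
    · rintro ⟨s, hs, e⟩
      refine ⟨y⁻¹ * s * y, (mem_normalizer_iff''.1 hy s).1 hs, ?_⟩
      show (y : G)⁻¹ * s * y = w
      rw [show (s : G) = (y : G) * w * (y : G)⁻¹ from e]; group
  obtain ⟨n0, hn0k, hn0S⟩ := T.frattini S
  rw [hmap] at hn0S
  have hn0N : n0 ∈ N := by
    refine mem_normalizer_iff.2 fun w => ⟨hn0S w, fun hw => ?_⟩
    let f : K → K := fun s => ⟨_, hn0S s s.2⟩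
    have hf : Function.Injective f := fun a b e => Subtype.ext ((MulAut.conj n0).injective (congrArg Subtype.val e))
    obtain ⟨s', hs'⟩ := (Finite.injective_iff_surjective.1 hf) ⟨_, hw⟩
    exact (MulAut.conj n0).injective (congrArg Subtype.val hs') ▸ s'.2
  set N2 := N ⊓ normalizer ((zpowers T.k : Subgroup G) : Set G) with hN2
  have hle : NH.map H.subtype ≤ N2 := le_inf hNHN (by
    rintro _ ⟨y, -, rfl⟩
    refine centralizer_le_normalizer _ ?_
    rw [centralizer_zpowers]; exact y.2)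
  have hn0n : n0 ∈ normalizer ((zpowers T.k : Subgroup G) : Set G) := by
    refine mem_normalizer_iff.2 fun w => ⟨fun hw => ?_, fun hw => ?_⟩
    · obtain ⟨l, rfl⟩ := mem_zpowers_iff.1 hw
      rw [← conj_zpow, hn0k]; exact zpow_mem (inv_mem (mem_zpowers _)) l
    · obtain ⟨l, hl⟩ := mem_zpowers_iff.1 hw
      refine mem_zpowers_iff.2 ⟨-l, (MulAut.conj n0).injective ?_⟩
      show n0 * T.k ^ (-l) * n0⁻¹ = n0 * w * n0⁻¹
      rw [← hl, ← conj_zpow, hn0k, inv_zpow, ← zpow_neg, neg_neg]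
  have hinvk : ∀ y ∈ N2, y ∈ NH.map H.subtype ∨ n0⁻¹ * y ∈ NH.map H.subtype := by
    intro y hy
    have key : ∀ u ∈ N, u * T.k = T.k * u → u ∈ NH.map H.subtype := by
      intro u hu huk
      refine ⟨⟨u, mem_centralizer_singleton_iff.2 huk⟩, mem_normalizer_iff.2 fun s => ?_, rfl⟩
      have h1 := mem_normalizer_iff.1 hu (s : G)
      rw [← hmap] at h1
      constructor
      · intro hs
        obtain ⟨s', hs', e⟩ := h1.1 ⟨s, hs, rfl⟩
        rwa [show (⟨u, mem_centralizer_singleton_iff.2 huk⟩ : H) * s *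
          (⟨u, mem_centralizer_singleton_iff.2 huk⟩ : H)⁻¹ = s' from Subtype.ext e.symm]
      · intro hs
        obtain ⟨s', hs', e⟩ := h1.2 ⟨_, hs, rfl⟩
        rwa [show s = s' from Subtype.ext e.symm]
    have hm : y * T.k * y⁻¹ ∈ zpowers T.k := (mem_normalizer_iff.1 hy.2 T.k).1 (mem_zpowers _)
    rcases mem_zpowers_three T.hk.k3 hm with e | e | e
    · exact absurd (conj_eq_one_iff.1 e) T.hk.k_ne_one
    · exact Or.inl (key y hy.1 (mul_inv_eq_iff_eq_mul.1 e))
    · refine Or.inr (key _ (mul_mem (inv_mem hn0N) hy.1) (mul_inv_eq_iff_eq_mul.1 ?_))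
      have hk2 : T.k ^ 2 = T.k⁻¹ := eq_inv_of_mul_eq_one_left (by rw [← pow_succ, T.hk.k3])
      calc n0⁻¹ * y * T.k * (n0⁻¹ * y)⁻¹ = n0⁻¹ * (y * T.k * y⁻¹) * n0 := by group
        _ = n0⁻¹ * (n0 * T.k * n0⁻¹) * n0 := by rw [e, hk2, hn0k]
        _ = T.k := by group
  have hk2ne : T.k⁻¹ ≠ T.k := fun e => by
    have := orderOf_dvd_of_pow_eq_one (show T.k ^ 2 = 1 by rw [pow_two]; nth_rw 1 [← e]; exact inv_mul_cancel _)
    rw [T.hk.k_ord] at this
    norm_num at this
  have hn0not : n0 ∉ NH.map H.subtype := by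
    rintro ⟨y, -, rfl⟩
    apply hk2ne
    rw [← hn0k]
    show (y : G) * T.k * (y : G)⁻¹ = T.k
    rw [mem_centralizer_singleton_iff.1 y.2, mul_inv_cancel_right]
  have hidx : ((NH.map H.subtype).subgroupOf N2).index = 2 := by
    rw [index_eq_two_iff']
    refine ⟨⟨n0, hn0N, hn0n⟩⁻¹, fun b => ?_⟩
    simp only [mem_subgroupOf, Subgroup.coe_mul, Subgroup.coe_inv]
    rcases hinvk b b.2 with hb | hb
    · exact Or.inr ⟨hb, fun h' => hn0not (inv_mem_iff.1 (by simpa using mul_mem h' (inv_mem hb)))⟩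
    · exact Or.inl ⟨hb, fun h' => hn0not (inv_mem_iff.1 (by simpa using mul_mem hb (inv_mem h')))⟩
  have hcardN2 : Nat.card NH * 2 ∣ 378 := by
    have h1 := ((NH.map H.subtype).subgroupOf N2).card_mul_index
    rw [hidx, Nat.card_congr (subgroupOfEquivOfLe hle).toEquiv, card_subtype] at h1
    rw [h1]
    exact (card_dvd_of_le inf_le_left).trans hN378
  have hsyl : Nat.card (Sylow 7 H) = NH.index := S.card_eq_index_normalizer
  have hmod := card_sylow_modEq_one 7 H
  rw [hsyl, Nat.ModEq] at hmod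
  have hprod := NH.card_mul_index
  rw [h] at hprod
  have hnh : Nat.card NH ∣ 189 := Nat.dvd_of_mul_dvd_mul_right (by norm_num : 0 < 2) hcardN2
  have h7NH : 7 ∣ Nat.card NH := hS7 ▸ card_dvd_of_le le_normalizer
  -- the only possibility is `63`
  have h63 : Nat.card NH = 63 := by
    have hle' := Nat.le_of_dvd (by norm_num) hnh
    obtain ⟨l, hl⟩ := h7NH
    rw [hl] at hnh hprod hle'
    have hl27 : l ∣ 27 := Nat.dvd_of_mul_dvd_mul_left (by norm_num : 0 < 7) hnh
    obtain ⟨e, he, rfl⟩ := (Nat.dvd_prime_pow Nat.prime_three).1 (show l ∣ 3 ^ 3 from hl27)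
    interval_cases e <;> omega
  -- so `|N|` is `126` or `378`, against Sylow in `G`
  have hNdvd : 126 ∣ Nat.card N := by
    have h1 := ((NH.map H.subtype).subgroupOf N2).card_mul_index
    rw [hidx, Nat.card_congr (subgroupOfEquivOfLe hle).toEquiv, card_subtype, h63] at h1
    exact (show 126 ∣ Nat.card N2 from ⟨1, by omega⟩).trans (card_dvd_of_le inf_le_left)
  obtain ⟨SG, hSG⟩ := (IsPGroup.of_card (p := 7) (n := 1) (G := K) (by
    rw [hK, Nat.card_zpowers, hd7, pow_one])).exists_le_sylow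
  have hSGK : (SG : Subgroup G) = K := by
    refine (Subgroup.eq_of_le_of_card_ge hSG ?_).symm
    obtain ⟨n, hn⟩ := IsPGroup.iff_card.1 SG.isPGroup'
    have hd' := card_subgroup_dvd_card (SG : Subgroup G)
    rw [hn, D.card_G] at hd'
    rw [hn, hK, Nat.card_zpowers, hd7]
    rcases Nat.lt_or_ge n 2 with hlt | hge
    · exact (Nat.pow_le_pow_right (by norm_num) (show n ≤ 1 by omega)).trans (by norm_num)
    · exact absurd ((Nat.pow_dvd_pow 7 hge).trans hd') (by norm_num)
  have hi : Nat.card (Sylow 7 G) = N.index := by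
    rw [SG.card_eq_index_normalizer, hN, ← hSGK]; rfl
  have hmodG := card_sylow_modEq_one 7 G
  rw [hi, Nat.ModEq] at hmodG
  have hp := N.card_mul_index
  rw [D.card_G] at hp
  obtain ⟨l, hl⟩ := hNdvd
  rw [hl] at hN378 hp
  have hl3 : l ∣ 3 := Nat.dvd_of_mul_dvd_mul_left (by norm_num : 0 < 126) hN378
  rcases (Nat.dvd_prime Nat.prime_three).1 hl3 with rfl | rfl <;> omega

theorem card_cent_k : Nat.card (centralizer ({T.k} : Set G)) = 1080 := T.seven_free

end Triple

end Data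

end Cfsg.Agent.JTwoType
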