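import Cfsg.Agent.S0948
import Cfsg.Agent.S0228
import Cfsg.Agent.Lib.Char.ClassMult
import Cfsg.Agent.Lib.Blocks.Induced
import Cfsg.Agent.Lib.CharApp.DegreeSets
import Cfsg.Agent.Lib.PSL2.Groups

/-!
# A self-centralizing four-group with one class of involutions

* `fpf_pair`: no non-trivial subgroup admits a four-group of fixed-point-free involutions
* `card_cases`: the group has order 12 with the four-group normal, or is alternating of degree five
-/

set_option autoImplicit false
set_option linter.style.haveILetI false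

namespace Cfsg.Agent.JTwoType

open Cfsg Subgroup
open scoped ComplexConjugate

theorem inverts {G : Type*} [Group G] [Finite G] {K : Subgroup G} {a : G} (ha : a * a = 1)
    (haK : ∀ k ∈ K, a * k * a⁻¹ ∈ K) (hfix : ∀ k ∈ K, a * k * a⁻¹ = k → k = 1) :
    ∀ k ∈ K, a * k * a⁻¹ = k⁻¹ := by
  let f : K → K := fun k => ⟨(k : G)⁻¹ * (a * k * a⁻¹), mul_mem (inv_mem k.2) (haK k k.2)⟩
  have hf : Function.Injective f := fun x y h => by
    have h' : (x : G)⁻¹ * (a * x * a⁻¹) = (y : G)⁻¹ * (a * y * a⁻¹) := congrArg Subtype.val h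
    have h2 : a * ((y : G) * (x : G)⁻¹) * a⁻¹ = (y : G) * (x : G)⁻¹ := by
      calc a * ((y : G) * (x : G)⁻¹) * a⁻¹ = (y : G) * ((y : G)⁻¹ * (a * y * a⁻¹)) * (a * x * a⁻¹)⁻¹ := by group
        _ = (y : G) * ((x : G)⁻¹ * (a * x * a⁻¹)) * (a * x * a⁻¹)⁻¹ := by rw [h']
        _ = _ := by group
    exact Subtype.ext (mul_inv_eq_one.1 (hfix _ (mul_mem y.2 (inv_mem x.2)) h2)).symm
  intro k hk
  obtain ⟨x, hx⟩ := (Finite.injective_iff_surjective.1 hf) ⟨k, hk⟩
  have hx' : (x : G)⁻¹ * (a * x * a⁻¹) = k := congrArg Subtype.val hx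
  rw [← hx']
  have hainv : a⁻¹ = a := inv_eq_of_mul_eq_one_right ha
  calc a * ((x : G)⁻¹ * (a * x * a⁻¹)) * a⁻¹ = a * (x : G)⁻¹ * a * x * (a⁻¹ * a⁻¹) := by group
    _ = a * (x : G)⁻¹ * a⁻¹ * x := by rw [hainv, ha, mul_one]
    _ = ((x : G)⁻¹ * (a * x * a⁻¹))⁻¹ := by group

theorem fpf_pair {G : Type*} [Group G] [Finite G] {K : Subgroup G} {a b : G} (ha : a * a = 1) (hb : b * b = 1)
    (haK : ∀ k ∈ K, a * k * a⁻¹ ∈ K) (hbK : ∀ k ∈ K, b * k * b⁻¹ ∈ K)
    (hfa : ∀ k ∈ K, a * k * a⁻¹ = k → k = 1) (hfb : ∀ k ∈ K, b * k * b⁻¹ = k → k = 1)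
    (hfab : ∀ k ∈ K, (a * b) * k * (a * b)⁻¹ = k → k = 1) : K = ⊥ := by
  rw [eq_bot_iff_forall]
  intro k hk
  refine hfab k hk ?_
  rw [show a * b * k * (a * b)⁻¹ = a * (b * k * b⁻¹) * a⁻¹ by group, inverts hb hbK hfb k hk,
    inverts ha haK hfa _ (inv_mem hk), inv_inv]

variable {G : Type*} [Group G] [Finite G]

set_option maxHeartbeats 1000000 in
theorem card_cases (W : Subgroup G) (hW : Nat.card W = 4) (hsq : ∀ w ∈ W, w * w = 1)
    (hcen : ∀ w ∈ W, w ≠ 1 → ∀ g, g * w = w * g → g ∈ W)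
    (hconj : ∀ x y : G, orderOf x = 2 → orderOf y = 2 → IsConj x y) :
    (Nat.card G = 12 ∧ W.Normal) ∨ (Nat.card G = 60 ∧ Nonempty (G ≃* alternatingGroup (Fin 5))) := by
  classical
  haveI : Fact (Nat.Prime 2) := ⟨Nat.prime_two⟩
  haveI := Fintype.ofFinite (IrrCharacter G)
  have hWp : IsPGroup 2 W := IsPGroup.of_card (n := 2) (by rw [hW]; rfl)
  obtain ⟨T, hT⟩ := hWp.exists_le_sylow
  obtain ⟨z, hzW, hz1⟩ : ∃ z ∈ W, z ≠ 1 := by
    by_contra h
    push Not at h
    have : W = ⊥ := (eq_bot_iff_forall _).2 h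
    rw [this, card_bot] at hW
    omega
  have hTW : (T : Subgroup G) = W := by
    refine le_antisymm ?_ hT
    haveI : Nontrivial (T : Subgroup G) := ⟨⟨⟨z, hT hzW⟩, 1, fun h => hz1 (congrArg Subtype.val h)⟩⟩
    haveI := T.isPGroup'.center_nontrivial
    obtain ⟨⟨c, hc⟩, hc1⟩ := exists_ne (1 : center (T : Subgroup G))
    have hcW : (c : G) ∈ W := hcen z hzW hz1 _ (congrArg Subtype.val (mem_center_iff.1 hc ⟨z, hT hzW⟩)).symm
    intro x hx
    exact hcen c hcW (fun h => hc1 (Subtype.ext (Subtype.ext h))) x (congrArg Subtype.val (mem_center_iff.1 hc ⟨x, hx⟩))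
  have hzo : ∀ w ∈ W, w ≠ 1 → orderOf w = 2 := fun w hw h => orderOf_eq_prime (by rw [sq]; exact hsq w hw) h
  have hz := hzo z hzW hz1
  have hCz : Nat.card (centralizer ({z} : Set G)) = 4 := by
    rw [show centralizer ({z} : Set G) = W from le_antisymm
      (fun g hg => hcen z hzW hz1 g (mem_centralizer_singleton_iff.1 hg))
      (fun w hw => mem_centralizer_singleton_iff.2 ?_), hW]
    have h := hsq _ (mul_mem hw hzW)
    have := inv_eq_of_mul_eq_one_right h
    rw [mul_inv_rev, inv_eq_of_mul_eq_one_right (hsq w hw), inv_eq_of_mul_eq_one_right (hsq z hzW)] at this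
    exact this.symm
  have hK : IsKleinFour (T : Subgroup G) := by
    rw [hTW]
    haveI : Nontrivial W := ⟨⟨⟨z, hzW⟩, 1, fun h => hz1 (congrArg Subtype.val h)⟩⟩
    refine ⟨hW, (Monoid.exponent_eq_prime_iff Nat.prime_two).2 ?_⟩
    rintro ⟨w, hw⟩ hw1
    rw [Subgroup.orderOf_mk]
    exact hzo w hw fun h => hw1 (Subtype.ext h)
  obtain ⟨M, hM⟩ := Blocks.exists_isPModular Nat.prime_two
  obtain ⟨χ2, χ3, χ4, ε, hε, h21, h31, h23, h24, h34, -, hval, hd2, hd3, hd4, hrel⟩ :=
    S0948.result M hM T hK hconj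
  obtain ⟨hv2, hv3, hv4⟩ := hval z hz
  let one : IrrCharacter G := ⟨fun _ => 1, Char.isIrrCharacter_one⟩
  have h2o : χ2 ≠ one := fun h => h21 (congrArg Subtype.val h)
  have h3o : χ3 ≠ one := fun h => h31 (congrArg Subtype.val h)
  have h4o : χ4 ≠ one := fun h => by
    rw [h] at hv4
    norm_num [one] at hv4
  have hε2 : (ε : ℂ) * conj (ε : ℂ) = 1 := by rcases hε with rfl | rfl <;> simp
  set S : Finset (IrrCharacter G) := {one, χ2, χ3, χ4} with hS
  have sumS : ∀ F : IrrCharacter G → ℂ, ∑ χ ∈ S, F χ = F one + F χ2 + F χ3 + F χ4 := by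
    intro F
    rw [hS, Finset.sum_insert (by simp [Ne.symm h2o, Ne.symm h3o, Ne.symm h4o]),
      Finset.sum_insert (by simp [h23, h24]), Finset.sum_insert (by simp [h34]), Finset.sum_singleton]
    ring
  have hvan : ∀ χ : IrrCharacter G, χ ∉ S → (χ : G → ℂ) z = 0 := by
    have hsum := Char.column_orth z z
    rw [if_pos (IsConj.refl z), hCz, ← Finset.sum_add_sum_compl S, sumS] at hsum
    have h0 : ∑ χ ∈ Sᶜ, (χ : G → ℂ) z * conj ((χ : G → ℂ) z) = 0 := by
      rw [hv2, hv3, hv4, hε2] at hsum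
      simp only [one, map_one, map_neg] at hsum
      push_cast at hsum
      linear_combination hsum
    intro χ hχ
    have h0' : ∑ χ ∈ Sᶜ, Complex.normSq ((χ : G → ℂ) z) = 0 := by
      exact_mod_cast (by push_cast [Complex.normSq_eq_conj_mul_self]; simpa [mul_comm] using h0 :
        ((∑ χ ∈ Sᶜ, Complex.normSq ((χ : G → ℂ) z) : ℝ) : ℂ) = 0)
    exact Complex.normSq_eq_zero.1 ((Finset.sum_eq_zero_iff_of_nonneg fun _ _ => Complex.normSq_nonneg _).1 h0' χ
      (Finset.mem_compl.2 hχ))
  -- the degrees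
  obtain ⟨a, ha⟩ : ∃ a : ℕ, charDegree (χ2 : G → ℂ) = a := ⟨_, rfl⟩
  obtain ⟨b, hb⟩ : ∃ b : ℕ, charDegree (χ3 : G → ℂ) = b := ⟨_, rfl⟩
  obtain ⟨c, hc⟩ : ∃ c : ℕ, charDegree (χ4 : G → ℂ) = c := ⟨_, rfl⟩
  rw [ha] at hd2; rw [hb] at hd3; rw [hc] at hd4
  have ea : (χ2 : G → ℂ) 1 = (a : ℂ) := by rw [← ha]; exact CharApp.DegreeSets.apply_one χ2.2
  have eb : (χ3 : G → ℂ) 1 = (b : ℂ) := by rw [← hb]; exact CharApp.DegreeSets.apply_one χ3.2
  have ec : (χ4 : G → ℂ) 1 = (c : ℂ) := by rw [← hc]; exact CharApp.DegreeSets.apply_one χ4.2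
  have hone : (one : G → ℂ) 1 = 1 := rfl
  have ha0 : (a : ℂ) ≠ 0 := ea ▸ Char.IsIrrCharacter.apply_one_ne_zero χ2.2
  have hb0 : (b : ℂ) ≠ 0 := eb ▸ Char.IsIrrCharacter.apply_one_ne_zero χ3.2
  have hc0 : (c : ℂ) ≠ 0 := ec ▸ Char.IsIrrCharacter.apply_one_ne_zero χ4.2
  have hr : (1 : ℤ) + a + ε * b - c = 0 := by
    have h := hrel 1 (by rw [orderOf_one]; exact odd_one)
    rw [ea, eb, ec] at h
    exact_mod_cast h
  -- the class multiplication
  set n := Nat.card G with hn
  have hcls : (Nat.card {x : G // IsConj z x} : ℂ) = (n : ℂ) / 4 := by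
    have h := Char.card_conjugates_mul_card_centralizer z
    rw [hCz] at h
    rw [eq_div_iff (by norm_num : (4 : ℂ) ≠ 0)]
    exact_mod_cast h
  have hpairs : Nat.card {p : G × G // IsConj z p.1 ∧ IsConj z p.2 ∧ p.1 * p.2 = z} = 2 := by
    have hWset : ((W : Set G) \ {1, z}).ncard = 2 := by
      rw [Set.ncard_sdiff (by rintro x (rfl | rfl) <;> [exact one_mem W; exact hzW]),
        ← Nat.card_coe_set_eq, SetLike.coe_sort_coe, hW, Set.ncard_pair (Ne.symm hz1)]
    rw [← hWset, ← Nat.card_coe_set_eq]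
    have hconjW : ∀ w ∈ W, w ≠ 1 → IsConj z w := fun w hw h => hconj z w hz (hzo w hw h)
    have hzinv : z⁻¹ = z := inv_eq_of_mul_eq_one_right (hsq z hzW)
    refine Nat.card_congr
      { toFun := fun p => ⟨p.1.1, ?_, ?_⟩
        invFun := fun x => ⟨(x.1, x.1⁻¹ * z), ?_, ?_, by group⟩
        left_inv := fun p => Subtype.ext (Prod.ext rfl (eq_inv_mul_of_mul_eq p.2.2.2).symm)
        right_inv := fun x => rfl }
    · obtain ⟨⟨x, y⟩, hx, hy, hxy⟩ := p
      have hx2 : x * x = 1 := by
        obtain ⟨g, rfl⟩ := isConj_iff.1 hx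
        rw [conj_mul, hsq z hzW]; group
      have hy2 : y * y = 1 := by
        obtain ⟨g, rfl⟩ := isConj_iff.1 hy
        rw [conj_mul, hsq z hzW]; group
      simp only at hxy
      refine hcen z hzW hz1 x ?_
      have : y * x = z := by
        rw [← hzinv, ← hxy, mul_inv_rev, inv_eq_of_mul_eq_one_right hx2, inv_eq_of_mul_eq_one_right hy2]
      calc x * z = x * (x * y) := by rw [hxy]
        _ = (y * x) * x := by rw [← mul_assoc, hx2, one_mul, mul_assoc, hx2, mul_one]
        _ = z * x := by rw [this]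
    · obtain ⟨⟨x, y⟩, hx, hy, hxy⟩ := p
      simp only at hxy ⊢
      rintro (rfl | h)
      · exact hz1 (isConj_one_left.1 hx)
      · rw [Set.mem_singleton_iff.1 h, mul_eq_left] at hxy
        rw [hxy] at hy
        exact hz1 (isConj_one_left.1 hy)
    · exact hconjW _ x.2.1 fun h => x.2.2 (Or.inl h)
    · refine hconjW _ (mul_mem (inv_mem x.2.1) hzW) fun h => x.2.2 (Or.inr ?_)
      exact (inv_mul_eq_one.1 h)
  have hmain : (2 : ℂ) = (n : ℂ) / 16 * (1 + 1 / a + ε / b - 1 / c) := by
    have h := Char.class_mult_formula z z z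
    rw [hpairs, hcls, ← hn, ← Finset.sum_add_sum_compl S, sumS,
      Finset.sum_eq_zero (fun χ hχ => by rw [hvan χ (Finset.mem_compl.1 hχ)]; simp), add_zero,
      hv2, hv3, hv4, ea, eb, ec, hone] at h
    simp only [one, map_one, map_neg, Complex.conj_natCast, map_intCast] at h
    have hn0 : (n : ℂ) ≠ 0 := Nat.cast_ne_zero.2 Nat.card_pos.ne'
    rw [show (n : ℂ) / 4 * ((n : ℂ) / 4) / n = (n : ℂ) / 16 by field_simp; ring] at h
    rcases hε with rfl | rfl <;> push_cast at h ⊢ <;> linear_combination h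
  have heq : (32 : ℤ) * a * b * c = n * (a * b * c + b * c + ε * a * c - a * b) := by
    have h : ((32 : ℂ)) * a * b * c = n * (a * b * c + b * c + ε * a * c - a * b) := by
      field_simp at hmain
      linear_combination hmain
    exact_mod_cast h
  have hsum : 1 + a ^ 2 + b ^ 2 + c ^ 2 ≤ n := by
    have h := Char.sum_sq_degrees (G := G)
    have hd : ∀ χ : IrrCharacter G, (χ : G → ℂ) 1 ^ 2 = ((charDegree (χ : G → ℂ) ^ 2 : ℕ) : ℂ) := fun χ => by
      rw [CharApp.DegreeSets.apply_one χ.2]; push_cast; rfl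
    rw [Finset.sum_congr rfl fun χ _ => hd χ, ← Nat.cast_sum, Nat.cast_inj] at h
    rw [← hn] at h
    have h4 : ∑ χ ∈ S, charDegree (χ : G → ℂ) ^ 2 ≤ n := h ▸ Finset.sum_le_univ_sum_of_nonneg fun _ => Nat.zero_le _
    rw [hS, Finset.sum_insert (by simp [Ne.symm h2o, Ne.symm h3o, Ne.symm h4o]),
      Finset.sum_insert (by simp [h23, h24]), Finset.sum_insert (by simp [h34]), Finset.sum_singleton, ha, hb, hc] at h4
    have : charDegree (one : G → ℂ) = 1 := by simp [charDegree, one]
    rw [this] at h4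
    omega
  have h4n : 4 ∣ n := hW ▸ card_subgroup_dvd_card W
  have ha1 : 1 ≤ a := Nat.one_le_iff_ne_zero.2 fun h => ha0 (by simp [h])
  have hb1 : 1 ≤ b := Nat.one_le_iff_ne_zero.2 fun h => hb0 (by simp [h])
  have hc3 : 3 ≤ c := by omega
  have habc : (0 : ℤ) < a * b * c := by
    have : 0 < c := by omega
    positivity
  have hn' : n = 12 ∨ n = 60 := by
    rcases hε with rfl | rfl
    · -- c = a + b + 1
      have hce : c = a + b + 1 := by omega
      have hbound : n ≤ 32 := by
        have h1 : (b : ℤ) * c + a * c - a * b ≥ 0 := by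
          have hcb : (b : ℤ) ≤ c := by omega
          have := mul_le_mul_of_nonneg_left hcb (Int.natCast_nonneg a)
          have := mul_nonneg (Int.natCast_nonneg b) (Int.natCast_nonneg c)
          linarith
        have h2 : (n : ℤ) * (a * b * c) ≤ 32 * (a * b * c) := by
          have := mul_nonneg (Int.natCast_nonneg n) h1
          linarith
        have := le_of_mul_le_mul_right h2 habc
        omega
      have hc5 : c ≤ 5 := by nlinarith
      obtain rfl : c = 3 := by omega
      obtain rfl : a = 1 := by omega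
      obtain rfl : b = 1 := by omega
      left; push_cast at heq; omega
    · have hce : c + b = a + 1 := by omega
      have hb3 : 3 ≤ b := by omega
      have hbound : n ≤ 96 := by
        have h1 : 3 * ((a : ℤ) * b * c + b * c - a * c - a * b) ≥ a * b * c := by
          have e1 := mul_le_mul_of_nonneg_left (show (3 : ℤ) ≤ b by omega) (show (0 : ℤ) ≤ a * c by positivity)
          have e2 := mul_le_mul_of_nonneg_left (show (3 : ℤ) ≤ c by omega) (show (0 : ℤ) ≤ a * b by positivity)
          have e3 : (0 : ℤ) ≤ b * c := by positivity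
          linarith
        have h2 : (n : ℤ) * (a * b * c) ≤ 96 * (a * b * c) := by
          have := mul_le_mul_of_nonneg_left h1 (Int.natCast_nonneg n)
          linarith
        have := le_of_mul_le_mul_right h2 habc
        omega
      have : b ≤ 9 := by nlinarith
      have : c ≤ 9 := by nlinarith
      have hb' : b = 3 ∨ b = 7 := by omega
      have hc' : c = 3 ∨ c = 7 := by omega
      rcases hb' with rfl | rfl <;> rcases hc' with rfl | rfl
      · obtain rfl : a = 5 := by omega
        right; push_cast at heq; omega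
      · obtain rfl : a = 9 := by omega
        omega
      · obtain rfl : a = 9 := by omega
        omega
      · obtain rfl : a = 13 := by omega
        omega
  have hfix : ∀ (K : Subgroup G) (w : G), w ∈ W → w ≠ 1 → K ⊓ W = ⊥ → ∀ k ∈ K, w * k * w⁻¹ = k → k = 1 :=
    fun K w hw hw1 hd k hk h => mem_bot.1 (hd ▸ mem_inf.2 ⟨hk, hcen w hw hw1 k (mul_inv_eq_iff_eq_mul.1 h).symm⟩)
  obtain ⟨w, hwW, hw⟩ : ∃ w ∈ (W : Set G), w ∉ ({1, z} : Set G) := by
    refine Set.exists_mem_notMem_of_ncard_lt_ncard ?_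
    rw [← Nat.card_coe_set_eq (W : Set G), SetLike.coe_sort_coe, hW, Set.ncard_pair (Ne.symm hz1)]
    norm_num
  simp only [Set.mem_insert_iff, Set.mem_singleton_iff, not_or] at hw
  have hzw1 : z * w ≠ 1 := fun h => hw.2 ((eq_inv_of_mul_eq_one_right h).trans
    (inv_eq_of_mul_eq_one_right (hsq z hzW)))
  have nonormal : ∀ K : Subgroup G, K.Normal → (Nat.card K).Coprime 4 → K = ⊥ := by
    intro K hKn hKc
    have hd : K ⊓ W = ⊥ := Subgroup.inf_eq_bot_of_coprime (hW ▸ hKc)
    exact fpf_pair (hsq z hzW) (hsq w hwW) (fun k hk => hKn.conj_mem k hk z) (fun k hk => hKn.conj_mem k hk w)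
      (hfix K z hzW hz1 hd) (hfix K w hwW hw.1 hd) (hfix K (z * w) (mul_mem hzW hwW) hzw1 hd)
  rcases hn' with h12 | h60
  · left
    refine ⟨h12, ?_⟩
    obtain ⟨e⟩ := S0228.result (by rw [← hn]; exact h12) (fun x hx hxc => by
      have := (hconj z x hz hx)
      obtain ⟨g, hg⟩ := isConj_iff.1 this
      have hzc : z ∈ center G := by
        have : z = g⁻¹ * x * g := by rw [← hg]; group
        rw [this, show g⁻¹ * x * g = g⁻¹ * (x * g) by group, ← Subgroup.mem_center_iff.1 hxc g]
        simpa using hxc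
      have htop : centralizer ({z} : Set G) = ⊤ := eq_top_iff.2 fun y _ =>
        mem_centralizer_singleton_iff.2 (Subgroup.mem_center_iff.1 hzc y)
      rw [htop, card_top, ← hn, h12] at hCz
      omega)
    have hA : ∀ x : alternatingGroup (Fin 4), ∀ y, x * x = 1 → (y * x * y⁻¹) * (y * x * y⁻¹) = 1 := by
      intro x y h; rw [conj_mul, h, mul_one, mul_inv_cancel]
    have key : ∀ x y : alternatingGroup (Fin 4), x * x = 1 → y * y = 1 → x * y = y * x := by decide +kernel
    refine ⟨fun x hx g => ?_⟩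
    have hxs : e x * e x = 1 := by rw [← map_mul, hsq x hx, map_one]
    have hzs : e z * e z = 1 := by rw [← map_mul, hsq z hzW, map_one]
    refine hcen z hzW hz1 _ (e.injective ?_)
    have hk := key (e (g * x * g⁻¹)) (e z) (by
      rw [map_mul, map_mul, map_inv]; exact hA _ _ hxs) hzs
    rw [← map_mul, ← map_mul] at hk
    exact hk
  · right
    refine ⟨h60, PSL2.mulEquiv_alternatingFive (by rw [← hn]; exact h60) ?_ ?_⟩
    · intro g
      haveI : Fact (Nat.Prime 5) := ⟨by norm_num⟩
      have hdvd : orderOf g ∣ 60 := h60 ▸ hn ▸ orderOf_dvd_natCard g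
      by_cases he : Even (orderOf g)
      · obtain ⟨k, hk⟩ := even_iff_two_dvd.1 he
        have hi : orderOf (g ^ k) = 2 := by
          rw [orderOf_pow' g (by intro h; rw [h, mul_zero] at hk; exact (orderOf_pos g).ne' hk), hk,
            Nat.gcd_mul_left_left, Nat.mul_div_cancel _ (Nat.pos_of_ne_zero (by
              intro h; rw [h, mul_zero] at hk; exact (orderOf_pos g).ne' hk))]
        obtain ⟨y, hy⟩ := isConj_iff.1 (hconj (g ^ k) z hi hz)
        have : y * g * y⁻¹ ∈ W := by
          refine hcen z hzW hz1 _ ?_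
          rw [← hy, conj_mul, conj_mul, (Commute.self_pow g k).eq]
        have h2 := hsq _ this
        rw [conj_mul, conj_eq_one_iff] at h2
        have h2' := orderOf_dvd_of_pow_eq_one (show g ^ 2 = 1 by rw [sq]; exact h2)
        rcases (Nat.dvd_prime Nat.prime_two).1 h2' with h | h <;> simp [h]
      · have h15 : orderOf g ∣ 15 :=
          (Nat.Coprime.pow_right 2 (Nat.not_even_iff_odd.1 he).coprime_two_right).dvd_of_dvd_mul_left
            (show orderOf g ∣ 2 ^ 2 * 15 from hdvd)
        have hd15 : orderOf g = 1 ∨ orderOf g = 3 ∨ orderOf g = 5 ∨ orderOf g = 15 := by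
          have h15' := Nat.le_of_dvd (by norm_num) h15
          have h0 := orderOf_pos g
          interval_cases h : orderOf g <;> first | omega | exact absurd h15 (by norm_num)
        rcases hd15 with h | h | h | h
        · simp [h]
        · simp [h]
        · simp [h]
        exfalso
        have h5 : orderOf (g ^ 3) = 5 := by rw [orderOf_pow' g (by norm_num), h]; rfl
        obtain ⟨P, hP⟩ := (IsPGroup.of_card (p := 5) (n := 1) (G := zpowers (g ^ 3)) (by
          rw [Nat.card_zpowers, h5, pow_one])).exists_le_sylow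
        have hP5 : Nat.card (P : Subgroup G) = 5 ^ 1 :=
          SmallOrders.card_sylow_subgroup (show Nat.card G = 5 ^ 1 * 12 by rw [← hn, h60]; rfl) (by norm_num) P
        have hPeq : zpowers (g ^ 3) = (P : Subgroup G) :=
          Subgroup.eq_of_le_of_card_ge hP (by rw [hP5, Nat.card_zpowers, h5, pow_one])
        have hgN : g ∈ normalizer ((P : Subgroup G) : Set G) := by
          rw [← hPeq]
          refine centralizer_le_normalizer _ (mem_centralizer_iff.2 fun y hy => ?_)
          obtain ⟨i, rfl⟩ := mem_zpowers_iff.1 hy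
          exact (((Commute.refl g).pow_left 3).zpow_left i).eq
        have h15N : 15 ∣ Nat.card (normalizer ((P : Subgroup G) : Set G)) := h ▸ orderOf_dvd_natCard (normalizer ((P : Subgroup G) : Set G)) hgN
        have hidx := (normalizer ((P : Subgroup G) : Set G)).card_mul_index
        rw [show (normalizer ((P : Subgroup G) : Set G)).index = Nat.card (Sylow 5 G) from
          P.card_eq_index_normalizer.symm, ← hn, h60] at hidx
        have hmod := card_sylow_modEq_one 5 G
        rcases Nat.eq_zero_or_pos (Nat.card (Sylow 5 G)) with h0 | h0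
        · rw [h0] at hidx; omega
        by_cases h1 : Nat.card (Sylow 5 G) = 1
        · haveI : Subsingleton (Sylow 5 G) := (Nat.card_eq_one_iff_unique.1 h1).1
          have := nonormal P (Sylow.normal_of_subsingleton P) (by rw [hP5]; norm_num)
          rw [this, card_bot] at hP5
          norm_num at hP5
        obtain ⟨q, hq⟩ := h15N
        rw [hq] at hidx
        have hle : Nat.card (Sylow 5 G) ≤ 4 := by
          rcases Nat.eq_zero_or_pos q with hq0 | hq0
          · rw [hq0] at hidx; omega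
          · nlinarith
        unfold Nat.ModEq at hmod
        omega
    · intro h1
      haveI : Fact (Nat.Prime 5) := ⟨by norm_num⟩
      obtain ⟨P⟩ : Nonempty (Sylow 5 G) := inferInstance
      have hP5 : Nat.card (P : Subgroup G) = 5 ^ 1 :=
        SmallOrders.card_sylow_subgroup (show Nat.card G = 5 ^ 1 * 12 by rw [← hn, h60]; rfl) (by norm_num) P
      haveI : Subsingleton (Sylow 5 G) := (Nat.card_eq_one_iff_unique.1 h1).1
      have := nonormal P (Sylow.normal_of_subsingleton P) (by rw [hP5]; norm_num)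
      rw [this, card_bot] at hP5
      norm_num at hP5

end Cfsg.Agent.JTwoType
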