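import Cfsg.Agent.Lib.JTwoType.Outer
import Cfsg.Agent.Lib.JTwoType.Rigid
import Cfsg.Agent.Lib.JTwoType.Four

/-!
# Groups of Hall-Janko type: the centraliser of a non-central involution

* `Data.E`: `C(z) ⊓ C(t)`, an abelian Sylow 2-subgroup of `C(t)` of order 16
* `Data.centT_cases`: either it is normal in `C(t)`, or `C(t)` is a four-group times an alternating
  group of degree five (`Data.Prod`)
-/

set_option autoImplicit false
set_option linter.unusedSectionVars false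
set_option linter.style.haveILetI false

namespace Cfsg.Agent.JTwoType

open Cfsg Subgroup OrderJTwo
open scoped commutatorElement Pointwise

variable {G : Type*} [Group G] [Finite G]

namespace Data

variable {D : Data G}

/-- `C(z) ⊓ C(t)`. -/
def E (D : Data G) (t : G) : Subgroup G := centralizer ({D.z} : Set G) ⊓ centralizer ({t} : Set G)

theorem mem_E {t x : G} : x ∈ D.E t ↔ x * D.z = D.z * x ∧ x * t = t * x :=
  and_congr mem_centralizer_singleton_iff mem_centralizer_singleton_iff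

theorem Outer.t_mem_E {t : G} (ht : D.Outer t) : t ∈ D.E t := mem_E.2 ⟨ht.comm, rfl⟩

theorem z_mem_E {t : G} (ht : D.Outer t) : D.z ∈ D.E t := mem_E.2 ⟨rfl, ht.comm.symm⟩

theorem Outer.exists_u {t : G} (ht : D.Outer t) : ∃ i : Fin 5,
    (D.psi ⟨t, D.mem_C.2 ht.comm⟩).1 i = i ∧ D.u i ∈ D.E t ∧
    ∀ q ∈ D.E t, q ∈ D.Q → q ∈ four D.hQ (D.u_mem i) := by
  obtain ⟨i, hi, hti, hC, -⟩ := ht.spec
  exact ⟨i, hi, mem_E.2 ⟨D.u_comm, hti.symm⟩, fun q hq hqQ =>
    hC q hqQ (mul_inv_eq_iff_eq_mul.2 (mem_E.1 hq).2.symm)⟩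

theorem four_le_E {t : G} (ht : D.Outer t) {i : Fin 5} (hu : D.u i ∈ D.E t) : four D.hQ (D.u_mem i) ≤ D.E t := by
  intro x hx
  rcases hx with rfl | rfl | rfl | rfl
  · exact one_mem _
  · exact z_mem_E ht
  · exact hu
  · exact mul_mem hu (z_mem_E ht)

theorem four_le_Q (i : Fin 5) : four D.hQ (D.u_mem i) ≤ D.Q := by
  intro x hx
  rcases hx with rfl | rfl | rfl | rfl
  · exact one_mem _
  · exact D.hQ.zmem
  · exact (D.u_mem i).1
  · exact mul_mem (D.u_mem i).1 D.hQ.zmem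

theorem Outer.card_E {t : G} (ht : D.Outer t) : Nat.card (D.E t) = 16 := by
  obtain ⟨i, -, hu, hq⟩ := ht.exists_u
  let χ : D.E t →* Alt5.A5 := D.psi.comp (Subgroup.inclusion inf_le_left)
  have hker : χ.ker = (four D.hQ (D.u_mem i)).subgroupOf (D.E t) := by
    ext x
    rw [MonoidHom.mem_ker, mem_subgroupOf]
    exact ⟨fun h => hq _ x.2 ((D.psi_ker _).1 h), fun h => (D.psi_ker _).2 (four_le_Q i h)⟩
  set σ := D.psi ⟨t, D.mem_C.2 ht.comm⟩
  have hrange : (χ.range : Set Alt5.A5) = {τ | τ * σ = σ * τ} := by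
    ext τ
    constructor
    · rintro ⟨x, rfl⟩
      show D.psi _ * σ = σ * D.psi _
      rw [← map_mul, ← map_mul]
      exact congrArg D.psi (Subtype.ext (mem_E.1 x.2).2)
    · intro hτ
      obtain ⟨c, rfl⟩ := D.psi_surj τ
      have hc := D.mem_C.1 c.2
      obtain ⟨q, hqQ, hq'⟩ := (ht.conj hc).coset_conj ht (by
        have : (⟨(c : G) * t * (c : G)⁻¹, D.mem_C.2 (ht.conj hc).comm⟩ : centralizer ({D.z} : Set G)) =
          c * ⟨t, D.mem_C.2 ht.comm⟩ * c⁻¹ := rfl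
        rw [this, map_mul, map_mul, map_inv, hτ, mul_inv_cancel_right])
      have hmem : q * (c : G) ∈ D.E t := mem_E.2 ⟨D.mem_C.1 (mul_mem (D.le hqQ) c.2), by
        calc q * (c : G) * t = q * ((c : G) * t * (c : G)⁻¹) * q⁻¹ * (q * c) := by group
          _ = t * (q * c) := by rw [hq']⟩
      refine ⟨⟨q * c, hmem⟩, ?_⟩
      show D.psi (⟨q, D.le hqQ⟩ * c) = D.psi c
      rw [map_mul, (D.psi_ker _).2 hqQ, one_mul]
  have h := χ.ker.card_mul_index
  rw [index_ker, hker, Nat.card_congr (subgroupOfEquivOfLe (four_le_E ht hu)).toEquiv,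
    card_four, ← SetLike.coe_sort_coe, hrange, Nat.card_eq_fintype_card] at h
  rw [← h]
  simp only [Set.coe_setOf]
  rw [Alt5.card_commuting σ ht.psi_sq.1 ht.psi_sq.2]

theorem Outer.fix_comm {v : G} (hv : D.Outer v) {i : Fin 5}
    (hi : D.φ ⟨v, D.mem_C.2 hv.comm⟩ i = i) : v * D.u i = D.u i * v := by
  obtain ⟨j, hj, hvj, -, -⟩ := hv.spec
  obtain ⟨k, -, huniq⟩ := Alt5.one_fixed _ hv.psi_sq.1 hv.psi_sq.2
  obtain rfl : j = i := (huniq j hj).trans (huniq i hi).symm
  exact hvj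

theorem Outer.comm_u {t : G} (ht : D.Outer t) {i : Fin 5} (hi : (D.psi ⟨t, D.mem_C.2 ht.comm⟩).1 i = i)
    {r : G} (hr : r ∈ D.E t) : r * D.u i = D.u i * r := by
  obtain ⟨j, hj, hu, hq⟩ := ht.exists_u
  obtain ⟨k, -, huniq⟩ := Alt5.one_fixed _ ht.psi_sq.1 ht.psi_sq.2
  obtain rfl : j = i := (huniq j hj).trans (huniq i hi).symm
  obtain ⟨hrz, hrt⟩ := mem_E.1 hr
  have hfour : ∀ x ∈ four D.hQ (D.u_mem j), x * D.u j = D.u j * x := by
    rintro x (rfl | rfl | rfl | rfl)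
    · simp
    · exact D.u_comm.symm
    · rfl
    · rw [mul_assoc, ← D.u_comm, ← mul_assoc]
  by_cases hrQ : r ∈ D.Q
  · exact hfour r (hq r hr hrQ)
  set g : centralizer ({D.z} : Set G) := ⟨r, D.mem_C.2 hrz⟩
  obtain ⟨hr2, hrfix⟩ := Alt5.commuting _ (D.psi g) ht.psi_sq.1 ht.psi_sq.2 (by
    rw [← map_mul, ← map_mul]; exact congrArg D.psi (Subtype.ext hrt))
  have hgi : D.φ g j = j := hrfix j hi
  have hact := D.act g j
  rw [hgi] at hact
  rcases hact with h | h
  · exact mul_inv_eq_iff_eq_mul.1 h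
  exfalso
  have h' : r * D.u j * r⁻¹ = D.u j * D.z := h
  have hrr : r * r ∈ D.Q := (D.psi_ker (g * g)).1 (by rw [map_mul, hr2])
  have hne : r * D.u j * r⁻¹ ≠ D.u j := fun e => D.hQ.zne (mul_left_cancel ((h'.symm.trans e).trans (mul_one _).symm))
  have hz' : r * D.z * r⁻¹ = D.z := by rw [hrz, mul_inv_cancel_right]
  have hself : r * (r * r) * r⁻¹ = r * r := by group
  have hcase : r * r = 1 ∨ r * r = D.z := by
    rcases hq _ (mul_mem hr hr) hrr with e | e | e | e
    · exact Or.inl e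
    · exact Or.inr e
    · exact absurd (e ▸ hself) hne
    · exfalso
      rw [e, D.conj_mul_z hrz] at hself
      exact hne (mul_right_cancel hself)
  rcases hcase with e | e
  · have hv : D.Outer r := ⟨hrz, e, hrQ⟩
    exact hne (mul_inv_eq_iff_eq_mul.2 (hv.fix_comm hgi))
  · have hv : D.Outer (r * D.u j) := ⟨D.mem_C.1 (mul_mem g.2 (D.le (D.u_mem j).1)), by
      calc r * D.u j * (r * D.u j) = (r * D.u j * r⁻¹) * (r * r) * D.u j := by group
        _ = D.u j * (D.z * D.z) * D.u j := by rw [h', e]; group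
        _ = 1 := by rw [D.z2, mul_one, D.u_sq],
      fun hh => hrQ (by simpa using mul_mem hh (inv_mem (D.u_mem j).1))⟩
    have hfix := hv.fix_comm (i := j) (by
      show D.φ (g * ⟨D.u j, D.le (D.u_mem j).1⟩) j = j
      rw [map_mul, (D.ker ⟨D.u j, _⟩).2 (D.u_mem j).1, mul_one, hgi])
    refine hne (mul_inv_eq_iff_eq_mul.2 ?_)
    have e1 : r = D.u j * r * D.u j := by
      rw [mul_assoc r, D.u_sq, mul_one, ← mul_assoc] at hfix
      exact hfix
    calc r * D.u j = D.u j * r * D.u j * D.u j := by rw [← e1]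
      _ = D.u j * r := by rw [mul_assoc (D.u j * r), D.u_sq, mul_one]

theorem Outer.E_comm {t : G} (ht : D.Outer t) : ∀ x ∈ D.E t, ∀ y ∈ D.E t, x * y = y * x := by
  classical
  haveI : Fact (Nat.Prime 2) := ⟨Nat.prime_two⟩
  obtain ⟨i, hi, hu, hq⟩ := ht.exists_u
  haveI := Fintype.ofFinite G
  set Z := center (D.E t)
  have hsub : ({1, D.z, D.u i, D.u i * D.z, t} : Set G) ⊆ Subtype.val '' (Z : Set (D.E t)) := by
    have hmem : ∀ x (hx : x ∈ D.E t), (∀ r ∈ D.E t, r * x = x * r) → x ∈ Subtype.val '' (Z : Set (D.E t)) :=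
      fun x hx h => ⟨⟨x, hx⟩, mem_center_iff.2 fun r => Subtype.ext (h r r.2), rfl⟩
    rintro x (rfl | rfl | rfl | rfl | rfl)
    · exact hmem _ (one_mem _) fun r _ => by simp
    · exact hmem _ (z_mem_E ht) fun r hr => (mem_E.1 hr).1
    · exact hmem _ hu fun r hr => ht.comm_u hi hr
    · refine hmem _ (mul_mem hu (z_mem_E ht)) fun r hr => ?_
      rw [← mul_assoc, ht.comm_u hi hr, mul_assoc, (mem_E.1 hr).1, ← mul_assoc]
    · exact hmem _ ht.t_mem_E fun r hr => (mem_E.1 hr).2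
  have h5 : 5 ≤ Nat.card Z := by
    have h := Set.ncard_le_ncard hsub (Set.toFinite _)
    rw [Set.ncard_image_of_injective _ Subtype.val_injective, show (Z : Set (D.E t)).ncard = Nat.card Z from
      (Nat.card_coe_set_eq _).symm] at h
    obtain ⟨hu1, huQ⟩ : D.u i ≠ 1 ∧ D.u i ∈ D.Q := ⟨(D.u_mem i).2.2.1, (D.u_mem i).1⟩
    obtain ⟨hw1, hwz⟩ := (mul_mem_invSet D.hQ (D.u_mem i)).2.2
    have huw : D.u i ≠ D.u i * D.z := fun e => D.hQ.zne (mul_left_cancel ((mul_one _).trans e)).symm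
    have hout : ∀ x ∈ D.Q, x ≠ t := fun x hx e => ht.out (e ▸ hx)
    rw [Set.ncard_insert_of_notMem (by
        simp only [Set.mem_insert_iff, Set.mem_singleton_iff, not_or]
        exact ⟨Ne.symm D.hQ.zne, Ne.symm hu1, Ne.symm hw1, hout 1 (one_mem _)⟩),
      Set.ncard_insert_of_notMem (by
        simp only [Set.mem_insert_iff, Set.mem_singleton_iff, not_or]
        exact ⟨Ne.symm (D.u_mem i).2.2.2, Ne.symm hwz, hout _ D.hQ.zmem⟩),
      Set.ncard_insert_of_notMem (by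
        simp only [Set.mem_insert_iff, Set.mem_singleton_iff, not_or]
        exact ⟨huw, hout _ huQ⟩),
      Set.ncard_pair (hout _ (mul_mem huQ D.hQ.zmem))] at h
    exact h
  have hd : Nat.card Z ∣ 2 ^ 4 := by
    have := card_subgroup_dvd_card Z
    rwa [ht.card_E] at this
  obtain ⟨k, hk, hk'⟩ := (Nat.dvd_prime_pow Nat.prime_two).1 hd
  have hmul := Z.card_mul_index
  rw [ht.card_E, hk'] at hmul
  rw [hk'] at h5
  have hidx : Z.index ≤ 2 := by
    interval_cases k <;> omega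
  haveI : IsCyclic (D.E t ⧸ Z) := by
    rcases (show Z.index = 1 ∨ Z.index = 2 by have := Z.index_ne_zero_of_finite; omega) with h | h
    · haveI : Subsingleton (D.E t ⧸ Z) := (Nat.card_eq_one_iff_unique.1 h).1
      infer_instance
    · exact isCyclic_of_prime_card (p := 2) h
  intro x hx y hy
  exact congrArg Subtype.val (commutative_of_cyclic_center_quotient (QuotientGroup.mk' Z)
    (by rw [QuotientGroup.ker_mk']) ⟨x, hx⟩ ⟨y, hy⟩)

theorem Outer.z_class_E {t : G} (ht : D.Outer t) {i : Fin 5}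
    (hi : (D.psi ⟨t, D.mem_C.2 ht.comm⟩).1 i = i) {x : G} (hx : x ∈ D.E t) (h : IsConj D.z x) :
    x ∈ four D.hQ (D.u_mem i) := by
  obtain ⟨j, hj, -, hq⟩ := ht.exists_u
  obtain ⟨k, -, huniq⟩ := Alt5.one_fixed _ ht.psi_sq.1 ht.psi_sq.2
  obtain rfl : j = i := (huniq j hj).trans (huniq i hi).symm
  refine hq x hx ?_
  rcases D.z_class (mem_E.1 hx).1 h with e | e
  · exact e ▸ D.hQ.zmem
  · exact e.1

theorem four_isConj (i : Fin 5) {w : G} (hw : w ∈ four D.hQ (D.u_mem i)) (hw1 : w ≠ 1) : IsConj D.z w := by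
  rcases hw with rfl | rfl | rfl | rfl
  · exact absurd rfl hw1
  · exact IsConj.refl _
  · exact invSet_isConj (D.u_mem i)
  · exact invSet_isConj (mul_mem_invSet D.hQ (D.u_mem i))

theorem Outer.cent_z_conj {t : G} (ht : D.Outer t) {w : G} (hw : w ∈ D.E t) (hzw : IsConj D.z w) {x : G}
    (hxw : x * w = w * x) (hxt : x * t = t * x) : x ∈ D.E t := by
  obtain ⟨g, rfl⟩ := isConj_iff.1 hzw
  set t' := g⁻¹ * t * g with ht'
  have ht'o : D.Outer t' := by
    have hsq : t' * t' = 1 := by rw [ht', show g⁻¹ * t * g * (g⁻¹ * t * g) = g⁻¹ * (t * t) * g by group, ht.sq]; group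
    have hc : t' * D.z = D.z * t' := by
      rw [ht']
      calc g⁻¹ * t * g * D.z = g⁻¹ * (t * (g * D.z * g⁻¹)) * g := by group
        _ = g⁻¹ * ((g * D.z * g⁻¹) * t) * g := by rw [← (mem_E.1 hw).2]
        _ = D.z * (g⁻¹ * t * g) := by group
    have hn : ¬ IsConj D.z t' := fun h => D.outer_not_conj ht
      (h.trans (isConj_iff.2 ⟨g, by rw [ht']; group⟩))
    rcases D.involution_cases hc hsq (fun e => ht.out (by
      rw [show t = g * t' * g⁻¹ by rw [ht']; group, e]; simp)) with e | e | e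
    · exact absurd (e ▸ IsConj.refl _) hn
    · exact absurd (invSet_isConj e) hn
    · exact e
  set C' : Subgroup G := centralizer ({g * D.z * g⁻¹} : Set G) ⊓ centralizer ({t} : Set G) with hC'
  have hmap : C' = (D.E t').map (MulAut.conj g).toMonoidHom := by
    ext y
    constructor
    · intro hy
      refine ⟨g⁻¹ * y * g, mem_E.2 ⟨?_, ?_⟩, by simp [mul_assoc]⟩
      · calc g⁻¹ * y * g * D.z = g⁻¹ * (y * (g * D.z * g⁻¹)) * g := by group
          _ = g⁻¹ * ((g * D.z * g⁻¹) * y) * g := by rw [mem_centralizer_singleton_iff.1 hy.1]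
          _ = D.z * (g⁻¹ * y * g) := by group
      · rw [ht']
        calc g⁻¹ * y * g * (g⁻¹ * t * g) = g⁻¹ * (y * t) * g := by group
          _ = g⁻¹ * (t * y) * g := by rw [mem_centralizer_singleton_iff.1 hy.2]
          _ = g⁻¹ * t * g * (g⁻¹ * y * g) := by group
    · rintro ⟨e, he, rfl⟩
      obtain ⟨he1, he2⟩ := mem_E.1 he
      refine ⟨mem_centralizer_singleton_iff.2 ?_, mem_centralizer_singleton_iff.2 ?_⟩
      · show g * e * g⁻¹ * (g * D.z * g⁻¹) = g * D.z * g⁻¹ * (g * e * g⁻¹)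
        rw [conj_mul, conj_mul, he1]
      · show g * e * g⁻¹ * t = t * (g * e * g⁻¹)
        rw [show t = g * t' * g⁻¹ by rw [ht']; group, conj_mul, conj_mul, he2]
  have hle : D.E t ≤ C' := fun y hy => ⟨mem_centralizer_singleton_iff.2 (ht.E_comm y hy _ hw),
    mem_centralizer_singleton_iff.2 (mem_E.1 hy).2⟩
  have heq : D.E t = C' := Subgroup.eq_of_le_of_card_ge hle (by
    rw [hmap, card_map_of_injective (MulAut.conj g).injective, ht'o.card_E, ht.card_E])
  rw [heq]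
  exact ⟨mem_centralizer_singleton_iff.2 hxw, mem_centralizer_singleton_iff.2 hxt⟩

theorem Outer.normal_elem {t : G} (ht : D.Outer t) {n : G} (hnt : n * t = t * n)
    (hn : ∀ e ∈ D.E t, n * e * n⁻¹ ∈ D.E t) :
    n ∈ D.E t ∨ (n ^ 3 ∈ D.E t ∧ n * D.z * n⁻¹ ≠ D.z) := by
  obtain ⟨i, hi, hu, -⟩ := ht.exists_u
  by_cases hnz : n * D.z * n⁻¹ = D.z
  · exact Or.inl (mem_E.2 ⟨mul_inv_eq_iff_eq_mul.1 hnz, hnt⟩)
  set f : G → G := fun x => n * x * n⁻¹ with hf
  have hfinj : Function.Injective f := fun x y h => by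
    simpa [hf] using h
  have hfW : ∀ w ∈ four D.hQ (D.u_mem i), w ≠ 1 → f w ∈ four D.hQ (D.u_mem i) ∧ f w ≠ 1 := fun w hw h1 =>
    ⟨ht.z_class_E hi (hn w (four_le_E ht hu hw)) ((four_isConj i hw h1).trans (isConj_iff.2 ⟨n, rfl⟩)),
      fun e => h1 (conj_eq_one_iff.1 e)⟩
  by_cases hfix : ∃ w ∈ four D.hQ (D.u_mem i), w ≠ 1 ∧ f w = w
  · obtain ⟨w, hw, hw1, hfw⟩ := hfix
    exact Or.inl (ht.cent_z_conj (four_le_E ht hu hw) (four_isConj i hw hw1) (mul_inv_eq_iff_eq_mul.1 hfw) hnt)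
  push Not at hfix
  refine Or.inr ⟨?_, hnz⟩
  have hz4 : D.z ∈ four D.hQ (D.u_mem i) := Or.inr (Or.inl rfl)
  set W := four D.hQ (D.u_mem i) with hW
  obtain ⟨hfz, hfz1⟩ := hfW _ hz4 D.hQ.zne
  obtain ⟨hffz, hffz1⟩ := hfW _ hfz hfz1
  obtain ⟨hfffz, hfffz1⟩ := hfW _ hffz hffz1
  have h1 := hfix _ hz4 D.hQ.zne
  have h2 := hfix _ hfz hfz1
  have h3 : f (f D.z) ≠ D.z := by
    intro e
    -- the remaining element would be fixed
    obtain ⟨w, hw, hw'⟩ : ∃ w ∈ (W : Set G), w ∉ ({1, D.z, f D.z} : Set G) := by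
      refine Set.exists_mem_notMem_of_ncard_lt_ncard ?_
      rw [← Nat.card_coe_set_eq (W : Set G), SetLike.coe_sort_coe, hW, card_four]
      refine lt_of_le_of_lt (Set.ncard_insert_le _ _) ?_
      exact Nat.add_lt_add_right (lt_of_le_of_lt (Set.ncard_insert_le _ _) (by rw [Set.ncard_singleton]; norm_num)) 1
    simp only [Set.mem_insert_iff, Set.mem_singleton_iff, not_or] at hw'
    obtain ⟨hfw, hfw1⟩ := hfW w hw hw'.1
    have hsub : (W : Set G) = {1, D.z, f D.z, w} := by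
      symm
      refine Set.eq_of_subset_of_ncard_le ?_ ?_ (Set.toFinite _)
      · rintro x (rfl | rfl | rfl | rfl)
        exacts [one_mem _, hz4, hfz, hw]
      · rw [← Nat.card_coe_set_eq (W : Set G), SetLike.coe_sort_coe, hW, card_four,
          Set.ncard_insert_of_notMem (by simp [Ne.symm D.hQ.zne, Ne.symm hfz1, Ne.symm hw'.1]),
          Set.ncard_insert_of_notMem (by simp [Ne.symm h1, Ne.symm hw'.2.1]),
          Set.ncard_pair (Ne.symm hw'.2.2)]
    have hfwm : f w ∈ ({1, D.z, f D.z, w} : Set G) := hsub ▸ hfw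
    rcases hfwm with h | h | h | h
    · exact hfw1 h
    · exact hw'.2.2 (hfinj (h.trans e.symm))
    · exact hw'.2.1 (hfinj h)
    · exact hfix w hw hw'.1 h
  have hsub : (W : Set G) = {1, D.z, f D.z, f (f D.z)} := by
    symm
    refine Set.eq_of_subset_of_ncard_le ?_ ?_ (Set.toFinite _)
    · rintro x (rfl | rfl | rfl | rfl)
      exacts [one_mem _, hz4, hfz, hffz]
    · rw [← Nat.card_coe_set_eq (W : Set G), SetLike.coe_sort_coe, hW, card_four,
        Set.ncard_insert_of_notMem (by simp [Ne.symm D.hQ.zne, Ne.symm hfz1, Ne.symm hffz1]),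
        Set.ncard_insert_of_notMem (by simp [Ne.symm h1, Ne.symm h3]),
        Set.ncard_pair (Ne.symm h2)]
  have hmem : f (f (f D.z)) ∈ ({1, D.z, f D.z, f (f D.z)} : Set G) := hsub ▸ hfffz
  have h3z : f (f (f D.z)) = D.z := by
    rcases hmem with h | h | h | h
    · exact absurd h hfffz1
    · exact h
    · exact absurd (hfinj h) h3
    · exact absurd (hfinj (hfinj h)) h1
  refine mem_E.2 ⟨mul_inv_eq_iff_eq_mul.1 ?_, (Commute.pow_left hnt 3).eq⟩
  calc n ^ 3 * D.z * (n ^ 3)⁻¹ = f (f (f D.z)) := by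
        simp only [hf, pow_succ, pow_zero, one_mul, mul_inv_rev, mul_assoc]
    _ = D.z := h3z

end Data

end Cfsg.Agent.JTwoType
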