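import Cfsg.Agent.Lib.JTwoType.CentT

/-!
# Groups of Hall-Janko type: the two possibilities for the centraliser of `t`
-/

set_option autoImplicit false
set_option linter.unusedSectionVars false
set_option linter.style.haveILetI false
set_option maxHeartbeats 1000000

namespace Cfsg.Agent.JTwoType

open Cfsg Subgroup OrderJTwo
open scoped commutatorElement Pointwise

variable {G : Type*} [Group G] [Finite G]

namespace Data

/-- `C(t)` is the product of a four-group and an alternating group of degree five. -/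
structure Prod (D : Data G) (t : G) where
  V : Subgroup G
  B : Subgroup G
  hVC : V ≤ centralizer ({t} : Set G)
  hBC : B ≤ centralizer ({t} : Set G)
  cardV : Nat.card V = 4
  sqV : ∀ v ∈ V, v * v = 1
  tV : t ∈ V
  VE : V ≤ D.E t
  comm : ∀ v ∈ V, ∀ b ∈ B, v * b = b * v
  disj : V ⊓ B = ⊥
  cardC : Nat.card (centralizer ({t} : Set G)) = 240
  iso : Nonempty (B ≃* alternatingGroup (Fin 5))
  zB : D.z ∈ B
  classB : ∀ x ∈ B, orderOf x = 2 → IsConj D.z x
  classOut : ∀ x ∈ centralizer ({t} : Set G), orderOf x = 2 → x ∉ B → IsConj t x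
  g : G
  gB : g ∈ B
  g3 : g ^ 3 = 1
  gnorm : ∀ e ∈ D.E t, g * e * g⁻¹ ∈ D.E t
  gz : g * D.z * g⁻¹ ≠ D.z
  vFix : ∀ e, e ∈ V ↔ e ∈ D.E t ∧ g * e * g⁻¹ = e

variable {D : Data G}

theorem fpf_z_u {t : G} (ht : D.Outer t) {i : Fin 5} (hu : D.u i ∈ D.E t) (K : Subgroup G)
    (hKC : K ≤ centralizer ({t} : Set G)) (hKodd : (Nat.card K).Coprime 2)
    (hn : ∀ e ∈ D.E t, ∀ k ∈ K, e * k * e⁻¹ ∈ K) : K = ⊥ := by
  have hcop : (Nat.card K).Coprime (Nat.card (D.E t)) := by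
    rw [ht.card_E, show 16 = 2 ^ 4 from rfl]; exact hKodd.pow_right 4
  have hd : K ⊓ D.E t = ⊥ := Subgroup.inf_eq_bot_of_coprime hcop
  have hfix : ∀ w ∈ four D.hQ (D.u_mem i), w ≠ 1 → ∀ k ∈ K, w * k * w⁻¹ = k → k = 1 := fun w hw hw1 k hk h =>
    mem_bot.1 (hd ▸ mem_inf.2 ⟨hk, ht.cent_z_conj (four_le_E ht hu hw) (four_isConj i hw hw1)
      (mul_inv_eq_iff_eq_mul.1 h).symm (mem_centralizer_singleton_iff.1 (hKC hk))⟩)
  have hz4 : D.z ∈ four D.hQ (D.u_mem i) := Or.inr (Or.inl rfl)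
  have hu4 : D.u i ∈ four D.hQ (D.u_mem i) := Or.inr (Or.inr (Or.inl rfl))
  refine fpf_pair D.z2 (D.u_sq i) (hn _ (z_mem_E ht)) (hn _ hu) (hfix _ hz4 D.hQ.zne)
    (hfix _ hu4 (D.u_mem i).2.2.1) (hfix _ (mul_mem hz4 hu4) fun e => (D.u_mem i).2.2.2 ?_)
  rw [eq_inv_of_mul_eq_one_right e, D.zinv]

/-- elements of `C(t)` normalising `E` with a `2`-power in `E` lie in `E` -/
theorem pow_two_mem {t : G} (ht : D.Outer t) {n : G} (hnt : n * t = t * n)
    (hnorm : ∀ e ∈ D.E t, n * e * n⁻¹ ∈ D.E t) {k : ℕ} (hk : n ^ 2 ^ k ∈ D.E t) : n ∈ D.E t := by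
  rcases ht.normal_elem hnt hnorm with h | ⟨h, -⟩
  · exact h
  · have := pow_mem_of_coprime h hk
    exact this (Nat.Coprime.pow_right k (by norm_num))
where
  pow_mem_of_coprime {x : G} {a b : ℕ} (ha : x ^ a ∈ D.E t) (hb : x ^ b ∈ D.E t) (h : Nat.Coprime a b) :
      x ∈ D.E t := by
    have e : x = (x ^ a) ^ Nat.gcdA a b * (x ^ b) ^ Nat.gcdB a b := by
      rw [← zpow_natCast x a, ← zpow_natCast x b, ← zpow_mul, ← zpow_mul, ← zpow_add, ← Nat.gcd_eq_gcd_ab, h,
        Nat.cast_one, zpow_one]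
    rw [e]
    exact mul_mem (zpow_mem ha _) (zpow_mem hb _)

theorem E_le_C (t : G) : D.E t ≤ centralizer ({t} : Set G) := inf_le_right

theorem normalizer_conj {t : G} (n : centralizer ({t} : Set G))
    (hn : n ∈ normalizer (((D.E t).subgroupOf (centralizer ({t} : Set G))) : Set (centralizer ({t} : Set G)))) :
    ∀ e ∈ D.E t, (n : G) * e * (n : G)⁻¹ ∈ D.E t := fun e he =>
  mem_subgroupOf.1 ((mem_normalizer_iff.1 hn ⟨e, E_le_C t he⟩).1 (mem_subgroupOf.2 he))

/-- `E` is a Sylow `2`-subgroup of `C(t)`. -/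
theorem E_sylow {t : G} (ht : D.Outer t) :
    ∃ T : Sylow 2 (centralizer ({t} : Set G)),
      (T : Subgroup (centralizer ({t} : Set G))) = (D.E t).subgroupOf (centralizer ({t} : Set G)) := by
  haveI : Fact (Nat.Prime 2) := ⟨Nat.prime_two⟩
  set CT := centralizer ({t} : Set G) with hCT
  set P : Subgroup CT := (D.E t).subgroupOf CT with hP
  have hPp : IsPGroup 2 P := IsPGroup.of_card (n := 4) (by
    rw [Nat.card_congr (subgroupOfEquivOfLe (E_le_C t)).toEquiv, ht.card_E]; rfl)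
  obtain ⟨T, hT⟩ := hPp.exists_le_sylow
  refine ⟨T, le_antisymm ?_ hT⟩
  by_contra hne
  have hlt : P.subgroupOf (T : Subgroup CT) < ⊤ := by
    rw [lt_top_iff_ne_top, Ne, subgroupOf_eq_top]; exact hne
  haveI := T.isPGroup'.isNilpotent
  obtain ⟨n, hnN, hnP⟩ := SetLike.exists_of_lt (normalizerCondition_of_isNilpotent _ hlt)
  apply hnP
  refine mem_subgroupOf.2 ?_
  obtain ⟨k, hk⟩ := T.isPGroup' n
  have hn' : ((n : CT)) ∈ normalizer (P : Set CT) := by
    refine mem_normalizer_iff.2 fun p => ⟨fun hp => ?_, fun hp => ?_⟩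
    · exact mem_subgroupOf.1 ((mem_normalizer_iff.1 hnN ⟨p, hT hp⟩).1 (mem_subgroupOf.2 hp))
    · have := mem_subgroupOf.1 ((mem_normalizer_iff''.1 hnN ⟨(n : CT) * p * (n : CT)⁻¹, hT hp⟩).1
        (mem_subgroupOf.2 hp))
      simpa [mul_assoc] using this
  refine mem_subgroupOf.2 (pow_two_mem ht (mem_centralizer_singleton_iff.1 (n : CT).2) (normalizer_conj _ hn')
    (k := k) ?_)
  have e : ((n : CT) : G) ^ 2 ^ k = 1 := by
    rw [← Subgroup.coe_pow, ← Subgroup.coe_pow, hk]; rfl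
  rw [e]; exact one_mem _

theorem odd_normal_card {t : G} (ht : D.Outer t) {i : Fin 5} (hu : D.u i ∈ D.E t)
    (K : Subgroup (centralizer ({t} : Set G))) (hn : K.Normal) (hodd : (Nat.card K).Coprime 2) :
    Nat.card K = 1 := by
  have hbot : K.map (centralizer ({t} : Set G)).subtype = ⊥ := by
    refine fpf_z_u ht hu _ (map_subtype_le _) ?_ ?_
    · rw [card_subtype]; exact hodd
    · rintro e he _ ⟨k, hk, rfl⟩
      exact ⟨⟨e, E_le_C t he⟩ * k * ⟨e, E_le_C t he⟩⁻¹, hn.conj_mem k hk _, rfl⟩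
  rw [← card_subtype (centralizer ({t} : Set G)) K, hbot, card_bot]

/-- An element of order three in `C(t)` normalising `E` and moving `z`. -/
structure Twist (D : Data G) (t g : G) : Prop where
  comm : g * t = t * g
  norm : ∀ e ∈ D.E t, g * e * g⁻¹ ∈ D.E t
  pow3 : g ^ 3 = 1
  moves : g * D.z * g⁻¹ ≠ D.z
  notE : g ∉ D.E t

theorem twist_or_small {t : G} (ht : D.Outer t) :
    ((∀ n, n * t = t * n → ∀ e ∈ D.E t, n * e * n⁻¹ ∈ D.E t) ∧
      Nat.card (centralizer ({t} : Set G)) = 16) ∨ ∃ g, Twist D t g := by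
  classical
  haveI : Fact (Nat.Prime 2) := ⟨Nat.prime_two⟩
  obtain ⟨i, hi, hu, -⟩ := ht.exists_u
  set CT := centralizer ({t} : Set G) with hCT
  obtain ⟨T, hTP⟩ := E_sylow ht
  set P : Subgroup CT := (D.E t).subgroupOf CT with hP
  have hPcard : Nat.card P = 16 := by
    rw [Nat.card_congr (subgroupOfEquivOfLe (E_le_C t)).toEquiv, ht.card_E]
  by_cases hA : ∀ n : CT, n ∈ normalizer (P : Set CT) → (n : G) ∈ D.E t
  · left
    have hcent : normalizer ((T : Subgroup CT) : Set CT) ≤ centralizer ((T : Subgroup CT) : Set CT) := by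
      intro n hn
      rw [hTP] at hn ⊢
      exact mem_centralizer_iff.2 fun p hp => Subtype.ext (ht.E_comm _ (mem_subgroupOf.1 hp) _ (hA n hn))
    have hcompl := MonoidHom.ker_transferSylow_isComplement' T hcent
    set K := (MonoidHom.transferSylow T hcent).ker with hK
    have hKodd : (Nat.card K).Coprime 2 := by
      rw [← hcompl.index_eq_card]
      exact ((Nat.prime_two.coprime_iff_not_dvd).2 T.not_dvd_index).symm
    have hK1 : Nat.card K = 1 := odd_normal_card ht hu K (by rw [hK]; exact MonoidHom.normal_ker _) hKodd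
    have hT16 : Nat.card (T : Subgroup CT) = 16 := by rw [hTP, hPcard]
    have hcard : Nat.card CT = 16 := by rw [← hcompl.card_mul, hK1, one_mul, hT16]
    refine ⟨fun n hn e he => ?_, hcard⟩
    have heq : D.E t = CT := Subgroup.eq_of_le_of_card_ge (E_le_C t) (by rw [hcard, ht.card_E])
    have hn' : n ∈ D.E t := heq.ge (mem_centralizer_singleton_iff.2 hn)
    exact mul_mem (mul_mem hn' he) (inv_mem hn')
  right
  push Not at hA
  obtain ⟨n0, hn0, hn0E⟩ := hA
  have hn0t := mem_centralizer_singleton_iff.1 n0.2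
  obtain ⟨h30, -⟩ := (ht.normal_elem hn0t (normalizer_conj n0 hn0)).resolve_left hn0E
  have hgE : (n0 : G) ^ 16 ∉ D.E t := fun h =>
    hn0E (pow_two_mem ht hn0t (normalizer_conj n0 hn0) (k := 4) h)
  have hg3 : ((n0 : G) ^ 16) ^ 3 = 1 := by
    have := pow_card_eq_one' (x := (⟨_, h30⟩ : D.E t))
    rw [ht.card_E] at this
    rw [← pow_mul, mul_comm, pow_mul]
    exact congrArg Subtype.val this
  have hgt : (n0 : G) ^ 16 * t = t * (n0 : G) ^ 16 := (Commute.pow_left hn0t 16).eq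
  have hgnorm := normalizer_conj (n0 ^ 16) (pow_mem hn0 16)
  exact ⟨_, hgt, hgnorm, hg3, ((ht.normal_elem hgt hgnorm).resolve_left hgE).2, hgE⟩

namespace Twist

variable {t g : G} {i : Fin 5}

theorem W_conj (h : Twist D t g) (ht : D.Outer t) (hi : (D.psi ⟨t, D.mem_C.2 ht.comm⟩ : Equiv.Perm (Fin 5)) i = i)
    (hu : D.u i ∈ D.E t) : ∀ w ∈ four D.hQ (D.u_mem i), g * w * g⁻¹ ∈ four D.hQ (D.u_mem i) := fun w hw => by
  by_cases h1 : w = 1
  · simp [h1]
  · exact ht.z_class_E hi (h.norm w (four_le_E ht hu hw)) ((four_isConj i hw h1).trans (isConj_iff.2 ⟨g, rfl⟩))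

theorem W_fix (h : Twist D t g) (ht : D.Outer t) (hu : D.u i ∈ D.E t) :
    ∀ w ∈ four D.hQ (D.u_mem i), g * w * g⁻¹ = w → w = 1 := fun w hw e => by
  by_contra h1
  exact h.notE (ht.cent_z_conj (four_le_E ht hu hw) (four_isConj i hw h1) (mul_inv_eq_iff_eq_mul.1 e) h.comm)

theorem cube (h : Twist D t g) : ∀ e, g * (g * (g * e * g⁻¹) * g⁻¹) * g⁻¹ = e := fun e => by
  have e3 : g * (g * (g * e * g⁻¹) * g⁻¹) * g⁻¹ = g ^ 3 * e * (g ^ 3)⁻¹ := by
    simp only [pow_succ, pow_zero, one_mul, mul_inv_rev, mul_assoc]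
  rw [e3, h.pow3, one_mul, inv_one, mul_one]

theorem W_eq (h : Twist D t g) (ht : D.Outer t) (hi : (D.psi ⟨t, D.mem_C.2 ht.comm⟩ : Equiv.Perm (Fin 5)) i = i)
    (hu : D.u i ∈ D.E t) :
    ∀ w ∈ four D.hQ (D.u_mem i), w ≠ 1 → w = D.z ∨ w = g * D.z * g⁻¹ ∨ w = g * (g * D.z * g⁻¹) * g⁻¹ := by
  intro w hw hw1
  set W := four D.hQ (D.u_mem i) with hWdef
  have hgW := h.W_conj ht hi hu
  have hz4 : D.z ∈ W := Or.inr (Or.inl rfl)
  have hne : g * (g * D.z * g⁻¹) * g⁻¹ ≠ D.z := fun e => h.moves (by have := h.cube D.z; rwa [e] at this)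
  by_contra hc
  simp only [not_or] at hc
  have h5 : ({1, D.z, g * D.z * g⁻¹, g * (g * D.z * g⁻¹) * g⁻¹, w} : Set G) ⊆ W := by
    rintro y (rfl | rfl | rfl | rfl | rfl)
    exacts [one_mem _, hz4, hgW _ hz4, hgW _ (hgW _ hz4), hw]
  have := Set.ncard_le_ncard h5 (Set.toFinite _)
  rw [← Nat.card_coe_set_eq (W : Set G), SetLike.coe_sort_coe, hWdef, card_four,
    Set.ncard_insert_of_notMem (by
      simp only [Set.mem_insert_iff, Set.mem_singleton_iff, not_or]
      exact ⟨Ne.symm D.hQ.zne, fun e => D.hQ.zne (conj_eq_one_iff.1 e.symm),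
        fun e => D.hQ.zne (conj_eq_one_iff.1 (conj_eq_one_iff.1 e.symm)), Ne.symm hw1⟩),
    Set.ncard_insert_of_notMem (by
      simp only [Set.mem_insert_iff, Set.mem_singleton_iff, not_or]
      exact ⟨Ne.symm h.moves, Ne.symm hne, Ne.symm hc.1⟩),
    Set.ncard_insert_of_notMem (by
      simp only [Set.mem_insert_iff, Set.mem_singleton_iff, not_or]
      exact ⟨fun e => h.moves ((MulAut.conj g).injective e).symm, Ne.symm hc.2.1⟩),
    Set.ncard_pair (Ne.symm hc.2.2)] at this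
  omega

/-- the fixed points of `g` on `E` -/
def fixed (_h : Twist D t g) : Subgroup G where
  carrier := {e | e ∈ D.E t ∧ g * e * g⁻¹ = e}
  one_mem' := ⟨one_mem _, by simp⟩
  mul_mem' := fun {a b} ha hb => ⟨mul_mem ha.1 hb.1, by rw [← conj_mul, ha.2, hb.2]⟩
  inv_mem' := fun {a} ha => ⟨inv_mem ha.1, by rw [← conj_inv, ha.2]⟩

theorem shift (h : Twist D t g) (ht : D.Outer t)
    (hi : (D.psi ⟨t, D.mem_C.2 ht.comm⟩ : Equiv.Perm (Fin 5)) i = i) (hu : D.u i ∈ D.E t) :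
    ∀ e ∈ D.E t, ∃ w ∈ four D.hQ (D.u_mem i), g * e * g⁻¹ = e * w := by
  classical
  set W := four D.hQ (D.u_mem i) with hWdef
  have hWE : W ≤ D.E t := four_le_E ht hu
  have hgW := h.W_conj ht hi hu
  have hgt := h.comm
  have hgnorm := h.norm
  have hg3fix := h.cube
  have htW : t ∉ W := fun h => ht.out (four_le_Q i h)
  set M : Subgroup G := W ⊔ zpowers t with hM
  have hmemM : ∀ x ∈ M, x ∈ W ∨ ∃ w ∈ W, x = w * t := by
    intro x hx
    have hn : zpowers t ≤ normalizer (W : Set G) := zpowers_le.2 (centralizer_le_normalizer _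
      (mem_centralizer_iff.2 fun w hw => ht.E_comm w (hWE hw) t ht.t_mem_E))
    rw [hM, ← SetLike.mem_coe, Subgroup.coe_mul_of_right_le_normalizer_left W (zpowers t) hn] at hx
    obtain ⟨w, hw, y, hy, rfl⟩ := hx
    obtain ⟨k, rfl⟩ := mem_zpowers_iff.1 hy
    rcases Int.even_or_odd k with hk | hk
    · obtain ⟨m, rfl⟩ := hk
      left
      have : t ^ (m + m) = 1 := by rw [← two_mul, zpow_mul, zpow_two, ht.sq, one_zpow]
      simpa [this] using hw
    · obtain ⟨m, rfl⟩ := hk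
      right
      refine ⟨w, hw, ?_⟩
      show w * t ^ (2 * m + 1) = w * t
      rw [zpow_add_one, zpow_mul, zpow_two, ht.sq, one_zpow, one_mul]
  have hME : M ≤ D.E t := sup_le hWE (zpowers_le.2 ht.t_mem_E)
  have hM8 : 8 ≤ Nat.card M := by
    have hd : Nat.card W ∣ Nat.card M := card_dvd_of_le le_sup_left
    rw [hWdef, card_four] at hd
    have hne : Nat.card M ≠ 4 := fun h => htW ((Subgroup.eq_of_le_of_card_ge (le_sup_left : W ≤ M)
      (by rw [h, hWdef, card_four])).ge ((le_sup_right : zpowers t ≤ M) (mem_zpowers t)))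
    have := Nat.card_pos (α := M)
    omega
  intro e he
  have hex : e⁻¹ * (g * e * g⁻¹) ∈ M := by
    by_cases heM : e ∈ M
    · refine mul_mem (inv_mem heM) ?_
      rcases hmemM e heM with h | ⟨w, hw, rfl⟩
      · exact (le_sup_left : W ≤ M) (hgW e h)
      · rw [← conj_mul, show g * t * g⁻¹ = t by rw [hgt, mul_inv_cancel_right]]
        exact mul_mem ((le_sup_left : W ≤ M) (hgW w hw)) ((le_sup_right : zpowers t ≤ M) (mem_zpowers t))
    · have hgeM : g * e * g⁻¹ ∉ M := by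
        intro h
        apply heM
        have hconjM : ∀ x ∈ M, g * x * g⁻¹ ∈ M := by
          intro x hx
          rcases hmemM x hx with h | ⟨w, hw, rfl⟩
          · exact (le_sup_left : W ≤ M) (hgW x h)
          · rw [← conj_mul, show g * t * g⁻¹ = t by rw [hgt, mul_inv_cancel_right]]
            exact mul_mem ((le_sup_left : W ≤ M) (hgW w hw)) ((le_sup_right : zpowers t ≤ M) (mem_zpowers t))
        rw [← hg3fix e]
        exact hconjM _ (hconjM _ h)
      have hidx : (M.subgroupOf (D.E t)).index = 2 := by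
        have h := (M.subgroupOf (D.E t)).card_mul_index
        rw [Nat.card_congr (subgroupOfEquivOfLe hME).toEquiv, ht.card_E] at h
        have hne : (M.subgroupOf (D.E t)).index ≠ 1 := fun h1 =>
          heM (mem_subgroupOf.1 ((index_eq_one.1 h1).ge (mem_top (⟨e, he⟩ : D.E t))))
        have h2 : (M.subgroupOf (D.E t)).index ≤ 2 := by nlinarith
        have := (M.subgroupOf (D.E t)).index_ne_zero_of_finite
        omega
      have key := (mul_mem_iff_of_index_two hidx (a := (⟨e, he⟩ : D.E t)⁻¹)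
        (b := ⟨g * e * g⁻¹, hgnorm e he⟩)).2
      refine mem_subgroupOf.1 (key ?_)
      simp only [mem_subgroupOf, InvMemClass.coe_inv, Subgroup.inv_mem_iff]
      exact ⟨fun h => absurd h heM, fun h => absurd h hgeM⟩
  rcases hmemM _ hex with h | ⟨w, hw, hwt⟩
  · exact ⟨_, h, by group⟩
  exfalso
  -- otherwise `g` would act with order two modulo `W`
  have hge : g * e * g⁻¹ = e * (w * t) := by rw [← hwt]; group
  have hgwt : ∀ v ∈ W, g * (v * t) * g⁻¹ = g * v * g⁻¹ * t := fun v _ => by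
    rw [← conj_mul, show g * t * g⁻¹ = t by rw [hgt, mul_inv_cancel_right]]
  have e2 : g * (g * e * g⁻¹) * g⁻¹ = e * (w * (g * w * g⁻¹)) := by
    rw [hge, ← conj_mul, hge, hgwt w hw]
    have hcm : t * (g * w * g⁻¹) = g * w * g⁻¹ * t := ht.E_comm _ ht.t_mem_E _ (hWE (hgW w hw))
    calc e * (w * t) * (g * w * g⁻¹ * t) = e * (w * (t * (g * w * g⁻¹)) * t) := by group
      _ = e * (w * (g * w * g⁻¹) * (t * t)) := by rw [hcm]; group
      _ = e * (w * (g * w * g⁻¹)) := by rw [ht.sq, mul_one]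
  have e3 := hg3fix e
  rw [e2, ← conj_mul, hge] at e3
  set v := g * (w * (g * w * g⁻¹)) * g⁻¹ with hv
  have hvW : v ∈ W := hgW _ (mul_mem hw (hgW w hw))
  have h4 : w * t * v = 1 := mul_left_cancel (a := e) (by rw [mul_one, ← mul_assoc]; exact e3)
  exact htW (by
    have : t = w⁻¹ * v⁻¹ := by
      rw [← mul_one (w⁻¹ * v⁻¹), ← h4]
      have hcm : t * v = v * t := ht.E_comm _ ht.t_mem_E _ (hWE hvW)
      calc t = w⁻¹ * (w * t) := by group
        _ = w⁻¹ * v⁻¹ * (v * (w * t)) := by group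
        _ = w⁻¹ * v⁻¹ * (w * t * v) := by
          rw [ht.E_comm v (hWE hvW) (w * t) (mul_mem (hWE hw) ht.t_mem_E)]
    rw [this]; exact mul_mem (inv_mem hw) (inv_mem hvW))
theorem sq_mem (ht : D.Outer t) (hu : D.u i ∈ D.E t)
    (hq : ∀ q ∈ D.E t, q ∈ D.Q → q ∈ four D.hQ (D.u_mem i)) :
    ∀ e ∈ D.E t, e * e ∈ four D.hQ (D.u_mem i) ∧ e ^ 4 = 1 := by
  set W := four D.hQ (D.u_mem i) with hWdef
  intro e he
  obtain ⟨hez, het⟩ := mem_E.1 he
  obtain ⟨h2, -⟩ := Alt5.commuting _ (D.psi ⟨e, D.mem_C.2 hez⟩) ht.psi_sq.1 ht.psi_sq.2 (by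
    rw [← map_mul, ← map_mul]; exact congrArg D.psi (Subtype.ext het))
  have hee : e * e ∈ D.Q := (D.psi_ker (⟨e, D.mem_C.2 hez⟩ * ⟨e, D.mem_C.2 hez⟩)).1 (by rw [map_mul, h2])
  have hW' := hq _ (mul_mem he he) hee
  refine ⟨hW', ?_⟩
  have hsq : (e * e) * (e * e) = 1 := by
    rcases hW' with h | h | h | h <;> rw [h]
    · exact one_mul 1
    · exact D.z2
    · exact D.u_sq i
    · exact (mul_mem_invSet D.hQ (D.u_mem i)).2.1
  rw [show 4 = 2 * 2 from rfl, pow_mul, pow_two, pow_two]; exact hsq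
theorem decomp (h : Twist D t g) (ht : D.Outer t)
    (hi : (D.psi ⟨t, D.mem_C.2 ht.comm⟩ : Equiv.Perm (Fin 5)) i = i) (hu : D.u i ∈ D.E t)
    (hq : ∀ q ∈ D.E t, q ∈ D.Q → q ∈ four D.hQ (D.u_mem i)) :
    ∀ e ∈ D.E t, ∃ v ∈ h.fixed, ∃ w ∈ four D.hQ (D.u_mem i), e = v * w := by
  set W := four D.hQ (D.u_mem i) with hWdef
  set V := h.fixed with hVdef
  have hWE : W ≤ D.E t := four_le_E ht hu
  have hgW := h.W_conj ht hi hu
  have hgnorm := h.norm
  have hg3fix := h.cube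
  have hE4 := sq_mem ht hu hq
  intro e he
  obtain ⟨w, hw, hge⟩ := h.shift ht hi hu e he
  have hgw : g * w * g⁻¹ ∈ W := hgW w hw
  set P' := e * (g * e * g⁻¹) * (g * (g * e * g⁻¹) * g⁻¹)
  have hP'E : P' ∈ D.E t := mul_mem (mul_mem he (hgnorm e he)) (hgnorm _ (hgnorm e he))
  have hPV : P' ∈ V := by
    refine ⟨hP'E, ?_⟩
    show g * (e * (g * e * g⁻¹) * (g * (g * e * g⁻¹) * g⁻¹)) * g⁻¹ = _
    rw [← conj_mul, ← conj_mul, hg3fix]
    rw [ht.E_comm _ (mul_mem (hgnorm e he) (hgnorm _ (hgnorm e he))) e he, ← mul_assoc]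
  set w' := (w * (w * (g * w * g⁻¹)))
  have hP' : P' = e ^ 3 * w' := by
    show e * (g * e * g⁻¹) * (g * (g * e * g⁻¹) * g⁻¹) = _
    rw [hge, ← conj_mul, hge]
    have hc : w * e = e * w := ht.E_comm _ (hWE hw) _ he
    calc e * (e * w) * (e * w * (g * w * g⁻¹)) = e * e * (w * e) * w * (g * w * g⁻¹) := by group
      _ = e ^ 3 * (w * (w * (g * w * g⁻¹))) := by rw [hc]; simp only [pow_succ, pow_zero, one_mul, mul_assoc]
  have hw' : w' ∈ W := mul_mem hw (mul_mem hw hgw)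
  refine ⟨P'⁻¹, inv_mem hPV, w', hw', ?_⟩
  rw [hP', mul_inv_rev, ht.E_comm _ (inv_mem (hWE hw')) _ (inv_mem (pow_mem he 3)), inv_mul_cancel_right,
    eq_inv_iff_mul_eq_one, ← pow_succ', (hE4 e he).2]
theorem fixed_W (h : Twist D t g) (ht : D.Outer t) (hu : D.u i ∈ D.E t) :
    ∀ v ∈ h.fixed, v ∈ four D.hQ (D.u_mem i) → v = 1 := fun v hv hw => h.W_fix ht hu v hw hv.2

theorem fixed_t (h : Twist D t g) (ht : D.Outer t) : t ∈ h.fixed :=
  ⟨ht.t_mem_E, by rw [h.comm, mul_inv_cancel_right]⟩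

theorem fixed_card (h : Twist D t g) (ht : D.Outer t)
    (hi : (D.psi ⟨t, D.mem_C.2 ht.comm⟩ : Equiv.Perm (Fin 5)) i = i) (hu : D.u i ∈ D.E t)
    (hq : ∀ q ∈ D.E t, q ∈ D.Q → q ∈ four D.hQ (D.u_mem i)) :
    Nat.card h.fixed = 4 := by
  set W := four D.hQ (D.u_mem i) with hWdef
  set V := h.fixed with hVdef
  have hWE : W ≤ D.E t := four_le_E ht hu
  have hVW := h.fixed_W ht hu
  have hdec := h.decomp ht hi hu hq
  let f : V × W → D.E t := fun p => ⟨p.1 * p.2, mul_mem p.1.2.1 (hWE p.2.2)⟩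
  have hf : Function.Bijective f := by
    refine ⟨fun p q h => ?_, fun e => ?_⟩
    · have h' : (p.1 : G) * p.2 = q.1 * q.2 := congrArg Subtype.val h
      have h1 : (q.1 : G)⁻¹ * p.1 = q.2 * (p.2 : G)⁻¹ := by
        calc (q.1 : G)⁻¹ * p.1 = (q.1 : G)⁻¹ * (p.1 * p.2) * (p.2 : G)⁻¹ := by group
          _ = _ := by rw [h']; group
      have h2 : (q.1 : G)⁻¹ * p.1 = 1 := hVW _ (mul_mem (inv_mem q.1.2) p.1.2)
        (h1 ▸ mul_mem q.2.2 (inv_mem p.2.2))
      rw [h2] at h1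
      exact _root_.Prod.ext (Subtype.ext (inv_mul_eq_one.1 h2).symm) (Subtype.ext (mul_inv_eq_one.1 h1.symm).symm)
    · obtain ⟨v, hv, w, hw, h⟩ := hdec e e.2
      exact ⟨(⟨v, hv⟩, ⟨w, hw⟩), Subtype.ext h.symm⟩
  have h4 := Nat.card_eq_of_bijective f hf
  rw [Nat.card_prod, ht.card_E, hWdef, card_four] at h4
  omega
theorem fixed_sq (h : Twist D t g) (ht : D.Outer t) (hu : D.u i ∈ D.E t)
    (hq : ∀ q ∈ D.E t, q ∈ D.Q → q ∈ four D.hQ (D.u_mem i)) : ∀ v ∈ h.fixed, v * v = 1 := fun v hv =>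
  h.fixed_W ht hu _ (mul_mem hv hv) (sq_mem ht hu hq v hv.1).1

/-- the normaliser of `E` in `C(t)` centralises the fixed points -/
theorem norm_fixes (h : Twist D t g) (ht : D.Outer t)
    (hi : (D.psi ⟨t, D.mem_C.2 ht.comm⟩ : Equiv.Perm (Fin 5)) i = i) (hu : D.u i ∈ D.E t) {n : G} (hnt : n * t = t * n)
    (hnn : ∀ e ∈ D.E t, n * e * n⁻¹ ∈ D.E t) : ∀ v ∈ h.fixed, n * v * n⁻¹ = v := by
  intro v hv
  set W := four D.hQ (D.u_mem i) with hWdef
  have hz4 : D.z ∈ W := Or.inr (Or.inl rfl)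
  have hnz : n * D.z * n⁻¹ ∈ W := ht.z_class_E hi (hnn _ (z_mem_E ht)) (isConj_iff.2 ⟨n, rfl⟩)
  obtain ⟨j, hj⟩ : ∃ j : ℕ, n * D.z * n⁻¹ = g ^ j * D.z * (g ^ j)⁻¹ := by
    rcases h.W_eq ht hi hu _ hnz (fun e => D.hQ.zne (conj_eq_one_iff.1 e)) with e | e | e
    · exact ⟨0, by rw [e]; simp⟩
    · exact ⟨1, by rw [e, pow_one]⟩
    · exact ⟨2, by rw [e, pow_two]; group⟩
  have hcm : Commute (g ^ j) v := Commute.pow_left (mul_inv_eq_iff_eq_mul.1 hv.2) j
  have hmem : (g ^ j)⁻¹ * n ∈ D.E t := by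
    refine mem_E.2 ⟨?_, ?_⟩
    · calc (g ^ j)⁻¹ * n * D.z = (g ^ j)⁻¹ * (n * D.z * n⁻¹) * n := by group
        _ = D.z * ((g ^ j)⁻¹ * n) := by rw [hj]; group
    · exact (Commute.mul_left (Commute.inv_left (Commute.pow_left h.comm j)) hnt).eq
  calc n * v * n⁻¹ = g ^ j * (((g ^ j)⁻¹ * n) * v) * n⁻¹ := by group
    _ = g ^ j * (v * ((g ^ j)⁻¹ * n)) * n⁻¹ := by rw [ht.E_comm _ hmem _ hv.1]
    _ = g ^ j * v * (g ^ j)⁻¹ := by group
    _ = v := by rw [hcm.eq, mul_inv_cancel_right]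

/-- transfer gives a normal complement of the fixed points -/
theorem exists_B (h : Twist D t g) (ht : D.Outer t)
    (hi : (D.psi ⟨t, D.mem_C.2 ht.comm⟩ : Equiv.Perm (Fin 5)) i = i) (hu : D.u i ∈ D.E t)
    (hq : ∀ q ∈ D.E t, q ∈ D.Q → q ∈ four D.hQ (D.u_mem i)) :
    ∃ B : Subgroup G, B ≤ centralizer ({t} : Set G) ∧
      (∀ x ∈ centralizer ({t} : Set G), ∀ b ∈ B, x * b * x⁻¹ ∈ B) ∧ g ∈ B ∧
      (∀ w ∈ four D.hQ (D.u_mem i), w ∈ B) ∧ (∀ v ∈ h.fixed, v ∈ B → v = 1) ∧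
      (∀ x ∈ B, x ∈ D.E t → x ∈ four D.hQ (D.u_mem i)) ∧
      Nat.card (centralizer ({t} : Set G)) = 4 * Nat.card B := by
  classical
  haveI : Fact (Nat.Prime 2) := ⟨Nat.prime_two⟩
  set CT := centralizer ({t} : Set G) with hCT
  obtain ⟨T, hTP⟩ := E_sylow ht
  set P : Subgroup CT := (D.E t).subgroupOf CT with hP
  set W := four D.hQ (D.u_mem i) with hWdef
  set V := h.fixed with hVdef
  have hEC : D.E t ≤ CT := E_le_C t
  have hPcard : Nat.card P = 16 := by
    rw [Nat.card_congr (subgroupOfEquivOfLe hEC).toEquiv, ht.card_E]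
  have hWE : W ≤ D.E t := four_le_E ht hu
  have hgCT : g ∈ CT := mem_centralizer_singleton_iff.2 h.comm
  have hgW := h.W_conj ht hi hu
  have hgfix := h.W_fix ht hu
  have hVsq := h.fixed_sq ht hu hq
  have hVcard := h.fixed_card ht hi hu hq
  have hdec := h.decomp ht hi hu hq
  haveI hTc : IsMulCommutative (T : Subgroup CT) :=
    ⟨⟨fun a b => Subtype.ext (Subtype.ext (ht.E_comm _ (mem_subgroupOf.1 (hTP.le a.2)) _
      (mem_subgroupOf.1 (hTP.le b.2))))⟩⟩
  -- transfer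
  letI : CommGroup (T : Subgroup CT) := { (T : Subgroup CT).toGroup with mul_comm := fun a b => mul_comm' a b }
  set τ : CT →* (T : Subgroup CT) := MonoidHom.transfer (MonoidHom.id (T : Subgroup CT)) with hτ
  have hidxodd : Odd (T : Subgroup CT).index :=
    Nat.not_even_iff_odd.1 fun h => T.not_dvd_index (even_iff_two_dvd.1 h)
  have hτV : ∀ (v : CT), (v : G) ∈ V → ((τ v : CT) : G) = v := by
    intro v hv
    have key : ∀ (k : ℕ) (g₀ : CT), g₀⁻¹ * v ^ k * g₀ ∈ (T : Subgroup CT) → g₀⁻¹ * v ^ k * g₀ = v ^ k := by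
      intro k g₀ hm
      have hvT : v ^ k ∈ (T : Subgroup CT) := pow_mem (hTP.ge (mem_subgroupOf.2 hv.1)) k
      obtain ⟨n, hn, he⟩ := T.conj_eq_normalizer_conj_of_mem (v ^ k) g₀ hvT hm
      rw [he]
      have hn' : (n⁻¹ : CT) ∈ normalizer (P : Set CT) := hTP ▸ inv_mem hn
      refine Subtype.ext ?_
      have := h.norm_fixes ht hi hu (mem_centralizer_singleton_iff.1 (n⁻¹).2) (normalizer_conj _ hn')
        ((v : G) ^ k) (pow_mem hv k)
      simpa using this
    rw [hτ, MonoidHom.transfer_eq_pow _ _ key]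
    show ((v ^ (T : Subgroup CT).index : CT) : G) = v
    obtain ⟨m, hm⟩ := hidxodd
    rw [hm, Subgroup.coe_pow, pow_succ, pow_mul, pow_two, hVsq _ hv, one_pow, one_mul]
  set K := τ.ker with hK
  set B : Subgroup G := K.map CT.subtype with hB
  have hBC : B ≤ CT := map_subtype_le _
  have hBmem : ∀ x : CT, (x : G) ∈ B ↔ x ∈ K := fun x =>
    ⟨fun ⟨y, hy, h⟩ => (Subtype.ext h : y = x) ▸ hy, fun h => ⟨x, h, rfl⟩⟩
  have hgB : g ∈ B := by
    refine (hBmem ⟨g, hgCT⟩).2 ?_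
    rw [hK, MonoidHom.mem_ker, ← orderOf_eq_one_iff]
    have h1 : orderOf (τ ⟨g, hgCT⟩) ∣ 3 := orderOf_dvd_of_pow_eq_one (by
      rw [← map_pow]; exact (congrArg τ (Subtype.ext h.pow3)).trans τ.map_one)
    have h2 : orderOf (τ ⟨g, hgCT⟩) ∣ 16 := hPcard ▸ hTP ▸ orderOf_dvd_natCard _
    exact Nat.eq_one_of_dvd_coprimes (by norm_num : Nat.Coprime 3 16) h1 h2
  have hWB : ∀ w ∈ W, w ∈ B := by
    let f : W → W := fun x => ⟨g * x * g⁻¹ * (x : G)⁻¹, mul_mem (hgW x x.2) (inv_mem x.2)⟩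
    have hf : Function.Injective f := fun x y h => by
      have h' : g * (x : G) * g⁻¹ * (x : G)⁻¹ = g * y * g⁻¹ * (y : G)⁻¹ := congrArg Subtype.val h
      have hfix : g * ((y : G)⁻¹ * x) * g⁻¹ = (y : G)⁻¹ * x := by
        have hc : ∀ a b : W, (a : G) * b = b * a := fun a b => ht.E_comm _ (hWE a.2) _ (hWE b.2)
        calc g * ((y : G)⁻¹ * x) * g⁻¹ = (g * y * g⁻¹)⁻¹ * (g * x * g⁻¹) := by group
          _ = (y : G)⁻¹ * (g * y * g⁻¹ * (y : G)⁻¹)⁻¹ * ((g * x * g⁻¹ * (x : G)⁻¹) * x) := by group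
          _ = (y : G)⁻¹ * x := by rw [h']; group
      exact Subtype.ext (inv_mul_eq_one.1 (hgfix _ (mul_mem (inv_mem y.2) x.2) hfix)).symm
    intro w hw
    obtain ⟨x, hx⟩ := Finite.injective_iff_surjective.1 hf ⟨w, hw⟩
    have hx' : g * (x : G) * g⁻¹ * (x : G)⁻¹ = w := congrArg Subtype.val hx
    have hcomm : (⟨w, hEC (hWE hw)⟩ : CT) =
        ⟨g, hgCT⟩ * ⟨x, hEC (hWE x.2)⟩ * ⟨g, hgCT⟩⁻¹ * ⟨x, hEC (hWE x.2)⟩⁻¹ :=
      Subtype.ext hx'.symm
    refine (hBmem ⟨w, hEC (hWE hw)⟩).2 ?_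
    rw [hK, MonoidHom.mem_ker, hcomm, map_mul, map_mul, map_mul, map_inv, map_inv, mul_comm (τ _) (τ _),
      mul_inv_cancel_right, mul_inv_cancel]
  have hBV : ∀ v ∈ V, v ∈ B → v = 1 := by
    intro v hv hvB
    have hvC : v ∈ CT := hEC hv.1
    have := hτV ⟨v, hvC⟩ hv
    rw [(hBmem ⟨v, hvC⟩).1 hvB |> MonoidHom.mem_ker.1] at this
    simpa using this.symm
  have hBE : ∀ x ∈ B, x ∈ D.E t → x ∈ W := by
    intro x hxB hxE
    obtain ⟨v, hv, w, hw, rfl⟩ := hdec x hxE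
    have : v ∈ B := by simpa using mul_mem hxB (inv_mem (hWB w hw))
    rw [hBV v hv this, one_mul]; exact hw
  have hKidx : K.index = 4 := by
    rw [hK, index_ker]
    have hd : Nat.card τ.range ∣ 16 := hPcard ▸ hTP ▸ card_subgroup_dvd_card τ.range
    have hge : 4 ≤ Nat.card τ.range := by
      rw [← hVcard]
      refine Nat.card_le_card_of_injective (fun v : V => (⟨τ ⟨v, hEC v.2.1⟩, ⟨_, rfl⟩⟩ : τ.range)) fun a b hab => ?_
      have h1 : τ ⟨a, hEC a.2.1⟩ = τ ⟨b, hEC b.2.1⟩ := congrArg Subtype.val hab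
      have := congrArg (fun x : (T : Subgroup CT) => ((x : CT) : G)) h1
      rw [hτV ⟨a, hEC a.2.1⟩ a.2, hτV ⟨b, hEC b.2.1⟩ b.2] at this
      exact Subtype.ext this
    have hle : ¬ 8 ∣ Nat.card τ.range := by
      intro h8
      have h1 := K.card_mul_index
      rw [hK, index_ker, ← hK] at h1
      have h2 := (T : Subgroup CT).card_mul_index
      rw [hTP, hPcard] at h2
      have h4 : 4 ∣ Nat.card K := by
        have h := card_dvd_of_le (show W ≤ B from fun w hw => hWB w hw)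
        rwa [hWdef, card_four, hB, card_map_of_injective CT.subtype_injective] at h
      have h32 : 32 ∣ Nat.card CT := h1 ▸ (show 4 * 8 ∣ Nat.card K * Nat.card τ.range from Nat.mul_dvd_mul h4 h8)
      rw [← h2] at h32
      obtain ⟨c, hc⟩ := h32
      exact T.not_dvd_index (hTP.symm ▸ ⟨c, by omega⟩)
    have h16 := Nat.le_of_dvd (by norm_num) hd
    interval_cases Nat.card τ.range <;> omega
  have hCTcard : Nat.card CT = 4 * Nat.card B := by
    rw [hB, card_map_of_injective CT.subtype_injective, ← hKidx, mul_comm, card_mul_index]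
  haveI : (B.subgroupOf CT).Normal := by
    rw [hB, subgroupOf, comap_map_eq_self_of_injective CT.subtype_injective]; infer_instance
  have hBnorm : ∀ x ∈ CT, ∀ b ∈ B, x * b * x⁻¹ ∈ B := fun x hx b hb =>
    mem_subgroupOf.1 ((inferInstance : (B.subgroupOf CT).Normal).conj_mem ⟨b, hBC hb⟩ (mem_subgroupOf.2 hb) ⟨x, hx⟩)
  exact ⟨B, hBC, hBnorm, hgB, hWB, hBV, hBE, hCTcard⟩

end Twist

theorem centT_cases {t : G} (ht : D.Outer t) :
    (∀ n, n * t = t * n → ∀ e ∈ D.E t, n * e * n⁻¹ ∈ D.E t) ∧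
      (Nat.card (centralizer ({t} : Set G)) = 16 ∨ Nat.card (centralizer ({t} : Set G)) = 48) ∨
    Nonempty (D.Prod t) := by
  classical
  haveI : Fact (Nat.Prime 2) := ⟨Nat.prime_two⟩
  rcases twist_or_small ht with ⟨h1, h2⟩ | ⟨g, hg⟩
  · exact Or.inl ⟨h1, Or.inl h2⟩
  obtain ⟨i, hi, hu, hq⟩ := ht.exists_u
  obtain ⟨B, hBC, hBnorm, hgB, hWB, hBV, hBE, hCTcard⟩ := hg.exists_B ht hi hu hq
  set W := four D.hQ (D.u_mem i) with hWdef
  set CT := centralizer ({t} : Set G) with hCT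
  obtain ⟨T, hTP⟩ := E_sylow ht
  set V := hg.fixed with hVdef
  have hWE : W ≤ D.E t := four_le_E ht hu
  have hWz : ∀ w ∈ W, w ≠ 1 → IsConj D.z w := fun w hw h => four_isConj i hw h
  have hEC : D.E t ≤ CT := E_le_C t
  have hmemCT : ∀ x, x ∈ CT ↔ x * t = t * x := fun x => mem_centralizer_singleton_iff
  have hgnorm := hg.norm
  have hgz := hg.moves
  have hgE := hg.notE
  have hg3 := hg.pow3
  have hg3fix := hg.cube
  have hgW := hg.W_conj ht hi hu
  have hVcard := hg.fixed_card ht hi hu hq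
  have hVsq := hg.fixed_sq ht hu hq
  have htV := hg.fixed_t ht
  -- `B` has a self-centralizing four-group with one class of involutions
  set WB : Subgroup B := W.subgroupOf B with hWBdef
  have hWBcard : Nat.card WB = 4 := by
    rw [Nat.card_congr (subgroupOfEquivOfLe (show W ≤ B from hWB)).toEquiv, hWdef, card_four]
  have hWsq : ∀ w ∈ W, w * w = 1 := by
    rintro w (rfl | rfl | rfl | rfl)
    · exact one_mul 1
    · exact D.z2
    · exact D.u_sq i
    · exact (mul_mem_invSet D.hQ (D.u_mem i)).2.1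
  have hcen : ∀ w ∈ WB, w ≠ 1 → ∀ b : B, b * w = w * b → b ∈ WB := by
    intro w hw hw1 b hb
    refine mem_subgroupOf.2 (hBE b b.2 ?_)
    exact ht.cent_z_conj (hWE (mem_subgroupOf.1 hw)) (hWz w (mem_subgroupOf.1 hw) fun h => hw1 (Subtype.ext h))
      (congrArg Subtype.val hb) ((hmemCT b).1 (hBC b.2))
  -- a Sylow subgroup of `B`
  have hinvol : ∀ x : B, orderOf x = 2 → ∃ c : B, ((c * x * c⁻¹ : B) : G) = D.z := by
    intro x hx
    obtain ⟨S, hS⟩ := ((IsPGroup.of_card (p := 2) (n := 2) (by rw [hWBcard]; rfl)) :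
      IsPGroup 2 WB).exists_le_sylow
    have hSW : (S : Subgroup B) = WB := by
      refine (Subgroup.eq_of_le_of_card_ge hS ?_).symm
      obtain ⟨R, hR⟩ := ((S.isPGroup'.map B.subtype).comap_of_injective CT.subtype
        CT.subtype_injective).exists_le_sylow
      obtain ⟨c, hc⟩ := MulAction.exists_smul_eq CT R T
      have hle : ∀ s ∈ (S : Subgroup B), (c : G) * s * (c : G)⁻¹ ∈ W := by
        intro s hs
        have hsR : (⟨s, hBC s.2⟩ : CT) ∈ (R : Subgroup CT) := hR ⟨s, hs, rfl⟩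
        have hm : MulAut.conj c (⟨s, hBC s.2⟩ : CT) ∈ MulAut.conj c • (R : Subgroup CT) :=
          Subgroup.smul_mem_pointwise_smul _ (MulAut.conj c) _ hsR
        rw [← Sylow.coe_subgroup_smul, hc, hTP] at hm
        exact hBE _ (hBnorm c c.2 s s.2) (mem_subgroupOf.1 hm)
      rw [hWBcard, ← card_four D.hQ (D.u_mem i)]
      exact Nat.card_le_card_of_injective (fun s : (S : Subgroup B) => (⟨_, hle s s.2⟩ : W)) fun a b h =>
        Subtype.ext (Subtype.ext ((MulAut.conj (c : G)).injective (congrArg Subtype.val h)))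
    obtain ⟨R, hR⟩ := (IsPGroup.of_card (p := 2) (n := 1) (G := zpowers x) (by
      rw [Nat.card_zpowers, hx, pow_one])).exists_le_sylow
    obtain ⟨b, hb⟩ := MulAction.exists_smul_eq B R S
    have hm : b * x * b⁻¹ ∈ WB := by
      have := Subgroup.smul_mem_pointwise_smul x (MulAut.conj b) _ (hR (mem_zpowers x))
      rw [← Sylow.coe_subgroup_smul, hb, hSW] at this
      exact this
    have hne : ((b * x * b⁻¹ : B) : G) ≠ 1 := fun e => by
      rw [OneMemClass.coe_eq_one, conj_eq_one_iff] at e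
      simp [e] at hx
    have hW4 := hg.W_eq ht hi hu
    rcases hW4 _ (mem_subgroupOf.1 hm) hne with h | h | h
    · exact ⟨b, h⟩
    · refine ⟨⟨g, hgB⟩⁻¹ * b, ?_⟩
      simp only [Subgroup.coe_mul, Subgroup.coe_inv] at h ⊢
      calc g⁻¹ * b * x * (g⁻¹ * b)⁻¹ = g⁻¹ * ((b : G) * x * (b : G)⁻¹) * g := by group
        _ = D.z := by rw [h]; group
    · refine ⟨⟨g, hgB⟩⁻¹ * ⟨g, hgB⟩⁻¹ * b, ?_⟩
      simp only [Subgroup.coe_mul, Subgroup.coe_inv] at h ⊢
      calc g⁻¹ * g⁻¹ * ↑b * ↑x * (g⁻¹ * g⁻¹ * ↑b)⁻¹ = g⁻¹ * (g⁻¹ * ((b : G) * x * (b : G)⁻¹) * g) * g := by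
            simp only [mul_inv_rev, inv_inv, mul_assoc]
        _ = D.z := by rw [h]; group
  have hzBm : D.z ∈ B := hWB _ (Or.inr (Or.inl rfl))
  have hconjB : ∀ x y : B, orderOf x = 2 → orderOf y = 2 → IsConj x y := by
    intro x y hx hy
    obtain ⟨a, ha⟩ := hinvol x hx
    obtain ⟨b, hb⟩ := hinvol y hy
    exact (isConj_iff.2 ⟨a, rfl⟩ : IsConj x _).trans
      ((Subtype.ext (ha.trans hb.symm) : a * x * a⁻¹ = b * y * b⁻¹) ▸ (isConj_iff.2 ⟨b, rfl⟩ : IsConj y _).symm)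
  rcases card_cases WB hWBcard (fun w hw => Subtype.ext (hWsq _ (mem_subgroupOf.1 hw))) hcen hconjB with
    ⟨h12, hWn⟩ | ⟨h60, hiso⟩
  · -- `W`, hence `E`, is normal
    left
    refine ⟨fun n hn e he => ?_, Or.inr (by rw [hCTcard, h12])⟩
    have hnCT : n ∈ CT := (hmemCT n).2 hn
    have hnzW : n * D.z * n⁻¹ ∈ W := by
      have hb : n * D.z * n⁻¹ ∈ B := hBnorm n hnCT _ hzBm
      obtain ⟨c, hc⟩ := hinvol ⟨_, hb⟩ (by
        rw [Subgroup.orderOf_mk]; exact (MulEquiv.orderOf_eq (MulAut.conj n) D.z).trans D.z_ord)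
      have hzW' : (⟨D.z, hzBm⟩ : B) ∈ WB := mem_subgroupOf.2 (Or.inr (Or.inl rfl))
      have : (⟨_, hb⟩ : B) = c⁻¹ * ⟨D.z, hzBm⟩ * c := by
        rw [← (Subtype.ext hc : c * ⟨_, hb⟩ * c⁻¹ = ⟨D.z, hzBm⟩)]; group
      have h2 := hWn.conj_mem _ hzW' c⁻¹
      rw [inv_inv, ← this] at h2
      exact mem_subgroupOf.1 h2
    refine ht.cent_z_conj (hWE hnzW) (isConj_iff.2 ⟨n, rfl⟩) ?_ ?_
    · rw [conj_mul, conj_mul, (mem_E.1 he).1]
    · calc n * e * n⁻¹ * t = n * e * (n⁻¹ * t) := by group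
        _ = n * (e * t) * n⁻¹ := by
          rw [show n⁻¹ * t = t * n⁻¹ from (Commute.inv_left hn).eq]; group
        _ = t * (n * e * n⁻¹) := by rw [(mem_E.1 he).2, ← mul_assoc, hn]; group
  · right
    obtain ⟨eB⟩ := hiso
    -- `V` centralises `B`
    have hcommVB : ∀ v ∈ V, ∀ b ∈ B, v * b = b * v := by
      intro v hv b hb
      let θ : B →* B :=
        { toFun := fun x => ⟨v * x * v⁻¹, hBnorm v (hEC hv.1) x x.2⟩
          map_one' := Subtype.ext (show v * (1 : G) * v⁻¹ = 1 by rw [mul_one, mul_inv_cancel])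
          map_mul' := fun x y => Subtype.ext (show v * ((x : G) * y) * v⁻¹ = v * x * v⁻¹ * (v * y * v⁻¹) by group) }
      let θ' : Alt5.A5 →* Alt5.A5 := eB.toMonoidHom.comp (θ.comp eB.symm.toMonoidHom)
      set a := eB ⟨D.z, hzBm⟩
      set c := eB ⟨g, hgB⟩
      have hθa : θ' a = a := by
        show eB (θ (eB.symm a)) = a
        rw [MulEquiv.symm_apply_apply]
        refine congrArg eB (Subtype.ext ?_)
        show v * D.z * v⁻¹ = D.z
        rw [(mem_E.1 hv.1).1, mul_inv_cancel_right]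
      have hθc : θ' c = c := by
        show eB (θ (eB.symm c)) = c
        rw [MulEquiv.symm_apply_apply]
        refine congrArg eB (Subtype.ext ?_)
        show v * g * v⁻¹ = g
        exact mul_inv_eq_iff_eq_mul.2 (mul_inv_eq_iff_eq_mul.1 hv.2).symm
      have hzg : D.z * (g * D.z * g⁻¹) = g * D.z * g⁻¹ * D.z :=
        ht.E_comm _ (z_mem_E ht) _ (hgnorm _ (z_mem_E ht))
      have hid := Alt5.aut_fixing_alt4 θ' (a := a) (c := c)
        (by rw [← map_mul, ← map_one eB]; exact congrArg eB (Subtype.ext D.z2))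
        (fun e => D.hQ.zne (congrArg Subtype.val (eB.injective (e.trans (map_one eB).symm))))
        (by
          rw [← map_mul, ← map_mul, ← map_one eB]
          refine congrArg eB (Subtype.ext ?_)
          show g * g * g = 1
          rw [← hg3]; simp only [pow_succ, pow_zero, one_mul])
        (fun e => hgE (by
          have e' : g = 1 := congrArg Subtype.val (eB.injective (e.trans (map_one eB).symm))
          rw [e']; exact one_mem _))
        (by
          rw [← map_inv, ← map_mul, ← map_mul, ← map_mul, ← map_mul]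
          exact congrArg eB (Subtype.ext hzg))
        (fun e => hgz (by
          rw [← map_inv, ← map_mul, ← map_mul] at e
          exact congrArg Subtype.val (eB.injective e)))
        hθa hθc (eB ⟨b, hb⟩)
      have : θ ⟨b, hb⟩ = ⟨b, hb⟩ := eB.injective (by
        have e : θ' (eB ⟨b, hb⟩) = eB (θ ⟨b, hb⟩) := by
          show eB (θ (eB.symm (eB ⟨b, hb⟩))) = _
          rw [MulEquiv.symm_apply_apply]
        rw [← e]; exact hid)
      exact mul_inv_eq_iff_eq_mul.1 (congrArg Subtype.val this)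
    refine ⟨{ V := V, B := B, hVC := fun v hv => hEC hv.1, hBC := hBC, cardV := hVcard, sqV := hVsq, tV := htV,
              VE := fun v hv => hv.1, comm := hcommVB, disj := ?_, cardC := by rw [hCTcard, h60],
              iso := ⟨eB⟩, zB := hzBm, classB := ?_, classOut := ?_, g := g, gB := hgB, g3 := hg3,
              gnorm := hgnorm, gz := hgz, vFix := fun e => Iff.rfl }⟩
    · exact (eq_bot_iff_forall _).2 fun x hx => hBV x hx.1 hx.2
    · intro x hx hx2
      obtain ⟨c, hc⟩ := hinvol ⟨x, hx⟩ (by rw [Subgroup.orderOf_mk]; exact hx2)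
      exact (isConj_iff.2 ⟨(c : G), hc⟩ : IsConj x D.z).symm
    · intro x hxC hx2 hxB
      rcases D.classes ht hx2 with h | h
      · exfalso
        obtain ⟨R, hR⟩ := (IsPGroup.of_card (p := 2) (n := 1) (G := zpowers (⟨x, hxC⟩ : CT)) (by
          rw [Nat.card_zpowers, Subgroup.orderOf_mk, hx2, pow_one])).exists_le_sylow
        obtain ⟨c, hc⟩ := MulAction.exists_smul_eq CT R T
        have hm : MulAut.conj c (⟨x, hxC⟩ : CT) ∈ MulAut.conj c • (R : Subgroup CT) :=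
          Subgroup.smul_mem_pointwise_smul _ (MulAut.conj c) _ (hR (mem_zpowers _))
        rw [← Sylow.coe_subgroup_smul, hc, hTP] at hm
        have hmE : (c : G) * x * (c : G)⁻¹ ∈ D.E t := mem_subgroupOf.1 hm
        have hmW : (c : G) * x * (c : G)⁻¹ ∈ W :=
          ht.z_class_E hi hmE (h.trans (isConj_iff.2 ⟨c, rfl⟩))
        apply hxB
        have := hBnorm (c : G)⁻¹ (inv_mem c.2) _ (hWB _ hmW)
        simpa [mul_assoc] using this
      · exact h

end Data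

end Cfsg.Agent.JTwoType
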