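import Cfsg.Agent.Lib.JTwoType.Pair

/-!
# Groups of Hall-Janko type: an element of order three cycling `V`

* `Data.exists_cycle`: some element `k` of order three normalises `V`, permutes its involutions
  cyclically, and centralises `B`
-/

set_option autoImplicit false
set_option linter.unusedSectionVars false
set_option linter.style.haveILetI false
set_option maxHeartbeats 800000

namespace Cfsg.Agent.JTwoType

open Cfsg Subgroup OrderJTwo
open scoped commutatorElement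

variable {G : Type*} [Group G] [Finite G]

namespace Alt5

theorem exists_rot : ∀ σ : A5, σ * σ = 1 → σ ≠ 1 →
    ∃ ρ : A5, ρ * ρ * ρ = 1 ∧ ρ * σ * ρ⁻¹ ≠ σ ∧ (ρ * σ * ρ⁻¹) * σ = σ * (ρ * σ * ρ⁻¹) := by decide +kernel

set_option synthInstance.maxSize 1024 in
set_option synthInstance.maxHeartbeats 200000 in
theorem rot_moves : ∀ σ : A5, σ * σ = 1 → σ ≠ 1 → ∀ ρ : A5, ρ * ρ * ρ = 1 → ρ * σ * ρ⁻¹ ≠ σ →
    (ρ * σ * ρ⁻¹) * σ = σ * (ρ * σ * ρ⁻¹) →
    ∀ τ : A5, τ * σ = σ * τ → τ ≠ 1 → ρ * τ * ρ⁻¹ ≠ τ := by decide +kernel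

theorem klein : ∀ a : A5, a * a = 1 → a ≠ 1 → ∀ b : A5, b * b = 1 → b ≠ 1 → b ≠ a → b * a = a * b →
    ∀ x : A5, x * a = a * x → x = 1 ∨ x = a ∨ x = b ∨ x = a * b := by decide +kernel

set_option synthInstance.maxSize 1024 in
set_option synthInstance.maxHeartbeats 200000 in
theorem adjust : ∀ a : A5, a * a = 1 → a ≠ 1 → ∀ c : A5, c * c * c = 1 → c ≠ 1 → c * a * c⁻¹ ≠ a →
    (c * a * c⁻¹) * a = a * (c * a * c⁻¹) → ∀ c' : A5, c' * a * c'⁻¹ = c * a * c⁻¹ → c' * c' * c' = 1 →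
    ∃ d : A5, d * a = a * d ∧ d * c' * d⁻¹ = c := by decide +kernel

end Alt5

namespace Data

variable {D : Data G}

theorem Outer.lift_E {t : G} (ht : D.Outer t) (τ : Alt5.A5)
    (hτ : τ * D.psi ⟨t, D.mem_C.2 ht.comm⟩ = D.psi ⟨t, D.mem_C.2 ht.comm⟩ * τ) :
    ∃ e, ∃ he : e ∈ D.E t, D.psi ⟨e, D.mem_C.2 (mem_E.1 he).1⟩ = τ := by
  obtain ⟨c, rfl⟩ := D.psi_surj τ
  have hc := D.mem_C.1 c.2
  obtain ⟨q, hqQ, hq'⟩ := (ht.conj hc).coset_conj ht (by
    have : (⟨(c : G) * t * (c : G)⁻¹, D.mem_C.2 (ht.conj hc).comm⟩ : centralizer ({D.z} : Set G)) =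
      c * ⟨t, D.mem_C.2 ht.comm⟩ * c⁻¹ := rfl
    rw [this, map_mul, map_mul, map_inv, hτ, mul_inv_cancel_right])
  have hmem : q * (c : G) ∈ D.E t := mem_E.2 ⟨D.mem_C.1 (mul_mem (D.le hqQ) c.2), by
    calc q * (c : G) * t = q * ((c : G) * t * (c : G)⁻¹) * q⁻¹ * (q * c) := by group
      _ = t * (q * c) := by rw [hq']⟩
  refine ⟨q * c, hmem, ?_⟩
  show D.psi (⟨q, D.le hqQ⟩ * c) = D.psi c
  rw [map_mul, (D.psi_ker _).2 hqQ, one_mul]

theorem Outer.E_sq {t : G} (ht : D.Outer t) {e : G} (he : e ∈ D.E t) : e * e = 1 := by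
  let P := pairOuter ht
  obtain ⟨v, hv, b, hb, rfl⟩ := P.decomp (E_le_C t he)
  obtain ⟨eB⟩ := P.iso
  have hzB : D.z ∈ P.B := P.mem_B_of_z (mem_centralizer_singleton_iff.2 ht.comm.symm) (IsConj.refl _)
  have hvz := (P.mem_V_iff.1 hv).2 D.z (P.hBC hzB)
  have hbz : b * D.z = D.z * b := by
    have h := (mem_E.1 he).1
    rw [mul_assoc, ← mul_assoc D.z, ← hvz, mul_assoc v D.z] at h
    exact mul_left_cancel h
  have hb2 : b * b = 1 := by
    have h := (Alt5.commuting (eB ⟨D.z, hzB⟩) (eB ⟨b, hb⟩)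
      (by rw [← map_mul, show (⟨D.z, hzB⟩ * ⟨D.z, hzB⟩ : P.B) = 1 from Subtype.ext D.z2, map_one])
      (fun e => D.hQ.zne (congrArg Subtype.val (eB.injective (e.trans (map_one eB).symm))))
      (by rw [← map_mul, ← map_mul]; exact congrArg eB (Subtype.ext hbz))).1
    rw [← map_mul, ← map_one eB] at h
    exact congrArg Subtype.val (eB.injective h)
  calc v * b * (v * b) = v * (b * v) * b := by group
    _ = v * v * (b * b) := by rw [← P.comm v hv b hb]; group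
    _ = 1 := by rw [P.sqV v hv, hb2, one_mul]

theorem Outer.outer_of_E {t : G} (ht : D.Outer t) {e : G} (he : e ∈ D.E t) (hn : e ∉ D.Q) : D.Outer e :=
  ⟨(mem_E.1 he).1, ht.E_sq he, hn⟩

theorem Outer.E_eq {t : G} (ht : D.Outer t) {e : G} (he : e ∈ D.E t) (heo : D.Outer e) : D.E e = D.E t := by
  refine (Subgroup.eq_of_le_of_card_ge (fun y hy => mem_E.2 ⟨(mem_E.1 hy).1, ht.E_comm y hy e he⟩) ?_).symm
  rw [heo.card_E, ht.card_E]

theorem Outer.V_le_E {t : G} (ht : D.Outer t) {a : G} (ha : a ∈ D.E t) (hao : D.Outer a) (P : D.Pair a)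
    {v : G} (hv : v ∈ P.V) : v ∈ D.E t ∧ (v ≠ 1 → D.Outer v) := by
  have hz : D.z ∈ centralizer ({a} : Set G) := mem_centralizer_singleton_iff.2 hao.comm.symm
  obtain ⟨h1, h2⟩ := P.mem_V_iff.1 hv
  have hvE : v ∈ D.E t := by
    rw [← ht.E_eq ha hao]
    exact mem_E.2 ⟨h2 _ hz, mem_centralizer_singleton_iff.1 h1⟩
  refine ⟨hvE, fun hv1 => ht.outer_of_E hvE fun hQ => ?_⟩
  obtain ⟨i, hi, -, hq⟩ := ht.exists_u
  exact P.V_notz hv hv1 (four_isConj i (hq v hvE hQ) hv1)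

variable (D)

/-- some element of order three centralising `z` fixes a class of `t` inside `E` without centralising it -/
theorem exists_fixed_part : ∃ a, D.Outer a ∧ ∃ h, h * D.z = D.z * h ∧ h ^ 3 = 1 ∧ h * a * h⁻¹ ≠ a ∧
    centralizer ({h * a * h⁻¹} : Set G) = centralizer ({a} : Set G) := by
  classical
  haveI := Fintype.ofFinite G
  obtain ⟨t, ht, -⟩ := D.exists_outer
  set σ := D.psi ⟨t, D.mem_C.2 ht.comm⟩ with hσ
  obtain ⟨hσ2, hσ1⟩ := ht.psi_sq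
  obtain ⟨ρ, hρ3, hρne, hρc⟩ := Alt5.exists_rot σ hσ2 hσ1
  obtain ⟨e, he, hepsi⟩ := ht.lift_E (ρ * σ * ρ⁻¹) hρc
  have heQ : e ∉ D.Q := fun h => hσ1 (conj_eq_one_iff.1 (hepsi ▸ (D.psi_ker _).2 h))
  have heo := ht.outer_of_E he heQ
  obtain ⟨g, hg⟩ := D.psi_surj ρ
  have hgz := D.mem_C.1 g.2
  obtain ⟨q, hq, hqe⟩ := (ht.conj hgz).coset_conj heo (by
    rw [hepsi, ← hg, hσ, ← map_inv, ← map_mul, ← map_mul]; rfl)
  set h0 : centralizer ({D.z} : Set G) := ⟨q, D.le hq⟩ * g with hh0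
  have hpsi0 : D.psi h0 = ρ := by rw [hh0, map_mul, (D.psi_ker _).2 hq, one_mul, hg]
  have h0t : (h0 : G) * t * (h0 : G)⁻¹ = e := by
    rw [hh0, Subgroup.coe_mul, ← hqe]; group
  have h0E : ∀ y ∈ D.E t, (h0 : G) * y * (h0 : G)⁻¹ ∈ D.E t := by
    intro y hy
    rw [← ht.E_eq he heo]
    refine mem_E.2 ⟨?_, ?_⟩
    · exact D.mem_C.1 (mul_mem (mul_mem h0.2 (D.mem_C.2 (mem_E.1 hy).1)) (inv_mem h0.2))
    · rw [← h0t, conj_mul, conj_mul, (mem_E.1 hy).2]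
  have hQ4 : ∀ q ∈ D.Q, q ^ 4 = 1 := fun q hq => by
    rw [show 4 = 2 * 2 from rfl, pow_mul, pow_two, pow_two]
    rcases D.hQ.sq q hq with h | h <;> rw [h]
    · exact one_mul 1
    · exact D.z2
  set hc : centralizer ({D.z} : Set G) := h0 ^ 4 with hhc
  set h : G := (hc : G) with hhdef
  have hh3 : h ^ 3 = 1 := by
    have hm : ((h0 ^ 3 : centralizer ({D.z} : Set G)) : G) ∈ D.Q :=
      (D.psi_ker _).1 (by rw [map_pow, hpsi0, pow_succ, pow_two]; exact hρ3)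
    rw [hhdef, hhc, Subgroup.coe_pow, ← pow_mul, show 4 * 3 = 3 * 4 from rfl, pow_mul, ← Subgroup.coe_pow]
    exact hQ4 _ hm
  have hpsih : D.psi hc = ρ := by
    rw [hhc, map_pow, hpsi0, pow_succ, show ρ ^ 3 = 1 by rw [pow_succ, pow_two]; exact hρ3, one_mul]
  have hhE : ∀ y ∈ D.E t, h * y * h⁻¹ ∈ D.E t := by
    intro y hy
    have e4 : h * y * h⁻¹ = (h0 : G) * ((h0 : G) * ((h0 : G) * ((h0 : G) * y * (h0 : G)⁻¹) * (h0 : G)⁻¹) *
        (h0 : G)⁻¹) * (h0 : G)⁻¹ := by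
      rw [hhdef, hhc, Subgroup.coe_pow]
      simp only [pow_succ, pow_zero, one_mul, mul_inv_rev, mul_assoc]
    rw [e4]; exact h0E _ (h0E _ (h0E _ (h0E _ hy)))
  have hmove : ∀ a ∈ D.E t, ∀ hao : D.Outer a, h * a * h⁻¹ ≠ a := by
    intro a ha hao heq
    refine Alt5.rot_moves σ hσ2 hσ1 ρ hρ3 hρne hρc (D.psi ⟨a, D.mem_C.2 hao.comm⟩) ?_ hao.psi_sq.2 ?_
    · rw [hσ, ← map_mul, ← map_mul]; exact congrArg D.psi (Subtype.ext (mem_E.1 ha).2)
    · rw [← hpsih, ← map_inv, ← map_mul, ← map_mul]; exact congrArg D.psi (Subtype.ext heq)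
  let A : Finset G := Finset.univ.filter fun x => x ∈ D.E t ∧ x ∉ D.Q
  have hA : A.card = 12 := by
    obtain ⟨i, -, hu, hqW⟩ := ht.exists_u
    have e1 : (A : Set G) = (D.E t : Set G) \ (four D.hQ (D.u_mem i) : Set G) := by
      ext x
      simp only [A, Finset.coe_filter, Finset.mem_univ, true_and, Set.mem_ofPred_eq, Set.mem_sdiff, SetLike.mem_coe]
      exact ⟨fun hx => ⟨hx.1, fun hW => hx.2 (four_le_Q i hW)⟩, fun hx => ⟨hx.1, fun hQ => hx.2 (hqW x hx.1 hQ)⟩⟩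
    rw [← Set.ncard_coe_finset, e1, Set.ncard_sdiff (fun x hx => four_le_E ht hu hx) (Set.toFinite _),
      ← Nat.card_coe_set_eq, ← Nat.card_coe_set_eq, SetLike.coe_sort_coe, SetLike.coe_sort_coe, ht.card_E, card_four]
  have hAmem : ∀ x, x ∈ A ↔ x ∈ D.E t ∧ D.Outer x := fun x => by
    simp only [A, Finset.mem_filter, Finset.mem_univ, true_and]
    exact ⟨fun hx => ⟨hx.1, ht.outer_of_E hx.1 hx.2⟩, fun hx => ⟨hx.1, hx.2.out⟩⟩
  let F : G → Subgroup G := fun x => centralizer ({x} : Set G)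
  have hfib : ∀ H ∈ A.image F, (A.filter fun x => F x = H).card = 3 := by
    intro H hH
    obtain ⟨a, ha, rfl⟩ := Finset.mem_image.1 hH
    obtain ⟨haE, hao⟩ := (hAmem a).1 ha
    let P := pairOuter hao
    have e1 : ((A.filter fun x => F x = F a : Finset G) : Set G) = (P.V : Set G) \ {1} := by
      ext x
      simp only [Finset.coe_filter, Set.mem_ofPred_eq, Set.mem_sdiff, Set.mem_singleton_iff, SetLike.mem_coe]
      constructor
      · rintro ⟨hx, hF⟩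
        obtain ⟨-, hxo⟩ := (hAmem x).1 hx
        exact ⟨P.V_unique (pairOuter hxo) hF ▸ (pairOuter hxo).aV, fun e => hxo.out (e ▸ one_mem _)⟩
      · rintro ⟨hx, hx1⟩
        obtain ⟨hxE, hxo⟩ := ht.V_le_E haE hao P hx
        exact ⟨(hAmem x).2 ⟨hxE, hxo hx1⟩, P.cent_V hx hx1⟩
    rw [← Set.ncard_coe_finset, e1, Set.ncard_sdiff (Set.singleton_subset_iff.2 (one_mem P.V)) (Set.toFinite _),
      ← Nat.card_coe_set_eq, SetLike.coe_sort_coe, P.cardV, Set.ncard_singleton]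
  have hX : (A.image F).card = 4 := by
    have := Finset.card_eq_sum_card_image F A
    rw [Finset.sum_congr rfl hfib, Finset.sum_const, smul_eq_mul, hA] at this
    omega
  let X := {H : Subgroup G // H ∈ A.image F}
  have hstep : ∀ H : X, H.1.map (MulAut.conj h).toMonoidHom ∈ A.image F := by
    rintro ⟨H, hH⟩
    obtain ⟨a, ha, rfl⟩ := Finset.mem_image.1 hH
    obtain ⟨haE, hao⟩ := (hAmem a).1 ha
    exact Finset.mem_image.2 ⟨h * a * h⁻¹, (hAmem _).2 ⟨hhE a haE, hao.conj (D.mem_C.1 hc.2)⟩, cent_conj h a⟩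
  let f : X → X := fun H => ⟨_, hstep H⟩
  have hf3 : ∀ H : X, f (f (f H)) = H := fun H => Subtype.ext (by
    show ((H.1.map _).map _).map _ = H.1
    rw [Subgroup.map_map, Subgroup.map_map]
    convert Subgroup.map_id H.1 using 2
    refine MonoidHom.ext fun x => ?_
    show h * (h * (h * x * h⁻¹) * h⁻¹) * h⁻¹ = x
    have e3 : h * (h * (h * x * h⁻¹) * h⁻¹) * h⁻¹ = h ^ 3 * x * (h ^ 3)⁻¹ := by
      simp only [pow_succ, pow_zero, one_mul, mul_inv_rev, mul_assoc]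
    rw [e3, hh3, one_mul, inv_one, mul_one])
  let π : Equiv.Perm X := ⟨f, f ∘ f, fun H => hf3 H, fun H => hf3 H⟩
  haveI : Fact (Nat.Prime 3) := ⟨Nat.prime_three⟩
  obtain ⟨⟨H, hH⟩, hfix⟩ := Equiv.Perm.exists_fixed_point_of_prime (p := 3) (n := 1) (σ := π)
    (by rw [Fintype.card_coe, hX]; norm_num)
    (Equiv.ext fun H => by
      show (π ^ 3) H = H
      simp only [pow_succ, pow_zero, one_mul, Equiv.Perm.mul_apply]
      exact hf3 H)
  obtain ⟨a, ha, rfl⟩ := Finset.mem_image.1 hH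
  obtain ⟨haE, hao⟩ := (hAmem a).1 ha
  exact ⟨a, hao, h, D.mem_C.1 hc.2, hh3, hmove a haE hao, (cent_conj h a).trans (congrArg Subtype.val hfix)⟩

variable {D}

theorem conj_cent_three {a k : G} (hk : k ^ 3 = 1)
    (hC : centralizer ({k * a * k⁻¹} : Set G) = centralizer ({a} : Set G)) {x : G}
    (hx : x ∈ centralizer ({a} : Set G)) :
    k * x * k⁻¹ ∈ centralizer ({a} : Set G) ∧ k⁻¹ * x * k ∈ centralizer ({a} : Set G) := by
  have h1 : ∀ y ∈ centralizer ({a} : Set G), k * y * k⁻¹ ∈ centralizer ({a} : Set G) := fun y hy => by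
    rw [← hC, mem_centralizer_singleton_iff, conj_mul, conj_mul, mem_centralizer_singleton_iff.1 hy]
  have e2 : k⁻¹ * x * k = k * (k * x * k⁻¹) * k⁻¹ := by
    have hki : k⁻¹ = k * k := inv_eq_of_mul_eq_one_right (by rw [← hk, pow_succ, pow_two, mul_assoc])
    calc k⁻¹ * x * k = k * k * x * k := by rw [hki]
      _ = k * (k * x * k⁻¹) * (k * k) := by group
      _ = k * (k * x * k⁻¹) * k⁻¹ := by rw [← hki]
  exact ⟨h1 x hx, e2 ▸ h1 _ (h1 x hx)⟩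

/-- An element of order three cycling `V`. -/
structure Cyc {t : G} (P : D.Pair t) (k : G) : Prop where
  k3 : k ^ 3 = 1
  normV : ∀ v ∈ P.V, k * v * k⁻¹ ∈ P.V
  centB : ∀ b ∈ P.B, k * b = b * k
  moves : k * t * k⁻¹ ≠ t

theorem exists_cycle {t : G} (ht : D.Outer t) : ∃ k, Cyc (pairOuter ht) k := by
  obtain ⟨a, hao, h, hhz, hh3, hha, hhC⟩ := D.exists_fixed_part
  obtain ⟨c, hcz, hct⟩ := hao.conj_all ht
  set P := pairOuter ht with hP
  let PR := D.prod ht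
  set k0 : G := c * h * c⁻¹ with hk0
  have hk03 : k0 ^ 3 = 1 := by rw [hk0, conj_pow, hh3, mul_one, mul_inv_cancel]
  have hk0t : k0 * t * k0⁻¹ = c * (h * a * h⁻¹) * c⁻¹ := by rw [hk0, ← hct]; group
  have hk0C : centralizer ({k0 * t * k0⁻¹} : Set G) = centralizer ({t} : Set G) := by
    rw [hk0t, cent_conj c, hhC, ← cent_conj, hct]
  have hk0z : k0 * D.z = D.z * k0 := by
    rw [hk0]
    have hci : c⁻¹ * D.z = D.z * c⁻¹ := ((show Commute c D.z from hcz).inv_left).eq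
    calc c * h * c⁻¹ * D.z = c * h * (D.z * c⁻¹) := by rw [← hci]; group
      _ = c * (D.z * h) * c⁻¹ := by rw [← hhz]; group
      _ = D.z * (c * h * c⁻¹) := by rw [← mul_assoc c, hcz]; group
  have hk0ne : k0 * t * k0⁻¹ ≠ t := fun e => hha (by
    rw [hk0t, ← hct] at e
    exact (MulAut.conj c).injective e)
  have hC := fun x (hx : x ∈ centralizer ({t} : Set G)) => conj_cent_three hk03 hk0C hx
  have hV0 : ∀ v ∈ P.V, k0 * v * k0⁻¹ ∈ P.V := fun v hv =>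
    P.conj_V (fun x hx => (hC x hx).1) (fun x hx => (hC x hx).2) hv
  have hB0 : ∀ x ∈ P.B, k0 * x * k0⁻¹ ∈ P.B := fun x hx => P.conj_B (fun y hy => (hC y hy).1) hx
  obtain ⟨eB⟩ := P.iso
  have hzB : D.z ∈ P.B := PR.zB
  have hgB : PR.g ∈ P.B := PR.gB
  let θ : P.B →* P.B :=
    { toFun := fun x => ⟨k0 * x * k0⁻¹, hB0 x x.2⟩
      map_one' := Subtype.ext (show k0 * (1 : G) * k0⁻¹ = 1 by rw [mul_one, mul_inv_cancel])
      map_mul' := fun x y =>
        Subtype.ext (show k0 * ((x : G) * y) * k0⁻¹ = k0 * x * k0⁻¹ * (k0 * y * k0⁻¹) by group) }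
  have hθz : θ ⟨D.z, hzB⟩ = ⟨D.z, hzB⟩ := Subtype.ext (show k0 * D.z * k0⁻¹ = D.z by rw [hk0z, mul_inv_cancel_right])
  have hθ3 : ∀ x, θ (θ (θ x)) = x := fun x => Subtype.ext (by
    show k0 * (k0 * (k0 * (x : G) * k0⁻¹) * k0⁻¹) * k0⁻¹ = x
    have e3 : k0 * (k0 * (k0 * (x : G) * k0⁻¹) * k0⁻¹) * k0⁻¹ = k0 ^ 3 * x * (k0 ^ 3)⁻¹ := by
      simp only [pow_succ, pow_zero, one_mul, mul_inv_rev, mul_assoc]
    rw [e3, hk03, one_mul, inv_one, mul_one])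
  let θ' : Alt5.A5 →* Alt5.A5 := eB.toMonoidHom.comp (θ.comp eB.symm.toMonoidHom)
  set a5 := eB ⟨D.z, hzB⟩ with ha5
  set c5 := eB ⟨PR.g, hgB⟩ with hc5
  have hθ'a : θ' a5 = a5 := by
    show eB (θ (eB.symm a5)) = a5
    rw [ha5, MulEquiv.symm_apply_apply, hθz]
  have ha2 : a5 * a5 = 1 := by
    rw [← map_mul, show (⟨D.z, hzB⟩ * ⟨D.z, hzB⟩ : P.B) = 1 from Subtype.ext D.z2, map_one]
  have ha1 : a5 ≠ 1 := fun e => D.hQ.zne (congrArg Subtype.val (eB.injective (e.trans (map_one eB).symm)))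
  have hc3 : c5 * c5 * c5 = 1 := by
    rw [← map_mul, ← map_mul, show (⟨PR.g, hgB⟩ * ⟨PR.g, hgB⟩ * ⟨PR.g, hgB⟩ : P.B) = 1 from Subtype.ext (by
      show PR.g * PR.g * PR.g = 1
      rw [← PR.g3]; simp only [pow_succ, pow_zero, one_mul]), map_one]
  have hc1 : c5 ≠ 1 := fun e => PR.gz (by
    have e' : PR.g = 1 := congrArg Subtype.val (eB.injective (e.trans (map_one eB).symm))
    rw [e', one_mul, inv_one, mul_one])
  have hcne : c5 * a5 * c5⁻¹ ≠ a5 := fun e => PR.gz (by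
    rw [← map_inv, ← map_mul, ← map_mul] at e
    exact congrArg Subtype.val (eB.injective e))
  have hccomm : (c5 * a5 * c5⁻¹) * a5 = a5 * (c5 * a5 * c5⁻¹) := by
    rw [← map_inv, ← map_mul, ← map_mul, ← map_mul, ← map_mul]
    exact congrArg eB (Subtype.ext (ht.E_comm _ (PR.gnorm _ (z_mem_E ht)) _ (z_mem_E ht)))
  -- `θ` fixes the image of the four-group
  set b5 := c5 * a5 * c5⁻¹ with hb5
  have hb2 : b5 * b5 = 1 := by rw [hb5, conj_mul, ha2, mul_one, mul_inv_cancel]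
  have hb1 : b5 ≠ 1 := fun e => ha1 (conj_eq_one_iff.1 e)
  have hθb : θ' b5 = b5 := by
    have hcm : θ' b5 * a5 = a5 * θ' b5 := by rw [← hθ'a, ← map_mul, ← map_mul, hccomm]
    have h3 : θ' (θ' (θ' b5)) = b5 := by
      show eB (θ (eB.symm (eB (θ (eB.symm (eB (θ (eB.symm b5)))))))) = b5
      rw [MulEquiv.symm_apply_apply, MulEquiv.symm_apply_apply, hθ3, MulEquiv.apply_symm_apply]
    rcases Alt5.klein a5 ha2 ha1 b5 hb2 hb1 hcne hccomm _ hcm with e | e | e | e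
    · rw [e, map_one, map_one] at h3; exact absurd h3.symm hb1
    · rw [e, hθ'a, hθ'a] at h3; exact absurd h3.symm hcne
    · exact e
    · rw [e, map_mul, hθ'a, e, ← mul_assoc, ha2, one_mul, e] at h3
      exact absurd (mul_eq_right.1 h3) ha1
  obtain ⟨d5, hd5a, hd5⟩ := Alt5.adjust a5 ha2 ha1 c5 hc3 hc1 hcne hccomm (θ' c5)
    (by
      have := hθb
      rw [hb5, map_mul, map_mul, map_inv, hθ'a] at this
      exact this)
    (by rw [← map_mul, ← map_mul, hc3, map_one])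
  obtain ⟨⟨d, hdB⟩, hd⟩ := eB.surjective d5
  have hdz : d * D.z = D.z * d := by
    have := hd5a
    rw [← hd, ha5, ← map_mul, ← map_mul] at this
    exact congrArg Subtype.val (eB.injective this)
  set k1 : G := d * k0 with hk1
  have hk1z : k1 * D.z * k1⁻¹ = D.z := by
    rw [hk1, show d * k0 * D.z * (d * k0)⁻¹ = d * (k0 * D.z * k0⁻¹) * d⁻¹ by group, hk0z, mul_inv_cancel_right,
      hdz, mul_inv_cancel_right]
  have hk1g : k1 * PR.g * k1⁻¹ = PR.g := by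
    have := hd5
    rw [← hd, hc5] at this
    change eB ⟨d, hdB⟩ * eB (θ (eB.symm (eB ⟨PR.g, hgB⟩))) * (eB ⟨d, hdB⟩)⁻¹ = eB ⟨PR.g, hgB⟩ at this
    rw [MulEquiv.symm_apply_apply, ← map_inv, ← map_mul, ← map_mul] at this
    have h' : d * (k0 * PR.g * k0⁻¹) * d⁻¹ = PR.g := congrArg Subtype.val (eB.injective this)
    rw [hk1]
    exact (show d * k0 * PR.g * (d * k0)⁻¹ = d * (k0 * PR.g * k0⁻¹) * d⁻¹ by group).trans h'
  have hB1 : ∀ x ∈ P.B, k1 * x * k1⁻¹ ∈ P.B := fun x hx => by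
    rw [hk1, show d * k0 * x * (d * k0)⁻¹ = d * (k0 * x * k0⁻¹) * d⁻¹ by group]
    exact mul_mem (mul_mem hdB (hB0 x hx)) (inv_mem hdB)
  let θ1 : P.B →* P.B :=
    { toFun := fun x => ⟨k1 * x * k1⁻¹, hB1 x x.2⟩
      map_one' := Subtype.ext (show k1 * (1 : G) * k1⁻¹ = 1 by rw [mul_one, mul_inv_cancel])
      map_mul' := fun x y =>
        Subtype.ext (show k1 * ((x : G) * y) * k1⁻¹ = k1 * x * k1⁻¹ * (k1 * y * k1⁻¹) by group) }
  let θ1' : Alt5.A5 →* Alt5.A5 := eB.toMonoidHom.comp (θ1.comp eB.symm.toMonoidHom)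
  have hk1B : ∀ x ∈ P.B, k1 * x * k1⁻¹ = x := by
    intro x hx
    have h := Alt5.aut_fixing_alt4 θ1' (a := a5) (c := c5) ha2 ha1 hc3 hc1 hccomm.symm hcne
      (by
        show eB (θ1 (eB.symm a5)) = a5
        rw [ha5, MulEquiv.symm_apply_apply]; exact congrArg eB (Subtype.ext hk1z))
      (by
        show eB (θ1 (eB.symm c5)) = c5
        rw [hc5, MulEquiv.symm_apply_apply]; exact congrArg eB (Subtype.ext hk1g))
      (eB ⟨x, hx⟩)
    change eB (θ1 (eB.symm (eB ⟨x, hx⟩))) = eB ⟨x, hx⟩ at h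
    rw [MulEquiv.symm_apply_apply] at h
    exact congrArg Subtype.val (eB.injective h)
  have hk1v : ∀ v ∈ P.V, k1 * v * k1⁻¹ = k0 * v * k0⁻¹ := fun v hv => by
    rw [hk1, show d * k0 * v * (d * k0)⁻¹ = d * (k0 * v * k0⁻¹) * d⁻¹ by group,
      ← P.comm _ (hV0 v hv) d hdB, mul_inv_cancel_right]
  -- `k1 ^ 3 ∈ V`
  have hk13t : k1 ^ 3 ∈ centralizer ({t} : Set G) := mem_centralizer_singleton_iff.2 (mul_inv_eq_iff_eq_mul.1 (by
    have e1 : k1 ^ 3 * t * (k1 ^ 3)⁻¹ = k1 * (k1 * (k1 * t * k1⁻¹) * k1⁻¹) * k1⁻¹ := by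
      simp only [pow_succ, pow_zero, one_mul, mul_inv_rev, mul_assoc]
    have e0 : k0 * (k0 * (k0 * t * k0⁻¹) * k0⁻¹) * k0⁻¹ = k0 ^ 3 * t * (k0 ^ 3)⁻¹ := by
      simp only [pow_succ, pow_zero, one_mul, mul_inv_rev, mul_assoc]
    rw [e1, hk1v t P.aV, hk1v _ (hV0 t P.aV), hk1v _ (hV0 _ (hV0 t P.aV)), e0, hk03, one_mul, inv_one, mul_one]))
  have hk13V : k1 ^ 3 ∈ P.V := by
    obtain ⟨v, hv, b, hb, e⟩ := P.decomp hk13t
    have hb1 : b = 1 := P.centerB hb fun y hy => by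
      have h1 : Commute (k1 ^ 3) y := (show Commute k1 y from mul_inv_eq_iff_eq_mul.1 (hk1B y hy)).pow_left 3
      have h2 := h1.eq
      rw [e, mul_assoc, ← mul_assoc y, ← P.comm v hv y hy, mul_assoc v y] at h2
      exact mul_left_cancel h2
    rw [e, hb1, mul_one]; exact hv
  have hk4v : ∀ v ∈ P.V, k1 ^ 4 * v * (k1 ^ 4)⁻¹ = k0 * v * k0⁻¹ := fun v hv => by
    rw [pow_succ' k1 3, show k1 * k1 ^ 3 * v * (k1 * k1 ^ 3)⁻¹ = k1 * (k1 ^ 3 * v * (k1 ^ 3)⁻¹) * k1⁻¹ by group,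
      P.V_comm hk13V hv, mul_inv_cancel_right, hk1v v hv]
  refine ⟨k1 ^ 4, ⟨?_, fun v hv => hk4v v hv ▸ hV0 v hv, fun b hb => ?_, hk4v t P.aV ▸ hk0ne⟩⟩
  · rw [← pow_mul, show 4 * 3 = 3 * 4 from rfl, pow_mul, show 4 = 2 * 2 from rfl, pow_mul, pow_two (k1 ^ 3),
      P.sqV _ hk13V, one_pow]
  · exact ((show Commute k1 b from mul_inv_eq_iff_eq_mul.1 (hk1B b hb)).pow_left 4).eq

end Data

end Cfsg.Agent.JTwoType
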