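import Cfsg.Agent.Lib.JTwoType.SmallCent

/-!
# Groups of Hall-Janko type: centralisers of elements of order five

* `Cyc.card_cent_five`: `|C(x)| = 300` for `x ∈ B` of order five
* `Data.sylow5`: a Sylow 5-subgroup has order 25 and is its own centraliser
* `Data.exists_five_z`, `Data.card_cent_five_z`: an element of order five centralising `z`; its centraliser
  has order 50
-/

set_option autoImplicit false
set_option linter.unusedSectionVars false
set_option linter.style.haveILetI false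
set_option maxHeartbeats 800000

namespace Cfsg.Agent.JTwoType

open Cfsg Subgroup OrderJTwo
open scoped commutatorElement Pointwise

variable {G : Type*} [Group G] [Finite G]

namespace Alt5

theorem exists_five : ∃ σ : A5, σ ^ 5 = 1 ∧ σ ≠ 1 := by decide +kernel

theorem five_no_pair : ∀ σ : A5, σ ^ 5 = 1 → σ ≠ 1 → ∀ i j : Fin 5,
    (σ.1 i = i ∨ σ.1 i = j) → (σ.1 j = i ∨ σ.1 j = j) → False := by decide +kernel

end Alt5

theorem zpowers_eq_of_prime {H : Type*} [Group H] {a b : H} {p : ℕ} (hp : p.Prime) (ha : orderOf a = p)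
    (hb : b ∈ zpowers a) (hb1 : b ≠ 1) : zpowers b = zpowers a := by
  haveI : Finite (zpowers a) := Nat.finite_of_card_ne_zero (by rw [Nat.card_zpowers, ha]; exact hp.ne_zero)
  refine Subgroup.eq_of_le_of_card_ge (zpowers_le.2 hb) ?_
  have hd := Subgroup.orderOf_dvd_natCard _ hb
  rw [Nat.card_zpowers, ha] at hd
  rcases (Nat.dvd_prime hp).1 hd with e | e
  · exact absurd (orderOf_eq_one_iff.1 e) hb1
  · rw [Nat.card_zpowers, Nat.card_zpowers, ha, e]

theorem cent_of_mem_zpowers {a b : G} {p : ℕ} (hp : p.Prime) (ha : orderOf a = p)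
    (hb : b ∈ zpowers a) (hb1 : b ≠ 1) : centralizer ({b} : Set G) = centralizer ({a} : Set G) := by
  ext y
  simp only [mem_centralizer_singleton_iff]
  constructor
  · intro h
    obtain ⟨n, hn⟩ := mem_zpowers_iff.1
      ((zpowers_eq_of_prime hp ha hb hb1).ge (mem_zpowers a) : a ∈ zpowers b)
    rw [← hn]; exact ((show Commute y b from h).zpow_right n).eq
  · intro h
    obtain ⟨n, rfl⟩ := mem_zpowers_iff.1 hb
    exact ((show Commute y a from h).zpow_right n).eq

namespace Data

variable {D : Data G}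

theorem Pair.exists_five {t : G} (P : D.Pair t) : ∃ x ∈ P.B, orderOf x = 5 := by
  obtain ⟨e⟩ := P.iso
  obtain ⟨σ, h5, h1⟩ := Alt5.exists_five
  haveI : Fact (Nat.Prime 5) := ⟨Nat.prime_five⟩
  refine ⟨(e.symm σ : P.B), (e.symm σ).2, ?_⟩
  rw [Subgroup.orderOf_coe]
  refine orderOf_eq_prime (by rw [← map_pow, h5, map_one]) fun h => h1 ?_
  simpa using congrArg e h

variable (D)

include D in
theorem sylow5_card (S : Sylow 5 G) : Nat.card (S : Subgroup G) = 25 := by
  haveI : Fact (Nat.Prime 5) := ⟨Nat.prime_five⟩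
  obtain ⟨n, hn⟩ := IsPGroup.iff_card.1 S.isPGroup'
  have h := (S : Subgroup G).card_mul_index
  rw [hn, D.card_G] at h
  have hi := S.not_dvd_index
  have hle : 5 ^ n ∣ 604800 := ⟨_, h.symm⟩
  have h2 : n = 2 := by
    rcases Nat.lt_or_ge n 3 with hlt | hge
    · interval_cases n <;> omega
    · exact absurd ((Nat.pow_dvd_pow 5 hge).trans hle) (by norm_num)
  rw [hn, h2]; rfl

include D in
theorem sylow5_comm (S : Sylow 5 G) {a b : G} (ha : a ∈ (S : Subgroup G)) (hb : b ∈ (S : Subgroup G)) :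
    a * b = b * a := by
  haveI : Fact (Nat.Prime 5) := ⟨Nat.prime_five⟩
  haveI := IsPGroup.isMulCommutative_of_card_eq_prime_sq (G := (S : Subgroup G)) (p := 5) (D.sylow5_card S)
  exact congrArg Subtype.val (mul_comm' (⟨a, ha⟩ : (S : Subgroup G)) ⟨b, hb⟩)

include D in
theorem exists_sylow5 {y : G} (hy : orderOf y = 5) : ∃ S : Sylow 5 G, y ∈ (S : Subgroup G) := by
  obtain ⟨S, hS⟩ := (IsPGroup.of_card (p := 5) (n := 1) (G := zpowers y) (by
    rw [Nat.card_zpowers, hy, pow_one])).exists_le_sylow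
  exact ⟨S, hS (mem_zpowers y)⟩

variable {D}

namespace Cyc

variable {t : G} {P : D.Pair t} {k : G} (h : Cyc P k)

include h in
theorem card_cent_five {x : G} (hx : x ∈ P.B) (hx5 : orderOf x = 5) :
    Nat.card (centralizer ({x} : Set G)) = 300 ∧ ∃ π : centralizer ({x} : Set G) →* Alt5.A5,
      Function.Surjective π ∧ ∀ y, π y = 1 ↔ (y : G) ∈ zpowers x := by
  rcases h.small_cent hx hx5 (by decide) (by norm_num) with h60 | ⟨h300, hπ⟩
  · exfalso
    obtain ⟨S, hS⟩ := D.exists_sylow5 hx5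
    have hle : (S : Subgroup G) ≤ centralizer ({x} : Set G) := fun y hy =>
      mem_centralizer_singleton_iff.2 (D.sylow5_comm S hy hS)
    have := card_dvd_of_le hle
    rw [D.sylow5_card, h60] at this
    norm_num at this
  · exact ⟨h300, hπ⟩

include h in
theorem sylow5_self_of {x : G} (hx : x ∈ P.B) (hx5 : orderOf x = 5) (S : Sylow 5 G)
    (hS : x ∈ (S : Subgroup G)) :
    centralizer ((S : Subgroup G) : Set G) = (S : Subgroup G) := by
  obtain ⟨-, π, -, hker⟩ := h.card_cent_five hx hx5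
  refine le_antisymm (fun y hy => ?_) fun y hy => mem_centralizer_iff.2 fun s hs => D.sylow5_comm S hs hy
  have hyc : ∀ s ∈ (S : Subgroup G), s * y = y * s := fun s hs => mem_centralizer_iff.1 hy s hs
  have hSC : ∀ s ∈ (S : Subgroup G), s ∈ centralizer ({x} : Set G) := fun s hs =>
    mem_centralizer_singleton_iff.2 (D.sylow5_comm S hs hS)
  have hyC : y ∈ centralizer ({x} : Set G) := mem_centralizer_singleton_iff.2 (hyc x hS).symm
  obtain ⟨p, hp, hpx⟩ : ∃ p ∈ (S : Subgroup G), p ∉ zpowers x := by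
    by_contra hc
    push Not at hc
    have := card_dvd_of_le (show (S : Subgroup G) ≤ zpowers x from hc)
    rw [D.sylow5_card, Nat.card_zpowers, hx5] at this
    norm_num at this
  set σ := π ⟨p, hSC p hp⟩ with hσ
  have hσ1 : σ ≠ 1 := fun e => hpx ((hker _).1 e)
  have hσ2 : σ * σ ≠ 1 := fun e => hσ1 (by
    have h25 : σ ^ 25 = 1 := by
      rw [hσ, ← map_pow, ← map_one π]
      refine congrArg π (Subtype.ext ?_)
      show p ^ 25 = 1
      have := pow_card_eq_one' (x := (⟨p, hp⟩ : (S : Subgroup G)))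
      rw [D.sylow5_card] at this
      exact congrArg Subtype.val this
    rwa [show 25 = 2 * 12 + 1 from rfl, pow_succ, pow_mul, pow_two, e, one_pow, one_mul] at h25)
  have hm := Alt5.cent_powers σ hσ2 (π ⟨y, hyC⟩) (by
    rw [hσ, ← map_mul, ← map_mul]; exact congrArg π (Subtype.ext (hyc p hp).symm))
  have key : ∀ j : ℕ, π ⟨y, hyC⟩ = σ ^ j → y ∈ (S : Subgroup G) := by
    intro j hj
    have h1 : π (⟨y, hyC⟩ * (⟨p, hSC p hp⟩ ^ j)⁻¹) = 1 := by
      rw [map_mul, map_inv, map_pow, hj, mul_inv_cancel]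
    have h2 : y * (p ^ j)⁻¹ ∈ zpowers x := (hker _).1 h1
    simpa using mul_mem (zpowers_le.2 hS h2) (pow_mem hp j)
  simp only [List.mem_cons, List.not_mem_nil, or_false] at hm
  rcases hm with e | e | e | e | e
  exacts [key 0 (by rw [e, pow_zero]), key 1 (by rw [e, pow_one]), key 2 e, key 3 e, key 4 e]

end Cyc

variable (D)

include D in
theorem sylow5_self (S : Sylow 5 G) : centralizer ((S : Subgroup G) : Set G) = (S : Subgroup G) := by
  haveI : Fact (Nat.Prime 5) := ⟨Nat.prime_five⟩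
  obtain ⟨t, ht, -⟩ := D.exists_outer
  obtain ⟨k, hk⟩ := exists_cycle ht
  obtain ⟨x, hx, hx5⟩ := (pairOuter ht).exists_five
  obtain ⟨S0, hS0⟩ := D.exists_sylow5 hx5
  obtain ⟨g, rfl⟩ := MulAction.exists_smul_eq G S0 S
  refine le_antisymm (fun y hy => ?_) fun y hy => mem_centralizer_iff.2 fun s hs => D.sylow5_comm _ hs hy
  rw [mem_centralizer_iff] at hy
  rw [Sylow.coe_subgroup_smul, Subgroup.mem_pointwise_smul_iff_inv_smul_mem, ← map_inv, MulAut.smul_def,
    MulAut.conj_apply, inv_inv, ← hk.sylow5_self_of hx hx5 S0 hS0]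
  refine mem_centralizer_iff.2 fun s hs => ?_
  have hm : g * s * g⁻¹ ∈ ((g • S0 : Sylow 5 G) : Subgroup G) := by
    rw [Sylow.coe_subgroup_smul]
    exact Subgroup.smul_mem_pointwise_smul s (MulAut.conj g) _ hs
  calc s * (g⁻¹ * y * g) = g⁻¹ * (g * s * g⁻¹ * y) * g := by group
    _ = g⁻¹ * y * g * s := by rw [hy _ hm]; group

theorem exists_five_z : ∃ c, orderOf c = 5 ∧ c * D.z = D.z * c := by
  haveI : Fact (Nat.Prime 5) := ⟨Nat.prime_five⟩
  obtain ⟨⟨c, hc⟩, h5⟩ := exists_prime_orderOf_dvd_card' (G := centralizer ({D.z} : Set G)) 5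
    (by rw [D.card_C]; norm_num)
  exact ⟨c, by rw [Subgroup.orderOf_mk] at h5; exact h5, D.mem_C.1 hc⟩

variable {D}

theorem five_z_fix {c : G} (hc : orderOf c = 5) (hcz : c * D.z = D.z * c) :
    ∀ q ∈ D.Q, c * q = q * c → q = 1 ∨ q = D.z := by
  intro q hq hcq
  set cC : centralizer ({D.z} : Set G) := ⟨c, D.mem_C.2 hcz⟩
  set σ := D.psi cC
  have hσ5 : σ ^ 5 = 1 := by
    rw [← map_pow, ← map_one D.psi]
    exact congrArg D.psi (Subtype.ext (show c ^ 5 = 1 by rw [← hc, pow_orderOf_eq_one]))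
  have hσ1 : σ ≠ 1 := fun e => by
    have hcQ := (D.psi_ker _).1 e
    have h32 : orderOf c ∣ 32 := D.hQ.card ▸ Subgroup.orderOf_dvd_natCard _ hcQ
    rw [hc] at h32
    norm_num at h32
  by_contra hne
  simp only [not_or] at hne
  have hconj : c * q * c⁻¹ = q := by rw [hcq, mul_inv_cancel_right]
  by_cases hsq : q * q = 1
  · obtain ⟨i, hi⟩ := D.u_cover q ⟨hq, hsq, hne.1, hne.2⟩
    have hfix : D.φ cC i = i := by
      rcases hi with rfl | rfl
      · exact D.phi_of_pair cC (Or.inl hconj)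
      · refine D.phi_of_pair cC ?_
        have h' : c * D.u i * c⁻¹ * D.z = D.u i * D.z := (D.conj_mul_z hcz (D.u i)).symm.trans hconj
        exact Or.inl (mul_right_cancel h')
    exact Alt5.five_no_pair σ hσ5 hσ1 i i (Or.inl hfix) (Or.inl hfix)
  · obtain ⟨a, ha, b, hb, rfl, hab⟩ := exists_eq_mul D.hQ D.invSet_ncard hq ((D.hQ.sq q hq).resolve_left hsq)
    have hqq := (D.hQ.sq (a * b) hq).resolve_left hsq
    obtain ⟨i, hi⟩ := D.u_cover a ha
    obtain ⟨j, hj⟩ := D.u_cover b hb
    have hinv : ∀ y ∈ [a, b], y * (a * b) * y = (a * b)⁻¹ := by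
      intro y hy
      rw [mul_inv_rev, inv_eq_of_mul_eq_one_right ha.2.1, inv_eq_of_mul_eq_one_right hb.2.1]
      simp only [List.mem_cons, List.not_mem_nil, or_false] at hy
      rcases hy with rfl | rfl
      · rw [← mul_assoc, ha.2.1, one_mul]
      · rw [← mul_assoc, mul_assoc (y * a) y y, hb.2.1, mul_one]
    have hmove : ∀ y ∈ invSet D.Q D.z, y ∈ [a, b] → ∀ l, (y = D.u l ∨ y = D.u l * D.z) →
        D.φ cC l = i ∨ D.φ cC l = j := by
      intro y hy hy' l hl
      set x := c * y * c⁻¹ with hx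
      have hxm : x ∈ invSet D.Q D.z := D.conj_invSet hcz hy
      have hxinv : x * (a * b) * x = (a * b)⁻¹ := by
        have := congrArg (fun w => c * w * c⁻¹) (hinv y hy')
        simp only [← conj_mul, ← conj_inv, hconj] at this
        exact this
      have hpair : c * D.u l * c⁻¹ = x ∨ c * D.u l * c⁻¹ = x * D.z := by
        rcases hl with rfl | rfl
        · exact Or.inl rfl
        · right
          rw [hx, D.conj_mul_z hcz, mul_assoc _ D.z D.z, D.z2, mul_one]
      have hx' : x = D.u i ∨ x = D.u i * D.z ∨ x = D.u j ∨ x = D.u j * D.z := by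
        rcases inverting ha hb hqq hxm hxinv with e | e | e | e <;> rcases hi with hi | hi <;>
          rcases hj with hj | hj <;> subst hi hj <;>
          simp only [e, mul_assoc, D.z2, mul_one, eq_self_iff_true, true_or, or_true]
      rcases hx' with e | e | e | e <;> rw [e] at hpair
      · exact Or.inl (D.phi_of_pair cC hpair)
      · exact Or.inl (D.phi_of_pair cC (hpair.symm.imp (fun h => h.trans (by rw [mul_assoc, D.z2, mul_one]))
          fun h => h))
      · exact Or.inr (D.phi_of_pair cC hpair)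
      · exact Or.inr (D.phi_of_pair cC (hpair.symm.imp (fun h => h.trans (by rw [mul_assoc, D.z2, mul_one]))
          fun h => h))
    exact Alt5.five_no_pair σ hσ5 hσ1 i j (hmove a ha (by simp) i hi) (hmove b hb (by simp) j hj)

theorem five_z_small {c : G} (hc : orderOf c = 5) (hcz : c * D.z = D.z * c) :
    Nat.card (centralizer ({c} : Set G) ⊓ centralizer ({D.z} : Set G) : Subgroup G) ∣ 10 := by
  classical
  set H : Subgroup G := centralizer ({c} : Set G) ⊓ centralizer ({D.z} : Set G) with hH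
  set σ := D.psi ⟨c, D.mem_C.2 hcz⟩
  have hσ5 : σ ^ 5 = 1 := by
    rw [← map_pow, ← map_one D.psi]
    exact congrArg D.psi (Subtype.ext (show c ^ 5 = 1 by rw [← hc, pow_orderOf_eq_one]))
  have hσ1 : σ ≠ 1 := fun e => by
    have h32 : orderOf c ∣ 32 := D.hQ.card ▸ Subgroup.orderOf_dvd_natCard _ ((D.psi_ker _).1 e)
    rw [hc] at h32
    norm_num at h32
  have hσo : orderOf σ = 5 := haveI : Fact (Nat.Prime 5) := ⟨Nat.prime_five⟩; orderOf_eq_prime hσ5 hσ1
  have hσ2 : σ * σ ≠ 1 := fun e => by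
    have := orderOf_dvd_of_pow_eq_one (show σ ^ 2 = 1 by rw [pow_two, e])
    rw [hσo] at this
    norm_num at this
  let χ : H →* Alt5.A5 := D.psi.comp (Subgroup.inclusion inf_le_right)
  have hrange : χ.range ≤ zpowers σ := by
    rintro _ ⟨y, rfl⟩
    have hm := Alt5.cent_powers σ hσ2 (χ y) (by
      show D.psi _ * σ = σ * D.psi _
      rw [← map_mul, ← map_mul]
      exact congrArg D.psi (Subtype.ext (mem_centralizer_singleton_iff.1 y.2.1)))
    simp only [List.mem_cons, List.not_mem_nil, or_false] at hm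
    rcases hm with e | e | e | e | e <;> rw [e]
    exacts [one_mem _, mem_zpowers σ, pow_mem (mem_zpowers σ) 2, pow_mem (mem_zpowers σ) 3,
      pow_mem (mem_zpowers σ) 4]
  have hker : Nat.card χ.ker ∣ 2 := by
    have hle : χ.ker ≤ (zpowers D.z).subgroupOf H := by
      intro y hy
      refine mem_subgroupOf.2 ?_
      rcases five_z_fix hc hcz y ((D.psi_ker _).1 hy) (mem_centralizer_singleton_iff.1 y.2.1).symm with e | e <;>
        rw [e]
      exacts [one_mem _, mem_zpowers _]
    refine (card_dvd_of_le hle).trans ?_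
    have hzH : zpowers D.z ≤ H :=
      zpowers_le.2 ⟨mem_centralizer_singleton_iff.2 hcz.symm, D.mem_C.2 rfl⟩
    rw [Nat.card_congr (subgroupOfEquivOfLe hzH).toEquiv, Nat.card_zpowers, D.z_ord]
  have hr : Nat.card χ.range ∣ 5 := by
    have := card_dvd_of_le hrange
    rwa [Nat.card_zpowers, hσo] at this
  rw [← χ.ker.card_mul_index, index_ker]
  exact Nat.mul_dvd_mul hker hr

theorem card_cent_five_z {c : G} (hc : orderOf c = 5) (hcz : c * D.z = D.z * c) :
    Nat.card (centralizer ({c} : Set G)) = 50 := by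
  classical
  haveI : Fact (Nat.Prime 2) := ⟨Nat.prime_two⟩
  haveI : Fact (Nat.Prime 5) := ⟨Nat.prime_five⟩
  set C := centralizer ({c} : Set G) with hC
  have hzC : D.z ∈ C := mem_centralizer_singleton_iff.2 hcz.symm
  have hcC : c ∈ C := mem_centralizer_singleton_iff.2 rfl
  set z' : C := ⟨D.z, hzC⟩
  have hz'2 : z' * z' = 1 := Subtype.ext D.z2
  have hz'o : orderOf z' = 2 := by rw [Subgroup.orderOf_mk, D.z_ord]
  obtain ⟨T, hT⟩ : ∃ T : Sylow 2 C, (T : Subgroup C) = zpowers z' := by
    refine isSylow_of_norm _ (IsPGroup.of_card (n := 1) (by rw [Nat.card_zpowers, hz'o, pow_one]))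
      fun R hKR hRN hR => ?_
    have hle : R.map C.subtype ≤ C ⊓ centralizer ({D.z} : Set G) := by
      rintro _ ⟨r, hr, rfl⟩
      refine ⟨r.2, D.mem_C.2 ?_⟩
      have hm : r * z' * r⁻¹ ∈ zpowers z' := (mem_normalizer_iff.1 (hRN hr) z').1 (mem_zpowers z')
      have hne : r * z' * r⁻¹ ≠ 1 := fun e => by simp [conj_eq_one_iff.1 e] at hz'o
      have e := eq_of_mem_zpowers hz'2 hm hne
      exact mul_inv_eq_iff_eq_mul.1 (congrArg Subtype.val e)
    have hd := (card_dvd_of_le hle).trans (five_z_small hc hcz)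
    rw [card_subtype] at hd
    obtain ⟨n, hn⟩ := IsPGroup.iff_card.1 hR
    have h2 : Nat.card R ∣ 2 := by
      rw [hn] at hd ⊢
      have hco : (2 ^ n).Coprime 5 := Nat.Coprime.pow_left n (by norm_num)
      exact hco.dvd_of_dvd_mul_right (by rwa [show 2 * 5 = 10 from rfl])
    exact (Subgroup.eq_of_le_of_card_ge hKR (by rw [Nat.card_zpowers, hz'o]; exact Nat.le_of_dvd (by norm_num) h2)).ge
  have hcent : normalizer ((T : Subgroup C) : Set C) ≤ centralizer ((T : Subgroup C) : Set C) := by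
    intro n hn
    rw [hT] at hn ⊢
    refine mem_centralizer_iff.2 fun w hw => ?_
    have hm : n * z' * n⁻¹ ∈ zpowers z' := (mem_normalizer_iff.1 hn z').1 (mem_zpowers z')
    have hne : n * z' * n⁻¹ ≠ 1 := fun e => by simp [conj_eq_one_iff.1 e] at hz'o
    have e := mul_inv_eq_iff_eq_mul.1 (eq_of_mem_zpowers hz'2 hm hne)
    obtain ⟨j, rfl⟩ := mem_zpowers_iff.1 hw
    exact ((show Commute n z' from e).zpow_right j).eq.symm
  have hcompl := MonoidHom.ker_transferSylow_isComplement' T hcent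
  have hKn : (MonoidHom.transferSylow T hcent).ker.Normal := MonoidHom.normal_ker _
  obtain ⟨K, hK⟩ : ∃ K : Subgroup C, K = (MonoidHom.transferSylow T hcent).ker := ⟨_, rfl⟩
  rw [← hK] at hcompl hKn
  have hT2 : Nat.card (T : Subgroup C) = 2 := by rw [hT, Nat.card_zpowers, hz'o]
  have hCcard : Nat.card C = Nat.card K * 2 := by rw [← hcompl.card_mul_card, hT2]
  have hKidx : K.index = 2 := by
    have h := K.card_mul_index
    rw [hCcard] at h
    exact Nat.eq_of_mul_eq_mul_left (Nat.card_pos) h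
  have hKodd : Odd (Nat.card K) := by
    rw [Nat.odd_iff]
    have h := (T : Subgroup C).card_mul_index
    rw [hT2, hCcard] at h
    have := T.not_dvd_index
    omega
  have hodd_mem : ∀ y : C, ∀ m : ℕ, Odd m → y ^ m = 1 → y ∈ K := by
    intro y m hm hy
    obtain ⟨j, rfl⟩ := hm
    have h2 : ∀ a : C, a * a ∈ K := fun a => by
      rw [← pow_two, ← hKidx]; exact K.pow_index_mem a
    have e : y = (y * y) ^ (j + 1) := by
      rw [← pow_two, ← pow_mul, show 2 * (j + 1) = 2 * j + 1 + 1 by ring, pow_succ, hy, one_mul]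
    rw [e]; exact pow_mem (h2 y) _
  -- elements of `K` fixed by `z`
  have hfix : ∀ y ∈ K, y * z' = z' * y → (y : G) ∈ zpowers c := by
    intro y hy hyz
    have hmem : (y : G) ∈ C ⊓ centralizer ({D.z} : Set G) := ⟨y.2, D.mem_C.2 (congrArg Subtype.val hyz)⟩
    have h1 : orderOf (y : G) ∣ 10 := (Subgroup.orderOf_dvd_natCard _ hmem).trans (five_z_small hc hcz)
    have h2 : orderOf (y : G) ∣ Nat.card K := by
      rw [Subgroup.orderOf_coe]
      exact Subgroup.orderOf_dvd_natCard K hy
    have h5 : (y : G) ^ 5 = 1 := by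
      rw [← orderOf_dvd_iff_pow_eq_one]
      have hco : (orderOf (y : G)).Coprime 2 :=
        Nat.Coprime.coprime_dvd_left h2 hKodd.coprime_two_right
      exact hco.dvd_of_dvd_mul_left (by rwa [show 2 * 5 = 10 from rfl])
    by_contra hyc
    -- otherwise two independent elements of order five in a group of order dividing ten
    set H : Subgroup G := C ⊓ centralizer ({D.z} : Set G) with hH
    have hcH : c ∈ H := ⟨hcC, D.mem_C.2 hcz⟩
    have hy5 : orderOf (y : G) = 5 := orderOf_eq_prime h5 fun e => hyc (e ▸ one_mem _)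
    let S : Subgroup G := zpowers c ⊔ zpowers (y : G)
    have hS25 : 25 ≤ Nat.card S := by
      let f : zpowers c × zpowers (y : G) → S := fun p =>
        ⟨(p.1 : G) * p.2, mul_mem ((le_sup_left : zpowers c ≤ S) p.1.2) ((le_sup_right : zpowers (y : G) ≤ S) p.2.2)⟩
      have hf : Function.Injective f := fun p q e => by
        have e' : (p.1 : G) * p.2 = q.1 * q.2 := congrArg Subtype.val e
        have e2 : (q.1 : G)⁻¹ * p.1 = q.2 * (p.2 : G)⁻¹ := by
          calc (q.1 : G)⁻¹ * p.1 = (q.1 : G)⁻¹ * (p.1 * p.2) * (p.2 : G)⁻¹ := by group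
            _ = _ := by rw [e']; group
        have h1' : (q.1 : G)⁻¹ * p.1 = 1 := by
          by_contra hne
          have hc' := zpowers_eq_of_prime Nat.prime_five hc (mul_mem (inv_mem q.1.2) p.1.2) hne
          have hy' := zpowers_eq_of_prime Nat.prime_five hy5 (e2 ▸ mul_mem q.2.2 (inv_mem p.2.2)) hne
          exact hyc ((hy'.symm.trans hc') ▸ mem_zpowers _)
        rw [h1'] at e2
        exact _root_.Prod.ext (Subtype.ext (inv_mul_eq_one.1 h1').symm)
          (Subtype.ext (mul_inv_eq_one.1 e2.symm).symm)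
      have := Nat.card_le_card_of_injective f hf
      rw [Nat.card_prod, Nat.card_zpowers, Nat.card_zpowers, hc, hy5] at this
      exact this
    have hle : Nat.card S ∣ 10 :=
      (card_dvd_of_le (sup_le (zpowers_le.2 hcH) (zpowers_le.2 hmem))).trans (five_z_small hc hcz)
    have := Nat.le_of_dvd (by norm_num) hle
    omega
  -- `z` inverts `K` modulo `⟨c⟩`
  set cC : C := ⟨c, hcC⟩
  set N : Subgroup C := zpowers cC with hN
  have hcN : ∀ a ∈ N, ∀ y : C, a * y = y * a := fun a ha y => by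
    obtain ⟨j, rfl⟩ := mem_zpowers_iff.1 ha
    exact ((show Commute cC y from Subtype.ext (mem_centralizer_singleton_iff.1 y.2).symm).zpow_left j).eq
  have hmemN : ∀ a : C, (a : G) ∈ zpowers c → a ∈ N := fun a ha => by
    obtain ⟨j, hj⟩ := mem_zpowers_iff.1 ha
    exact mem_zpowers_iff.2 ⟨j, Subtype.ext (by rw [Subgroup.coe_zpow]; exact hj)⟩
  have hNK : N ≤ K := zpowers_le.2 (hodd_mem cC 5 (by decide) (Subtype.ext (show c ^ 5 = 1 by
    rw [← hc, pow_orderOf_eq_one])))
  haveI : N.Normal := ⟨fun a ha y => by rw [← hcN a ha y, mul_inv_cancel_right]; exact ha⟩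
  set q := QuotientGroup.mk' N
  set K' := K.map q with hK'
  have hinv : ∀ w ∈ K', q z' * w * (q z')⁻¹ = w⁻¹ := by
    refine inverts (by rw [← map_mul, hz'2, map_one]) ?_ ?_
    · rintro _ ⟨y, hy, rfl⟩
      exact ⟨z' * y * z'⁻¹, hKn.conj_mem y hy z', by rw [map_mul, map_mul, map_inv]⟩
    · rintro _ ⟨y, hy, rfl⟩ e
      rw [← map_inv, ← map_mul, ← map_mul] at e
      obtain ⟨a, ha, hae⟩ : ∃ a ∈ N, y = z' * y * z'⁻¹ * a := ⟨_, QuotientGroup.eq.1 e, by group⟩
      have ha2 : a * a = 1 := by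
        have hz'i : z'⁻¹ = z' := inv_eq_of_mul_eq_one_right hz'2
        have e1 : z' * y * z'⁻¹ = y * a⁻¹ := eq_mul_inv_of_mul_eq hae.symm
        have e2 : z' * (y * a⁻¹) * z'⁻¹ = y := by
          rw [← e1, hz'i]
          calc z' * (z' * y * z') * z' = (z' * z') * y * (z' * z') := by group
            _ = y := by rw [hz'2, one_mul, mul_one]
        rw [← conj_mul, e1, ← hcN _ (inv_mem ha) z', mul_inv_cancel_right, mul_assoc, mul_eq_left,
          ← mul_inv_rev, inv_eq_one] at e2
        exact e2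
      have ha1 : a = 1 := by
        obtain ⟨j, rfl⟩ := (mem_powers_iff_mem_zpowers).2 ha
        have ho : orderOf cC = 5 := by rw [Subgroup.orderOf_mk, hc]
        exact sq_eq_of_odd_order ho (by decide) (by rw [mul_comm, pow_mul, pow_two]; exact ha2)
      rw [ha1, mul_one] at hae
      exact (QuotientGroup.eq_one_iff y).2 (hmemN y (hfix y hy (mul_inv_eq_iff_eq_mul.1 hae.symm).symm))
  have habel : ∀ y ∈ K, ∀ p ∈ K, ∃ a ∈ N, y * p * y⁻¹ = p * a := by
    intro y hy p hp
    have h1 := hinv _ ⟨y, hy, rfl⟩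
    have h2 := hinv _ ⟨p, hp, rfl⟩
    have h3 := hinv _ ⟨p * y, mul_mem hp hy, rfl⟩
    rw [map_mul, ← conj_mul, h1, h2, mul_inv_rev] at h3
    have h4 : q (p * y) = q (y * p) := by
      rw [map_mul, map_mul]
      have := congrArg (fun w => w⁻¹) h3
      simp only [mul_inv_rev, inv_inv] at this
      exact this.symm
    refine ⟨p⁻¹ * (y * p * y⁻¹), ?_, by group⟩
    have h5 := QuotientGroup.eq.1 h4
    have := (inferInstance : N.Normal).conj_mem _ h5 y
    simpa [mul_assoc] using this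
  -- so `K` is a Sylow 5-subgroup
  obtain ⟨S, hS⟩ := D.exists_sylow5 hc
  have hSK : ∀ p (hp : p ∈ (S : Subgroup G)),
      (⟨p, mem_centralizer_singleton_iff.2 (D.sylow5_comm S hp hS)⟩ : C) ∈ K := fun p hp =>
    hodd_mem _ 25 (by decide) (Subtype.ext (by
      show p ^ 25 = 1
      have := pow_card_eq_one' (x := (⟨p, hp⟩ : (S : Subgroup G)))
      rw [D.sylow5_card] at this
      exact congrArg Subtype.val this))
  have hyS : ∀ y ∈ K, (y : G) ^ 5 ∈ (S : Subgroup G) ∧ ∀ p ∈ (S : Subgroup G),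
      (y : G) * p * (y : G)⁻¹ ∈ (S : Subgroup G) := by
    intro y hy
    have hkey : ∀ p (hp : p ∈ (S : Subgroup G)), ∃ a ∈ N, y * ⟨p, _⟩ * y⁻¹ =
        (⟨p, mem_centralizer_singleton_iff.2 (D.sylow5_comm S hp hS)⟩ : C) * a := fun p hp =>
      habel y hy _ (hSK p hp)
    refine ⟨?_, fun p hp => ?_⟩
    · rw [← D.sylow5_self S]
      refine mem_centralizer_iff.2 fun p hp => ?_
      obtain ⟨a, ha, e⟩ := hkey p hp
      set p' : C := ⟨p, mem_centralizer_singleton_iff.2 (D.sylow5_comm S hp hS)⟩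
      have hpow : ∀ n : ℕ, y ^ n * p' * (y ^ n)⁻¹ = p' * a ^ n := by
        intro n
        induction n with
        | zero => simp
        | succ n ih =>
          rw [pow_succ' y, show y * y ^ n * p' * (y * y ^ n)⁻¹ = y * (y ^ n * p' * (y ^ n)⁻¹) * y⁻¹ by group,
            ih, ← conj_mul, e, ← hcN _ (pow_mem ha n) y, mul_inv_cancel_right, mul_assoc, ← pow_succ']
      have ha5 : a ^ 5 = 1 := by
        obtain ⟨j, rfl⟩ := mem_zpowers_iff.1 ha
        rw [← zpow_natCast, zpow_comm, zpow_natCast, show cC ^ 5 = 1 from Subtype.ext (show c ^ 5 = 1 by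
          rw [← hc, pow_orderOf_eq_one]), one_zpow]
      have := hpow 5
      rw [ha5, mul_one, mul_inv_eq_iff_eq_mul] at this
      exact (congrArg Subtype.val this).symm
    · obtain ⟨a, ha, e⟩ := hkey p hp
      have e' : (y : G) * p * (y : G)⁻¹ = p * (a : G) := congrArg Subtype.val e
      rw [e']
      refine mul_mem hp ?_
      obtain ⟨j, rfl⟩ := mem_zpowers_iff.1 ha
      rw [Subgroup.coe_zpow]; exact zpow_mem hS j
  have hKS : ∀ y ∈ K, (y : G) ∈ (S : Subgroup G) := by
    intro y hy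
    have h125 : IsPGroup 5 (zpowers (y : G)) := by
      refine IsPGroup.of_card (n := (Nat.factorization (orderOf (y : G))) 5) ?_
      rw [Nat.card_zpowers]
      have hd : orderOf (y : G) ∣ 5 ^ 3 := orderOf_dvd_of_pow_eq_one (by
        have := pow_card_eq_one' (x := (⟨_, (hyS y hy).1⟩ : (S : Subgroup G)))
        rw [D.sylow5_card] at this
        rw [show 5 ^ 3 = 5 * 25 from rfl, pow_mul]
        exact congrArg Subtype.val this)
      obtain ⟨i, -, hi⟩ := (Nat.dvd_prime_pow Nat.prime_five).1 hd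
      rw [hi, Nat.factorization_pow_self Nat.prime_five]
    have hyN : (y : G) ∈ normalizer ((S : Subgroup G) : Set G) := mem_normalizer_iff.2 fun p =>
      ⟨fun hp => (hyS y hy).2 p hp, fun hp => by
        have := (hyS _ (inv_mem hy)).2 _ hp
        simpa [mul_assoc] using this⟩
    have hp : IsPGroup 5 (((S : Subgroup G) ⊔ zpowers (y : G)) : Subgroup G) :=
      S.isPGroup'.to_sup_of_normal_left' h125 (zpowers_le.2 hyN)
    exact (S.is_maximal' hp le_sup_left).le ((le_sup_right : zpowers (y : G) ≤ _) (mem_zpowers _))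
  have hK25 : Nat.card K = 25 := by
    rw [← D.sylow5_card S]
    refine Nat.card_eq_of_bijective (fun y : K => (⟨_, hKS y y.2⟩ : (S : Subgroup G))) ⟨fun a b e => ?_, ?_⟩
    · exact Subtype.ext (Subtype.ext (congrArg (fun w : ↥(S : Subgroup G) => (w : G)) e))
    · exact fun p => ⟨⟨_, hSK p p.2⟩, Subtype.ext rfl⟩
  rw [hCcard, hK25]

end Data

end Cfsg.Agent.JTwoType
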