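import Cfsg.Agent.Lib.JTwoType.FiveCent

/-!
# Groups of Hall-Janko type: the normaliser of a Sylow 5-subgroup

* `Data.sylow5_facts`: `|N(P)| = 300` and two classes of subgroups of order five
* `Data.five_cases`: centralisers of elements of order five have order `300` or `50`
-/

set_option autoImplicit false
set_option linter.unusedSectionVars false
set_option linter.style.haveILetI false
set_option maxHeartbeats 800000

namespace Cfsg.Agent.JTwoType

open Cfsg Subgroup OrderJTwo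
open scoped commutatorElement Pointwise

variable {G : Type*} [Group G] [Finite G]

namespace Alt5

theorem five_norm : ∀ σ : A5, σ ^ 5 = 1 → σ ≠ 1 → ∀ τ : A5,
    τ * σ * τ⁻¹ ∈ [1, σ, σ ^ 2, σ ^ 3, σ ^ 4] → τ * σ * τ⁻¹ = σ ∨ τ * σ * τ⁻¹ = σ ^ 4 := by decide +kernel

set_option synthInstance.maxSize 1024 in
theorem five_norm_card : ∀ σ : A5, σ ^ 5 = 1 → σ ≠ 1 →
    Fintype.card {τ : A5 // τ * σ * τ⁻¹ = σ ∨ τ * σ * τ⁻¹ = σ ^ 4} = 10 := by decide +kernel

theorem pow_five_mem : ∀ σ : A5, σ ^ 5 = 1 → ∀ j : ℕ, σ ^ j ∈ [1, σ, σ ^ 2, σ ^ 3, σ ^ 4] := by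
  intro σ h j
  rw [← Nat.mod_add_div j 5, pow_add, pow_mul, h, one_pow, mul_one]
  have := Nat.mod_lt j (show 5 > 0 by norm_num)
  interval_cases j % 5 <;> simp

end Alt5

/-- an element of order three normalising a group of order five centralises it -/
theorem fix_of_three {H : Type*} [Group H] [Finite H] {y g : H} (hy : y ^ 5 = 1) (hg : g ^ 3 = 1)
    (h : g * y * g⁻¹ ∈ zpowers y) : g * y = y * g := by
  obtain ⟨j, hj⟩ := (mem_powers_iff_mem_zpowers).2 h
  change y ^ j = g * y * g⁻¹ at hj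
  have e2 : g * (g * y * g⁻¹) * g⁻¹ = y ^ (j * j) := by
    rw [pow_mul, ← hj, ← conj_pow, ← hj]
  have e3 : y = y ^ (j * j * j) := by
    calc y = g ^ 3 * y * (g ^ 3)⁻¹ := by rw [hg, one_mul, inv_one, mul_one]
      _ = g * (g * (g * y * g⁻¹) * g⁻¹) * g⁻¹ := by simp only [pow_succ, pow_zero, one_mul, mul_inv_rev, mul_assoc]
      _ = y ^ (j * j * j) := by rw [e2, ← conj_pow, ← hj, ← pow_mul, show j * (j * j) = j * j * j by ring]
  by_cases hy1 : y = 1
  · simp [hy1]
  haveI : Fact (Nat.Prime 5) := ⟨Nat.prime_five⟩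
  have ho : orderOf y = 5 := orderOf_eq_prime hy hy1
  have hm : 1 % 5 = j * j * j % 5 := by
    have := (pow_eq_pow_iff_modEq (x := y) (n := j * j * j) (m := 1)).1 (by rw [pow_one]; exact e3.symm)
    rw [ho] at this
    exact this.symm
  have hj1 : j % 5 = 1 := by
    rw [Nat.mul_mod, Nat.mul_mod j j] at hm
    have := Nat.mod_lt j (show 5 > 0 by norm_num)
    interval_cases hjm : j % 5 <;> omega
  have : g * y * g⁻¹ = y := by rw [← hj, ← pow_mod_orderOf, ho, hj1, pow_one]
  exact mul_inv_eq_iff_eq_mul.1 this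

/-- the subgroups generated by the non-trivial elements of `S` -/
noncomputable def lines (S : Subgroup G) : Finset (Subgroup G) :=
  haveI := Fintype.ofFinite G
  haveI := Classical.decPred fun x => x ∈ S ∧ x ≠ 1
  haveI := Classical.decEq (Subgroup G)
  ((Finset.univ.filter fun x => x ∈ S ∧ x ≠ 1)).image fun x => zpowers x

theorem mem_lines {S : Subgroup G} {L : Subgroup G} :
    L ∈ lines S ↔ ∃ x, (x ∈ S ∧ x ≠ 1) ∧ zpowers x = L := by
  simp [lines]

namespace Data

variable {D : Data G}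

namespace Cyc

variable {t : G} {P : D.Pair t} {k : G} (h : Cyc P k)

include h in
/-- elements normalising `⟨x⟩` centralise or invert `x` -/
theorem five_inv_or_cent {x : G} (hx : x ∈ P.B) (hx5 : orderOf x = 5) {n : G}
    (hn : n * x * n⁻¹ ∈ zpowers x) : n * x * n⁻¹ = x ∨ n * x * n⁻¹ = x⁻¹ := by
  have hne : n * x * n⁻¹ ≠ 1 := fun e => by simp [conj_eq_one_iff.1 e] at hx5
  have hcent := cent_of_mem_zpowers Nat.prime_five hx5 hn hne
  have hmem : n * t * n⁻¹ ∈ centralizer ({x} : Set G) := by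
    rw [← hcent, mem_centralizer_singleton_iff, conj_mul, conj_mul, P.comm t P.aV x hx]
  have ho : orderOf (⟨_, hmem⟩ : centralizer ({x} : Set G)) = 2 := by
    rw [Subgroup.orderOf_mk]
    exact (MulEquiv.orderOf_eq (MulAut.conj n) t).trans (P.ord_V P.aV P.ne_one)
  obtain ⟨g, hg⟩ := h.cent_involution hx hx5 (by decide) (by norm_num) ho
  set m : G := (g : G) * n with hm
  have hmt : m ∈ centralizer ({t} : Set G) := by
    refine mem_centralizer_singleton_iff.2 (mul_inv_eq_iff_eq_mul.1 ?_)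
    calc m * t * m⁻¹ = (g : G) * (n * t * n⁻¹) * (g : G)⁻¹ := by rw [hm]; group
      _ = t := hg
  obtain ⟨v, hv, b, hb, e⟩ := P.decomp hmt
  have hgx : ∀ y ∈ zpowers x, (g : G) * y * (g : G)⁻¹ = y := fun y hy => by
    obtain ⟨j, rfl⟩ := mem_zpowers_iff.1 hy
    rw [((show Commute (g : G) x from mem_centralizer_singleton_iff.1 g.2).zpow_right j).eq, mul_inv_cancel_right]
  have hmx : b * x * b⁻¹ = n * x * n⁻¹ := by
    have hbx : b * x * b⁻¹ ∈ P.B := mul_mem (mul_mem hb hx) (inv_mem hb)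
    calc b * x * b⁻¹ = v * (b * x * b⁻¹) * v⁻¹ := by rw [P.comm v hv _ hbx, mul_inv_cancel_right]
      _ = (v * b) * x * (v * b)⁻¹ := by group
      _ = m * x * m⁻¹ := by rw [← e]
      _ = (g : G) * (n * x * n⁻¹) * (g : G)⁻¹ := by rw [hm]; group
      _ = n * x * n⁻¹ := hgx _ hn
  obtain ⟨eB⟩ := P.iso
  set σ := eB ⟨x, hx⟩ with hσ
  set τ := eB ⟨b, hb⟩
  have hσ5 : σ ^ 5 = 1 := by
    rw [hσ, ← map_pow, ← map_one eB]
    exact congrArg eB (Subtype.ext (show x ^ 5 = 1 by rw [← hx5, pow_orderOf_eq_one]))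
  have hσ1 : σ ≠ 1 := fun e => by
    have : x = 1 := congrArg Subtype.val (eB.injective (e.trans (map_one eB).symm))
    simp [this] at hx5
  obtain ⟨j, hj⟩ := (mem_powers_iff_mem_zpowers).2 hn
  change x ^ j = n * x * n⁻¹ at hj
  have hτ : τ * σ * τ⁻¹ = σ ^ j := by
    rw [hσ, ← map_inv, ← map_mul, ← map_mul, ← map_pow]
    exact congrArg eB (Subtype.ext (hmx.trans hj.symm))
  rcases Alt5.five_norm σ hσ5 hσ1 τ (hτ ▸ Alt5.pow_five_mem σ hσ5 j) with e' | e' <;> rw [hσ] at e' <;>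
    rw [← map_inv, ← map_mul, ← map_mul] at e'
  · left
    rw [← hmx]; exact congrArg Subtype.val (eB.injective e')
  · right
    rw [← map_pow] at e'
    have e'' : b * x * b⁻¹ = x ^ 4 := congrArg Subtype.val (eB.injective e')
    rw [← hmx, e'']
    exact eq_inv_of_mul_eq_one_left (by rw [← pow_succ, show (4 : ℕ) + 1 = orderOf x from hx5.symm, pow_orderOf_eq_one])

include h in
theorem card_norm_inter {x : G} (hx : x ∈ P.B) (hx5 : orderOf x = 5) (S : Sylow 5 G)
    (hS : x ∈ (S : Subgroup G)) :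
    {n | n ∈ normalizer ((S : Subgroup G) : Set G) ∧ (zpowers x).map (MulAut.conj n).toMonoidHom = zpowers x}.ncard
      = 100 := by
  classical
  haveI : Fact (Nat.Prime 5) := ⟨Nat.prime_five⟩
  set C := centralizer ({x} : Set G) with hC
  obtain ⟨h300, π, hπs, hker⟩ := h.card_cent_five hx hx5
  have hSC : (S : Subgroup G) ≤ C := fun y hy => mem_centralizer_singleton_iff.2 (D.sylow5_comm S hy hS)
  have hxC : zpowers x ≤ C := zpowers_le.2 (mem_centralizer_singleton_iff.2 rfl)
  have hkerc : Nat.card π.ker = 5 := by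
    rw [show π.ker = (zpowers x).subgroupOf C from Subgroup.ext fun y => MonoidHom.mem_ker.trans ((hker y).trans mem_subgroupOf.symm),
      Nat.card_congr (subgroupOfEquivOfLe hxC).toEquiv, Nat.card_zpowers, hx5]
  set S' : Subgroup C := (S : Subgroup G).subgroupOf C
  -- the image of `S`
  obtain ⟨p, hp, hpx⟩ : ∃ p ∈ (S : Subgroup G), p ∉ zpowers x := by
    by_contra hc
    push Not at hc
    have := card_dvd_of_le (show (S : Subgroup G) ≤ zpowers x from hc)
    rw [D.sylow5_card, Nat.card_zpowers, hx5] at this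
    norm_num at this
  set σ := π ⟨p, hSC hp⟩ with hσ
  have hσ1 : σ ≠ 1 := fun e => hpx ((hker ⟨p, hSC hp⟩).1 e)
  have hmap5 : Nat.card (S'.map π) ≤ 5 := by
    have hsub : π.ker ≤ S' := fun y hy => mem_subgroupOf.2 (zpowers_le.2 hS ((hker y).1 hy))
    have h1 := (π.domRestrict S').ker.card_mul_index
    rw [index_ker, MonoidHom.domRestrict_range,
      Nat.card_congr (subgroupOfEquivOfLe hSC).toEquiv, D.sylow5_card] at h1
    rw [MonoidHom.ker_domRestrict, Nat.card_congr (subgroupOfEquivOfLe hsub).toEquiv, hkerc] at h1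
    omega
  have hσS : zpowers σ ≤ S'.map π := zpowers_le.2 ⟨⟨p, hSC hp⟩, mem_subgroupOf.2 hp, rfl⟩
  have hσ5 : σ ^ 5 = 1 := by
    have h1 : orderOf σ ∣ 25 := by
      rw [hσ]
      refine (orderOf_map_dvd π _).trans ?_
      rw [Subgroup.orderOf_mk, ← D.sylow5_card S]
      exact Subgroup.orderOf_dvd_natCard _ hp
    obtain ⟨i, hi, hi'⟩ := (Nat.dvd_prime_pow Nat.prime_five).1 (show orderOf σ ∣ 5 ^ 2 from h1)
    have h2 : orderOf σ ≤ 5 := by
      rw [← Nat.card_zpowers]
      exact (Nat.le_of_dvd Nat.card_pos (card_dvd_of_le hσS)).trans hmap5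
    rw [← orderOf_dvd_iff_pow_eq_one, hi']
    rw [hi'] at h2
    interval_cases i <;> simp_all
  have hσo : orderOf σ = 5 := orderOf_eq_prime hσ5 hσ1
  have hmap : S'.map π = zpowers σ :=
    (Subgroup.eq_of_le_of_card_ge hσS (by rw [Nat.card_zpowers, hσo]; exact hmap5)).symm
  have hmemS : ∀ y : C, π y ∈ zpowers σ → (y : G) ∈ (S : Subgroup G) := by
    intro y hy
    rw [← hmap] at hy
    obtain ⟨s, hs, e⟩ := hy
    have h1 : π (y * s⁻¹) = 1 := by rw [map_mul, map_inv, e, mul_inv_cancel]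
    have h2 : (y : G) * (s : G)⁻¹ ∈ zpowers x := (hker _).1 h1
    simpa using mul_mem (zpowers_le.2 hS h2) (mem_subgroupOf.1 hs)
  -- `N(S) ∩ C(x)`
  have hchar : ∀ y : C, (y : G) ∈ normalizer ((S : Subgroup G) : Set G) ↔
      π y * σ * (π y)⁻¹ = σ ∨ π y * σ * (π y)⁻¹ = σ ^ 4 := by
    intro y
    constructor
    · intro hy
      have hm : y * ⟨p, hSC hp⟩ * y⁻¹ ∈ S' := mem_subgroupOf.2 ((mem_normalizer_iff.1 hy p).1 hp)
      have hm' : π y * σ * (π y)⁻¹ ∈ zpowers σ := by
        rw [← hmap, hσ, ← map_inv, ← map_mul, ← map_mul]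
        exact ⟨_, hm, rfl⟩
      obtain ⟨j, hj⟩ := (mem_powers_iff_mem_zpowers).2 hm'
      change σ ^ j = π y * σ * (π y)⁻¹ at hj
      exact Alt5.five_norm σ hσ5 hσ1 _ (hj ▸ Alt5.pow_five_mem σ hσ5 j)
    · intro hy
      have hconj : ∀ τ : Alt5.A5, (τ * σ * τ⁻¹ = σ ∨ τ * σ * τ⁻¹ = σ ^ 4) → ∀ w ∈ zpowers σ, τ * w * τ⁻¹ ∈ zpowers σ := by
        intro τ hτ w hw
        obtain ⟨j, rfl⟩ := mem_zpowers_iff.1 hw
        rw [← conj_zpow]
        rcases hτ with e | e <;> rw [e]
        · exact zpow_mem (mem_zpowers σ) j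
        · exact zpow_mem (pow_mem (mem_zpowers σ) 4) j
      have hone : ∀ z : C, (π z * σ * (π z)⁻¹ = σ ∨ π z * σ * (π z)⁻¹ = σ ^ 4) → ∀ s ∈ (S : Subgroup G),
          (z : G) * s * (z : G)⁻¹ ∈ (S : Subgroup G) := by
        intro z hz s hs
        refine hmemS (z * ⟨s, hSC hs⟩ * z⁻¹) ?_
        rw [map_mul, map_mul, map_inv]
        refine hconj _ hz _ ?_
        rw [← hmap]
        exact ⟨_, mem_subgroupOf.2 hs, rfl⟩
      have hyi : π y⁻¹ * σ * (π y⁻¹)⁻¹ = σ ∨ π y⁻¹ * σ * (π y⁻¹)⁻¹ = σ ^ 4 := by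
        rw [map_inv, inv_inv]
        rcases hy with e | e
        · left; conv_lhs => rw [← e]
          group
        · right
          have h16 : σ ^ 16 = σ := by rw [show 16 = 5 * 3 + 1 from rfl, pow_succ, pow_mul, hσ5, one_pow, one_mul]
          have e4 : π y * σ ^ 4 * (π y)⁻¹ = σ := by rw [← conj_pow, e, ← pow_mul, h16]
          conv_lhs => rw [← e4]
          group
      refine mem_normalizer_iff.2 fun s => ⟨fun hs => hone y hy s hs, fun hs => ?_⟩
      have := hone y⁻¹ hyi _ hs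
      simpa [mul_assoc] using this
  set A : Set C := {y | (y : G) ∈ normalizer ((S : Subgroup G) : Set G)} with hA
  have hA50 : A.ncard = 50 := by
    let T := {τ : Alt5.A5 // τ * σ * τ⁻¹ = σ ∨ τ * σ * τ⁻¹ = σ ^ 4}
    have hs : ∀ τ : T, ∃ y, π y = τ.1 := fun τ => hπs τ.1
    choose sec hsec using hs
    let f : T × π.ker → A := fun q => ⟨sec q.1 * q.2, (hchar _).2 (by
      rw [map_mul, hsec, MonoidHom.mem_ker.1 q.2.2, mul_one]; exact q.1.2)⟩
    have hf : Function.Bijective f := by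
      refine ⟨fun q q' e => ?_, fun y => ?_⟩
      · have e' : sec q.1 * q.2 = sec q'.1 * q'.2 := congrArg Subtype.val e
        have e1 : q.1 = q'.1 := Subtype.ext (by
          have := congrArg π e'
          rwa [map_mul, map_mul, hsec, hsec, MonoidHom.mem_ker.1 q.2.2, MonoidHom.mem_ker.1 q'.2.2, mul_one,
            mul_one] at this)
        rw [e1] at e'
        exact _root_.Prod.ext e1 (Subtype.ext (mul_left_cancel e'))
      · let τ : T := ⟨π y.1, (hchar _).1 y.2⟩
        refine ⟨(τ, ⟨(sec τ)⁻¹ * y.1, ?_⟩), Subtype.ext (mul_inv_cancel_left _ _)⟩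
        rw [MonoidHom.mem_ker, map_mul, map_inv, hsec, inv_mul_cancel]
    rw [← Nat.card_coe_set_eq, ← Nat.card_eq_of_bijective f hf, Nat.card_prod, hkerc, Nat.card_eq_fintype_card,
      Alt5.five_norm_card σ hσ5 hσ1]
  -- an inverting element in `N(S)`
  obtain ⟨w, hw, hw2, hw1, hwx⟩ := P.exists_inverting hx (fun e => by
    have := orderOf_dvd_of_pow_eq_one (show x ^ 2 = 1 by rw [pow_two, e])
    rw [hx5] at this
    norm_num at this)
  have hwC : ∀ y ∈ C, w * y * w⁻¹ ∈ C := fun y hy => by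
    have hwi : x = (w * x * w⁻¹)⁻¹ := by rw [hwx, inv_inv]
    rw [hC, mem_centralizer_singleton_iff]
    have hc : Commute (w * y * w⁻¹) (w * x * w⁻¹) := by
      show w * y * w⁻¹ * (w * x * w⁻¹) = w * x * w⁻¹ * (w * y * w⁻¹)
      rw [conj_mul, conj_mul, mem_centralizer_singleton_iff.1 hy]
    have := hc.inv_right.eq
    rwa [← hwi] at this
  obtain ⟨n0, hn0, hn0x⟩ : ∃ n0 ∈ normalizer ((S : Subgroup G) : Set G), n0 * x * n0⁻¹ = x⁻¹ := by
    have hSp : IsPGroup 5 (((w • S : Sylow 5 G) : Subgroup G).subgroupOf C) :=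
      (w • S).isPGroup'.comap_of_injective _ C.subtype_injective
    obtain ⟨T1, hT1⟩ := hSp.exists_le_sylow
    have hS'p : IsPGroup 5 S' := S.isPGroup'.comap_of_injective _ C.subtype_injective
    obtain ⟨T0, hT0⟩ := hS'p.exists_le_sylow
    have hT0S : ∀ y : C, y ∈ (T0 : Subgroup C) → (y : G) ∈ (S : Subgroup G) := by
      have hmap' : (T0 : Subgroup C).map C.subtype = (S : Subgroup G) :=
        S.is_maximal' (T0.isPGroup'.map _) fun s hs => ⟨⟨s, hSC hs⟩, hT0 (mem_subgroupOf.2 hs), rfl⟩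
      exact fun y hy => hmap' ▸ ⟨y, hy, rfl⟩
    obtain ⟨c, hc⟩ := MulAction.exists_smul_eq C T1 T0
    have hcw : ∀ s ∈ (S : Subgroup G), (c : G) * w * s * ((c : G) * w)⁻¹ ∈ (S : Subgroup G) := by
      intro s hs
      have h1 : (⟨w * s * w⁻¹, hwC s (hSC hs)⟩ : C) ∈ (T1 : Subgroup C) := hT1 (mem_subgroupOf.2 (by
        rw [Sylow.coe_subgroup_smul]
        exact Subgroup.smul_mem_pointwise_smul s (MulAut.conj w) _ hs))
      have h2 := Subgroup.smul_mem_pointwise_smul _ (MulAut.conj c) _ h1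
      rw [← Sylow.coe_subgroup_smul, hc] at h2
      have h3 := hT0S _ h2
      rw [show (c : G) * w * s * ((c : G) * w)⁻¹ = (c : G) * (w * s * w⁻¹) * (c : G)⁻¹ by group]
      exact h3
    refine ⟨(c : G) * w, ?_, ?_⟩
    · refine mem_normalizer_iff.2 fun s => ⟨hcw s, fun hs => ?_⟩
      let f : ↥(S : Subgroup G) → ↥(S : Subgroup G) := fun s => ⟨_, hcw s s.2⟩
      have hf : Function.Injective f := fun a b e =>
        Subtype.ext ((MulAut.conj ((c : G) * w)).injective (congrArg Subtype.val e))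
      obtain ⟨s', hs'⟩ := (Finite.injective_iff_surjective.1 hf) ⟨_, hs⟩
      exact (MulAut.conj ((c : G) * w)).injective (congrArg Subtype.val hs') ▸ s'.2
    · calc (c : G) * w * x * ((c : G) * w)⁻¹ = (c : G) * (w * x * w⁻¹) * (c : G)⁻¹ := by group
        _ = x⁻¹ := by
          rw [hwx, (show Commute (c : G) x⁻¹ from (show Commute (c : G) x from
            mem_centralizer_singleton_iff.1 c.2).inv_right).eq, mul_inv_cancel_right]
  -- the count
  have hxne : x⁻¹ ≠ x := fun e => by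
    have := orderOf_dvd_of_pow_eq_one (show x ^ 2 = 1 by rw [pow_two]; nth_rw 1 [← e]; exact inv_mul_cancel x)
    rw [hx5] at this
    norm_num at this
  have hset : {n | n ∈ normalizer ((S : Subgroup G) : Set G) ∧
      (zpowers x).map (MulAut.conj n).toMonoidHom = zpowers x} =
      (C.subtype '' A) ∪ (fun a => n0 * a) '' (C.subtype '' A) := by
    ext n
    simp only [Set.mem_ofPred_eq, Set.mem_union, Set.mem_image, MonoidHom.map_zpowers]
    constructor
    · rintro ⟨hn, hnx⟩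
      have hm : n * x * n⁻¹ ∈ zpowers x := hnx.le (mem_zpowers _)
      rcases h.five_inv_or_cent hx hx5 hm with e | e
      · exact Or.inl ⟨⟨n, mem_centralizer_singleton_iff.2 (mul_inv_eq_iff_eq_mul.1 e)⟩, hn, rfl⟩
      · right
        have hC' : n0⁻¹ * n ∈ C := by
          rw [hC, mem_centralizer_singleton_iff]
          refine mul_inv_eq_iff_eq_mul.1 ?_
          calc n0⁻¹ * n * x * (n0⁻¹ * n)⁻¹ = n0⁻¹ * (n * x * n⁻¹) * n0 := by group
            _ = n0⁻¹ * (n0 * x * n0⁻¹) * n0 := by rw [e, hn0x]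
            _ = x := by group
        exact ⟨n0⁻¹ * n, ⟨⟨_, hC'⟩, mul_mem (inv_mem hn0) hn, rfl⟩, mul_inv_cancel_left _ _⟩
    · have hz : ∀ a : C, (a : G) * x * (a : G)⁻¹ = x := fun a => by
        rw [mem_centralizer_singleton_iff.1 a.2, mul_inv_cancel_right]
      rintro (⟨a, ha, rfl⟩ | ⟨_, ⟨a, ha, rfl⟩, rfl⟩)
      · exact ⟨ha, by show zpowers ((a : G) * x * (a : G)⁻¹) = _; rw [hz a]⟩
      · refine ⟨mul_mem hn0 ha, ?_⟩
        show zpowers (n0 * (a : G) * x * (n0 * (a : G))⁻¹) = _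
        rw [show n0 * (a : G) * x * (n0 * (a : G))⁻¹ = n0 * ((a : G) * x * (a : G)⁻¹) * n0⁻¹ by group, hz a, hn0x,
          zpowers_inv]
  have hdisj : Disjoint (C.subtype '' A) ((fun a => n0 * a) '' (C.subtype '' A)) := by
    refine Set.disjoint_left.2 ?_
    rintro _ ⟨a, -, rfl⟩ ⟨_, ⟨b, -, rfl⟩, e⟩
    have hmem : n0 ∈ C := by
      have h' : n0 = (a : G) * (b : G)⁻¹ := eq_mul_inv_of_mul_eq e
      exact h' ▸ mul_mem a.2 (inv_mem b.2)
    rw [hC, mem_centralizer_singleton_iff] at hmem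
    rw [hmem, mul_inv_cancel_right] at hn0x
    exact hxne hn0x.symm
  rw [hset, Set.ncard_union_eq hdisj (Set.toFinite _) (Set.toFinite _),
    Set.ncard_image_of_injective _ (mul_right_injective n0),
    Set.ncard_image_of_injective _ C.subtype_injective, hA50]

end Cyc

theorem five_index_cases {i : ℕ} (h1 : i ≤ 5) (h2 : 100 * i ∣ 604800) (h3 : 604800 / (100 * i) % 5 = 1) : i = 3 := by
  interval_cases i <;> omega

variable (D)

include D in
theorem sylow5_struct (S0 : Sylow 5 G) :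
    Nat.card (normalizer ((S0 : Subgroup G) : Set G)) = 300 ∧
    ∃ x c : G, orderOf x = 5 ∧ orderOf c = 5 ∧ Nat.card (centralizer ({x} : Set G)) = 300 ∧
      Nat.card (centralizer ({c} : Set G)) = 50 ∧
      (∀ g : G, zpowers (g * x * g⁻¹) ≠ zpowers c) ∧
      ∀ y : G, orderOf y = 5 → ∃ g : G, zpowers (g * y * g⁻¹) = zpowers x ∨ zpowers (g * y * g⁻¹) = zpowers c := by
  classical
  haveI : Fact (Nat.Prime 5) := ⟨Nat.prime_five⟩
  haveI : Fact (Nat.Prime 3) := ⟨Nat.prime_three⟩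
  haveI := Fintype.ofFinite G
  obtain ⟨t, ht, -⟩ := D.exists_outer
  obtain ⟨k, hk⟩ := exists_cycle ht
  set P := pairOuter ht
  obtain ⟨x, hx, hx5⟩ := P.exists_five
  obtain ⟨S, hS⟩ := D.exists_sylow5 hx5
  obtain ⟨c0, hc05, hc0z⟩ := D.exists_five_z
  obtain ⟨g0, hg0⟩ := conj_into_sylow S c0 ⟨1, by rw [hc05, pow_one]⟩
  set c := g0 * c0 * g0⁻¹ with hc
  have hc5 : orderOf c = 5 := (MulEquiv.orderOf_eq (MulAut.conj g0) c0).trans hc05
  have hcC : Nat.card (centralizer ({c} : Set G)) = 50 := by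
    rw [card_cent_isConj (isConj_iff.2 ⟨g0, rfl⟩ : IsConj c0 c), card_cent_five_z hc05 hc0z]
  have hxC := (hk.card_cent_five hx hx5).1
  have hsep : ∀ g : G, zpowers (g * x * g⁻¹) ≠ zpowers c := by
    intro g e
    have hgx5 : orderOf (g * x * g⁻¹) = 5 := (MulEquiv.orderOf_eq (MulAut.conj g) x).trans hx5
    have hc1 : c ≠ 1 := fun h => by simp [h] at hc5
    have h1 := cent_of_mem_zpowers Nat.prime_five hgx5 (e.ge (mem_zpowers c)) hc1
    rw [h1, card_cent_isConj (isConj_iff.2 ⟨g, rfl⟩ : IsConj x _), hxC] at hcC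
    omega
  set NS := normalizer ((S : Subgroup G) : Set G) with hNS
  have hS25 := D.sylow5_card S
  have hexp : ∀ p ∈ (S : Subgroup G), p ^ 5 = 1 := by
    intro p hp
    by_contra hne
    have hd : orderOf p ∣ 5 ^ 2 := by
      rw [show 5 ^ 2 = 25 from rfl, ← hS25]; exact Subgroup.orderOf_dvd_natCard _ hp
    obtain ⟨i, hi, hi'⟩ := (Nat.dvd_prime_pow Nat.prime_five).1 hd
    have hp25 : orderOf p = 25 := by
      interval_cases i
      · exact absurd (orderOf_eq_one_iff.1 (by simpa using hi')) fun e => hne (by rw [e, one_pow])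
      · exact absurd (by rw [show 5 = orderOf p by rw [hi']; rfl, pow_orderOf_eq_one]) hne
      · exact hi'
    have hgen : zpowers p = (S : Subgroup G) :=
      Subgroup.eq_of_le_of_card_ge (zpowers_le.2 hp) (by rw [Nat.card_zpowers, hp25, hS25])
    have hroot : ∀ y ∈ (S : Subgroup G), orderOf y = 5 → zpowers y = zpowers (p ^ 5) := by
      intro y hy hy5
      obtain ⟨j, rfl⟩ := (mem_powers_iff_mem_zpowers).2 (hgen.symm ▸ hy : y ∈ zpowers p)
      change orderOf (p ^ j) = 5 at hy5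
      have hd5 : 25 ∣ j * 5 := by
        rw [← hp25]
        refine orderOf_dvd_of_pow_eq_one ?_
        rw [pow_mul, ← hy5, pow_orderOf_eq_one]
      obtain ⟨l, rfl⟩ : 5 ∣ j := Nat.dvd_of_mul_dvd_mul_right (by norm_num : 0 < 5) hd5
      have h5' : orderOf (p ^ 5) = 5 := orderOf_eq_prime
        (by rw [← pow_mul, show 5 * 5 = 25 from rfl, ← hp25, pow_orderOf_eq_one]) hne
      refine zpowers_eq_of_prime Nat.prime_five h5' ⟨(l : ℤ), ?_⟩ fun e => ?_
      · show (p ^ 5) ^ (l : ℤ) = p ^ (5 * l)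
        rw [zpow_natCast, pow_mul]
      · change p ^ (5 * l) = 1 at e
        simp [e] at hy5
    exact hsep 1 (by rw [one_mul, inv_one, mul_one, hroot x hS hx5, hroot c hg0 hc5])
  have hord : ∀ p ∈ (S : Subgroup G), p ≠ 1 → orderOf p = 5 := fun p hp hp1 => orderOf_eq_prime (hexp p hp) hp1
  -- the six lines
  set L := lines (S : Subgroup G)
  have hL : L.card = 6 := by
    let A : Finset G := Finset.univ.filter fun y => y ∈ (S : Subgroup G) ∧ y ≠ 1
    have hA : A.card = 24 := by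
      have e1 : (A : Set G) = ((S : Subgroup G) : Set G) \ {1} := by
        ext y
        simp only [A, Finset.coe_filter, Finset.mem_univ, true_and, Set.mem_sdiff, Set.mem_singleton_iff,
          SetLike.mem_coe, Set.mem_ofPred_eq]
      rw [← Set.ncard_coe_finset, e1, Set.ncard_sdiff (Set.singleton_subset_iff.2 (one_mem (S : Subgroup G)))
        (Set.toFinite _), ← Nat.card_coe_set_eq, SetLike.coe_sort_coe, hS25, Set.ncard_singleton]
    have hLA : L = A.image fun y => zpowers y := by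
      ext M
      rw [mem_lines]
      simp [A]
    have hfib : ∀ M ∈ A.image (fun y => zpowers y), (A.filter fun y => zpowers y = M).card = 4 := by
      intro M hM
      obtain ⟨p, hp, rfl⟩ := Finset.mem_image.1 hM
      obtain ⟨hpS, hp1⟩ := (Finset.mem_filter.1 hp).2
      have e1 : ((A.filter fun y => zpowers y = zpowers p : Finset G) : Set G) = (zpowers p : Set G) \ {1} := by
        ext y
        simp only [A, Finset.coe_filter, Finset.mem_filter, Finset.mem_univ, true_and, Set.mem_sdiff,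
          Set.mem_singleton_iff, SetLike.mem_coe, Set.mem_ofPred_eq]
        exact ⟨fun hy => ⟨hy.2 ▸ mem_zpowers y, hy.1.2⟩, fun hy => ⟨⟨zpowers_le.2 hpS hy.1, hy.2⟩,
          zpowers_eq_of_prime Nat.prime_five (hord p hpS hp1) hy.1 hy.2⟩⟩
      rw [← Set.ncard_coe_finset, e1, Set.ncard_sdiff (Set.singleton_subset_iff.2 (one_mem (zpowers p)))
        (Set.toFinite _), ← Nat.card_coe_set_eq, SetLike.coe_sort_coe, Nat.card_zpowers, hord p hpS hp1,
        Set.ncard_singleton]
    have := Finset.card_eq_sum_card_image (fun y => zpowers y) A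
    rw [Finset.sum_congr rfl hfib, Finset.sum_const, smul_eq_mul, hA] at this
    rw [hLA]; omega
  -- the orbit of `⟨x⟩`
  let N : Finset G := Finset.univ.filter fun n => n ∈ NS
  let f : G → Subgroup G := fun n => zpowers (n * x * n⁻¹)
  let O := N.image f
  have hx1 : x ≠ 1 := fun e => by simp [e] at hx5
  have hOL : O ⊆ L := by
    intro M hM
    obtain ⟨n, hn, rfl⟩ := Finset.mem_image.1 hM
    exact mem_lines.2 ⟨_, ⟨(mem_normalizer_iff.1 (Finset.mem_filter.1 hn).2 x).1 hS,
      fun e => hx1 (conj_eq_one_iff.1 e)⟩, rfl⟩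
  have hcL : zpowers c ∈ L := mem_lines.2 ⟨c, ⟨hg0, fun e => by simp [e] at hc5⟩, rfl⟩
  have hcO : zpowers c ∉ O := fun hm => by
    obtain ⟨n, -, e⟩ := Finset.mem_image.1 hm
    exact hsep n e
  have hO5 : O.card ≤ 5 := by
    have := Finset.card_le_card (show O ⊆ L.erase (zpowers c) from fun M hM =>
      Finset.mem_erase.2 ⟨fun e => hcO (e ▸ hM), hOL hM⟩)
    rwa [Finset.card_erase_of_mem hcL, hL] at this
  have hfib : ∀ M ∈ O, (N.filter fun n => f n = M).card = 100 := by
    intro M hM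
    obtain ⟨n1, hn1, rfl⟩ := Finset.mem_image.1 hM
    have hn1' := (Finset.mem_filter.1 hn1).2
    have e1 : ((N.filter fun n => f n = f n1 : Finset G) : Set G) =
        (fun a => n1 * a) '' {n | n ∈ NS ∧ (zpowers x).map (MulAut.conj n).toMonoidHom = zpowers x} := by
      ext n
      simp only [N, Finset.coe_filter, Finset.mem_filter, Finset.mem_univ, true_and, Set.mem_image,
        Set.mem_ofPred_eq, f]
      constructor
      · rintro ⟨hn, e⟩
        refine ⟨n1⁻¹ * n, ⟨mul_mem (inv_mem hn1') hn, ?_⟩, mul_inv_cancel_left _ _⟩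
        have e' := congrArg (fun H : Subgroup G => H.map (MulAut.conj n1⁻¹).toMonoidHom) e
        simp only [MonoidHom.map_zpowers, MulEquiv.coe_toMonoidHom, MulAut.conj_apply] at e'
        rw [MonoidHom.map_zpowers]
        show zpowers (n1⁻¹ * n * x * (n1⁻¹ * n)⁻¹) = zpowers x
        rw [show n1⁻¹ * n * x * (n1⁻¹ * n)⁻¹ = n1⁻¹ * (n * x * n⁻¹) * n1⁻¹⁻¹ by group, e']
        congr 1; group
      · rintro ⟨a, ⟨ha, hax⟩, rfl⟩
        refine ⟨mul_mem hn1' ha, ?_⟩
        rw [MonoidHom.map_zpowers] at hax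
        have e' := congrArg (fun H : Subgroup G => H.map (MulAut.conj n1).toMonoidHom) hax
        simp only [MonoidHom.map_zpowers, MulEquiv.coe_toMonoidHom, MulAut.conj_apply] at e'
        rw [show n1 * a * x * (n1 * a)⁻¹ = n1 * (a * x * a⁻¹) * n1⁻¹ by group]
        exact e'
    rw [← Set.ncard_coe_finset, e1, Set.ncard_image_of_injective _ (mul_right_injective n1),
      hk.card_norm_inter hx hx5 S hS]
  have hNcard : Nat.card NS = 100 * O.card := by
    have := Finset.card_eq_sum_card_image f N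
    rw [Finset.sum_congr rfl hfib, Finset.sum_const, smul_eq_mul] at this
    rw [mul_comm, ← this, Nat.card_eq_fintype_card, Fintype.card_subtype]
  have hO3 : O.card = 3 := by
    have hdvd : 100 * O.card ∣ 604800 := by
      rw [← hNcard, ← D.card_G]; exact NS.card_subgroup_dvd_card
    refine five_index_cases hO5 hdvd ?_
    have hmod := card_sylow_modEq_one 5 G
    have hi := NS.card_mul_index
    have eS : Nat.card (Sylow 5 G) = NS.index := S.card_eq_index_normalizer
    rw [← eS, D.card_G] at hi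
    rw [← hNcard, ← hi, Nat.mul_div_cancel_left _ Nat.card_pos]
    exact hmod
  rw [hO3] at hNcard
  refine ⟨?_, x, c, hx5, hc5, hxC, hcC, hsep, ?_⟩
  · obtain ⟨g, rfl⟩ := MulAction.exists_smul_eq G S S0
    have e : (normalizer (((g • S : Sylow 5 G) : Subgroup G) : Set G)).index = NS.index :=
      (g • S).card_eq_index_normalizer.symm.trans S.card_eq_index_normalizer
    have h1 := (normalizer (((g • S : Sylow 5 G) : Subgroup G) : Set G)).card_mul_index
    have h2 := NS.card_mul_index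
    rw [e, ← h2, hNcard] at h1
    exact Nat.eq_of_mul_eq_mul_right (Nat.pos_of_ne_zero (index_ne_zero_of_finite)) h1
  -- an element of order three of `N(S)` is transitive on the other three lines
  obtain ⟨g3', hg3'⟩ := exists_prime_orderOf_dvd_card' (G := NS) 3 (by rw [hNcard]; norm_num)
  set g3 : G := (g3' : G)
  have hg3N : g3 ∈ NS := g3'.2
  have hg33 : g3 ^ 3 = 1 := by
    rw [← Subgroup.coe_pow, ← hg3', pow_orderOf_eq_one]; rfl
  have hg31 : g3 ≠ 1 := fun e => by
    have : g3' = 1 := Subtype.ext e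
    simp [this] at hg3'
  let R := L \ O
  have hR3 : R.card = 3 := by rw [Finset.card_sdiff_of_subset hOL, hL, hO3]
  let act : Subgroup G → Subgroup G := fun M => M.map (MulAut.conj g3).toMonoidHom
  have hact : ∀ p : G, act (zpowers p) = zpowers (g3 * p * g3⁻¹) := fun p => MonoidHom.map_zpowers _ _
  have hactR : ∀ M ∈ R, act M ∈ R := by
    intro M hM
    obtain ⟨hML, hMO⟩ := Finset.mem_sdiff.1 hM
    obtain ⟨p, ⟨hp, hp1⟩, rfl⟩ := mem_lines.1 hML
    refine Finset.mem_sdiff.2 ⟨mem_lines.2 ⟨_, ⟨(mem_normalizer_iff.1 hg3N p).1 hp,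
      fun e => hp1 (conj_eq_one_iff.1 e)⟩, (hact p).symm⟩, fun hm => hMO ?_⟩
    obtain ⟨n, hn, e⟩ := Finset.mem_image.1 hm
    refine Finset.mem_image.2 ⟨g3⁻¹ * n, Finset.mem_filter.2 ⟨Finset.mem_univ _,
      mul_mem (inv_mem hg3N) (Finset.mem_filter.1 hn).2⟩, ?_⟩
    rw [hact] at e
    have e' := congrArg (fun H : Subgroup G => H.map (MulAut.conj g3⁻¹).toMonoidHom) e
    simp only [MonoidHom.map_zpowers, MulEquiv.coe_toMonoidHom, MulAut.conj_apply, f] at e'
    show zpowers (g3⁻¹ * n * x * (g3⁻¹ * n)⁻¹) = zpowers p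
    rw [show g3⁻¹ * n * x * (g3⁻¹ * n)⁻¹ = g3⁻¹ * (n * x * n⁻¹) * g3⁻¹⁻¹ by group, e']
    congr 1; group
  obtain ⟨Y, hY, hYne⟩ : ∃ Y ∈ R, act Y ≠ Y := by
    by_contra hcon
    push Not at hcon
    obtain ⟨M1, hM1, M2, hM2, hne⟩ := Finset.one_lt_card.1 (show 1 < R.card by rw [hR3]; norm_num)
    obtain ⟨p, ⟨hp, hp1⟩, rfl⟩ := mem_lines.1 (Finset.mem_sdiff.1 hM1).1
    obtain ⟨q, ⟨hq, hq1⟩, rfl⟩ := mem_lines.1 (Finset.mem_sdiff.1 hM2).1
    have hfp : ∀ y ∈ (S : Subgroup G), zpowers y ∈ R → g3 * y = y * g3 := fun y hy hm => by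
      refine fix_of_three (hexp y hy) hg33 ?_
      exact ((hact y).symm.trans (hcon _ hm)).le (mem_zpowers _)
    have h1 := hfp p hp hM1
    have h2 := hfp q hq hM2
    set U : Subgroup G := (S : Subgroup G) ⊓ centralizer {g3}
    have hpU : p ∈ U := ⟨hp, mem_centralizer_singleton_iff.2 h1.symm⟩
    have hqU : q ∈ U := ⟨hq, mem_centralizer_singleton_iff.2 h2.symm⟩
    have hUS : U = (S : Subgroup G) := by
      have hd := card_dvd_of_le (inf_le_left : U ≤ (S : Subgroup G))
      rw [hS25] at hd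
      obtain ⟨i, hi, hi'⟩ := (Nat.dvd_prime_pow Nat.prime_five).1 (show Nat.card U ∣ 5 ^ 2 from hd)
      refine Subgroup.eq_of_le_of_card_ge inf_le_left ?_
      interval_cases i
      · exact absurd ((card_eq_one.1 hi') ▸ hpU : p ∈ (⊥ : Subgroup G)) hp1
      · exfalso
        apply hne
        have e : zpowers p = U := Subgroup.eq_of_le_of_card_ge (zpowers_le.2 hpU)
          (by rw [hi', Nat.card_zpowers, hord p hp hp1]; norm_num)
        have e2 : zpowers q = U := Subgroup.eq_of_le_of_card_ge (zpowers_le.2 hqU)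
          (by rw [hi', Nat.card_zpowers, hord q hq hq1]; norm_num)
        exact e.trans e2.symm
      · rw [hi', hS25]; norm_num
    have hm : g3 ∈ (S : Subgroup G) := by
      rw [← D.sylow5_self S]
      exact mem_centralizer_iff.2 fun s hs => mem_centralizer_singleton_iff.1 (hUS.ge hs).2
    have := Subgroup.orderOf_dvd_natCard _ hm
    rw [hS25, orderOf_eq_prime hg33 hg31] at this
    norm_num at this
  have hact3 : ∀ M, act (act (act M)) = M := fun M => by
    show ((M.map _).map _).map _ = M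
    rw [Subgroup.map_map, Subgroup.map_map]
    convert Subgroup.map_id M using 2
    refine MonoidHom.ext fun y => ?_
    show g3 * (g3 * (g3 * y * g3⁻¹) * g3⁻¹) * g3⁻¹ = y
    have e3 : g3 * (g3 * (g3 * y * g3⁻¹) * g3⁻¹) * g3⁻¹ = g3 ^ 3 * y * (g3 ^ 3)⁻¹ := by
      simp only [pow_succ, pow_zero, one_mul, mul_inv_rev, mul_assoc]
    rw [e3, hg33, one_mul, inv_one, mul_one]
  have hRY : ∀ M ∈ R, M = Y ∨ M = act Y ∨ M = act (act Y) := by
    have hne2 : act (act Y) ≠ act Y := fun e => hYne (by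
      have := congrArg (fun M => act (act M)) e
      simp only [hact3] at this
      exact this)
    have hne3 : act (act Y) ≠ Y := fun e => hYne (by
      have := congrArg act e
      rw [hact3] at this
      exact this.symm)
    have hsub : ({Y, act Y, act (act Y)} : Finset (Subgroup G)) = R := by
      refine Finset.eq_of_subset_of_card_le ?_ ?_
      · intro M hM
        simp only [Finset.mem_insert, Finset.mem_singleton] at hM
        rcases hM with rfl | rfl | rfl
        exacts [hY, hactR _ hY, hactR _ (hactR _ hY)]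
      · rw [hR3, Finset.card_insert_of_notMem (by simp [Ne.symm hYne, Ne.symm hne3]),
          Finset.card_pair (Ne.symm hne2)]
    intro M hM
    rw [← hsub] at hM
    simpa using hM
  -- all lines of `R` are conjugate
  have hconj3 : ∀ M ∈ R, ∃ g : G, M.map (MulAut.conj g).toMonoidHom = Y := by
    intro M hM
    rcases hRY M hM with rfl | rfl | rfl
    · refine ⟨1, ?_⟩
      convert Subgroup.map_id M using 2
      ext y
      simp
    · refine ⟨g3⁻¹, ?_⟩
      rw [Subgroup.map_map]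
      convert Subgroup.map_id Y using 2
      ext y
      simp [mul_assoc]
    · refine ⟨g3⁻¹ * g3⁻¹, ?_⟩
      rw [Subgroup.map_map, Subgroup.map_map]
      convert Subgroup.map_id Y using 2
      ext y
      simp [mul_assoc]
  intro y hy
  obtain ⟨g, hg⟩ := conj_into_sylow S y ⟨1, by rw [hy, pow_one]⟩
  have hy1 : g * y * g⁻¹ ≠ 1 := fun e => by simp [conj_eq_one_iff.1 e] at hy
  have hmL : zpowers (g * y * g⁻¹) ∈ L := mem_lines.2 ⟨_, ⟨hg, hy1⟩, rfl⟩
  have hmap : ∀ (a : G) (w : G), (zpowers w).map (MulAut.conj a).toMonoidHom = zpowers (a * w * a⁻¹) :=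
    fun a w => MonoidHom.map_zpowers _ _
  by_cases hO : zpowers (g * y * g⁻¹) ∈ O
  · obtain ⟨n, -, e⟩ := Finset.mem_image.1 hO
    refine ⟨n⁻¹ * g, Or.inl ?_⟩
    have e' := congrArg (fun H : Subgroup G => H.map (MulAut.conj n⁻¹).toMonoidHom) e
    simp only [f, hmap] at e'
    rw [show n⁻¹ * g * y * (n⁻¹ * g)⁻¹ = n⁻¹ * (g * y * g⁻¹) * n⁻¹⁻¹ by group, ← e']
    congr 1; group
  · obtain ⟨a1, ha1⟩ := hconj3 _ (Finset.mem_sdiff.2 ⟨hmL, hO⟩)
    obtain ⟨a2, ha2⟩ := hconj3 _ (Finset.mem_sdiff.2 ⟨hcL, hcO⟩)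
    refine ⟨a2⁻¹ * a1 * g, Or.inr ?_⟩
    rw [hmap] at ha1 ha2
    have e' := congrArg (fun H : Subgroup G => H.map (MulAut.conj a2⁻¹).toMonoidHom) (ha1.trans ha2.symm)
    simp only [hmap] at e'
    rw [show a2⁻¹ * a1 * g * y * (a2⁻¹ * a1 * g)⁻¹ = a2⁻¹ * (a1 * (g * y * g⁻¹) * a1⁻¹) * a2⁻¹⁻¹ by group, e']
    congr 1; group

include D in
theorem five_cases {y : G} (hy : orderOf y = 5) :
    Nat.card (centralizer ({y} : Set G)) = 300 ∨ Nat.card (centralizer ({y} : Set G)) = 50 := by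
  obtain ⟨S, -⟩ := D.exists_sylow5 hy
  obtain ⟨-, x, c, hx, hc, hxC, hcC, -, hall⟩ := D.sylow5_struct S
  obtain ⟨g, hg⟩ := hall y hy
  have hgy : orderOf (g * y * g⁻¹) = 5 := (MulEquiv.orderOf_eq (MulAut.conj g) y).trans hy
  rw [← card_cent_isConj (isConj_iff.2 ⟨g, rfl⟩ : IsConj y _)]
  rcases hg with e | e
  · left
    rw [cent_of_mem_zpowers Nat.prime_five hx (e.le (mem_zpowers _)) (fun h => by simp [h] at hgy), hxC]
  · right
    rw [cent_of_mem_zpowers Nat.prime_five hc (e.le (mem_zpowers _)) (fun h => by simp [h] at hgy), hcC]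

end Data

end Cfsg.Agent.JTwoType
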