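import Cfsg.Agent.Lib.JTwoType.Cycle

/-!
# Groups of Hall-Janko type: the normaliser of `V`

* `Cyc.normalizer_decomp`: `N(V) = (V ⟨k⟩) × B`
* `Data.pair_facts`: the isomorphism types of `C(t)` and `N(V)`
-/

set_option autoImplicit false
set_option linter.unusedSectionVars false
set_option linter.style.haveILetI false
set_option maxHeartbeats 800000

namespace Cfsg.Agent.JTwoType

open Cfsg Subgroup OrderJTwo
open scoped commutatorElement

variable {G : Type*} [Group G] [Finite G]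

theorem zpow_mod_three {k : G} (hk : k ^ 3 = 1) {n : ℤ} : k ^ (n % 3) = k ^ n := by
  conv_rhs => rw [← Int.emod_add_mul_ediv n 3, zpow_add, zpow_mul]
  rw [show k ^ (3 : ℤ) = 1 by rw [show (3 : ℤ) = ((3 : ℕ) : ℤ) from rfl, zpow_natCast, hk], one_zpow, mul_one]

namespace Data

variable {D : Data G}

/-- For an arbitrary pair there is a cycling element. -/
theorem exists_cyc {a : G} (P : D.Pair a) : ∃ k, Cyc P k := by
  obtain ⟨t, ht, -⟩ := D.exists_outer
  obtain ⟨k, hk⟩ := exists_cycle ht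
  have ha2 : orderOf a = 2 := P.ord_V P.aV P.ne_one
  obtain ⟨c, hc⟩ := isConj_iff.1 ((D.classes ht ha2).resolve_left P.notz)
  set R := pairOuter ht
  have hC : centralizer ({a} : Set G) = (centralizer ({t} : Set G)).map (MulAut.conj c).toMonoidHom := by
    rw [← cent_conj, hc]
  have hmem : ∀ x, x ∈ centralizer ({a} : Set G) ↔ c⁻¹ * x * c ∈ centralizer ({t} : Set G) := fun x => by
    rw [hC, mem_map_equiv, MulAut.conj_symm_apply]
  have hV : ∀ x, x ∈ P.V ↔ c⁻¹ * x * c ∈ R.V := fun x => by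
    rw [P.mem_V_iff, R.mem_V_iff, hmem]
    refine and_congr_right fun _ => ⟨fun h y hy => ?_, fun h y hy => ?_⟩
    · have e := h (c * y * c⁻¹) ((hmem _).2 (by simpa [mul_assoc] using hy))
      calc c⁻¹ * x * c * y = c⁻¹ * (x * (c * y * c⁻¹)) * c := by group
        _ = y * (c⁻¹ * x * c) := by rw [e]; group
    · have e := h _ ((hmem y).1 hy)
      calc x * y = c * (c⁻¹ * x * c * (c⁻¹ * y * c)) * c⁻¹ := by group
        _ = y * x := by rw [e]; group
  refine ⟨c * k * c⁻¹, ⟨by rw [conj_pow, hk.k3, mul_one, mul_inv_cancel], fun v hv => ?_, fun b hb => ?_,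
    fun e => hk.moves ?_⟩⟩
  · refine (hV _).2 ?_
    rw [show c⁻¹ * (c * k * c⁻¹ * v * (c * k * c⁻¹)⁻¹) * c = k * (c⁻¹ * v * c) * k⁻¹ by group]
    exact hk.normV _ ((hV v).1 hv)
  · -- `B` is spanned by `z`-involutions, so it is transported
    have hb' : c⁻¹ * b * c ∈ R.B := by
      have key : ∀ u ∈ P.B, u * u = 1 → c⁻¹ * u * c ∈ R.B := fun u hu hu2 => by
        by_cases h1 : u = 1
        · simp [h1]
        · exact R.mem_B_of_z ((hmem u).1 (P.hBC hu))
            ((P.classB u hu (orderOf_eq_prime (by rw [pow_two, hu2]) h1)).trans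
              (isConj_iff.2 ⟨c⁻¹, by rw [inv_inv]⟩))
      obtain ⟨u, hu, w, hw, hu2, hw2, rfl⟩ := P.B_gen hb
      rw [show c⁻¹ * (u * w) * c = c⁻¹ * u * c * (c⁻¹ * w * c) by group]
      exact mul_mem (key u hu hu2) (key w hw hw2)
    have e := hk.centB _ hb'
    calc c * k * c⁻¹ * b = c * (k * (c⁻¹ * b * c)) * c⁻¹ := by group
      _ = b * (c * k * c⁻¹) := by rw [e]; group
  · rw [← hc] at e
    exact (MulAut.conj c).injective (show c * (k * t * k⁻¹) * c⁻¹ = c * t * c⁻¹ by rw [← e]; group)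

namespace Cyc

variable {t : G} {P : D.Pair t} {k : G} (h : Cyc P k)

include h in
theorem k_ne_one : k ≠ 1 := fun e => h.moves (by rw [e, one_mul, inv_one, mul_one])

include h in
theorem k_ord : orderOf k = 3 :=
  haveI : Fact (Nat.Prime 3) := ⟨Nat.prime_three⟩
  orderOf_eq_prime h.k3 h.k_ne_one

include h in
theorem V_eq {v : G} (hv : v ∈ P.V) (hv1 : v ≠ 1) :
    v = t ∨ v = k * t * k⁻¹ ∨ v = k * (k * t * k⁻¹) * k⁻¹ := by
  by_contra hc
  simp only [not_or] at hc
  have h1 := h.normV t P.aV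
  have h2 := h.normV _ h1
  have hne : k * (k * t * k⁻¹) * k⁻¹ ≠ t := fun e => h.moves (by
    calc k * t * k⁻¹ = k * (k * (k * t * k⁻¹) * k⁻¹) * k⁻¹ := by rw [e]
      _ = k ^ 3 * t * (k ^ 3)⁻¹ := by simp only [pow_succ, pow_zero, one_mul, mul_inv_rev, mul_assoc]
      _ = t := by rw [h.k3, one_mul, inv_one, mul_one])
  have h5 : ({1, t, k * t * k⁻¹, k * (k * t * k⁻¹) * k⁻¹, v} : Set G) ⊆ P.V := by
    rintro y (rfl | rfl | rfl | rfl | rfl)
    exacts [one_mem _, P.aV, h1, h2, hv]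
  have := Set.ncard_le_ncard h5 (Set.toFinite _)
  rw [← Nat.card_coe_set_eq (P.V : Set G), SetLike.coe_sort_coe, P.cardV,
    Set.ncard_insert_of_notMem (by
      simp only [Set.mem_insert_iff, Set.mem_singleton_iff, not_or]
      exact ⟨Ne.symm P.ne_one, fun e => P.ne_one (conj_eq_one_iff.1 e.symm),
        fun e => P.ne_one (conj_eq_one_iff.1 (conj_eq_one_iff.1 e.symm)), Ne.symm hv1⟩),
    Set.ncard_insert_of_notMem (by
      simp only [Set.mem_insert_iff, Set.mem_singleton_iff, not_or]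
      exact ⟨Ne.symm h.moves, Ne.symm hne, Ne.symm hc.1⟩),
    Set.ncard_insert_of_notMem (by
      simp only [Set.mem_insert_iff, Set.mem_singleton_iff, not_or]
      exact ⟨fun e => h.moves ((MulAut.conj k).injective e).symm, Ne.symm hc.2.1⟩),
    Set.ncard_pair (Ne.symm hc.2.2)] at this
  omega

/-- `V ⟨k⟩` -/
def M (_h : Cyc P k) : Subgroup G := P.V ⊔ zpowers k

include h in
theorem k_mem_norm : k ∈ normalizer (P.V : Set G) := by
  refine mem_normalizer_iff.2 fun x => ⟨h.normV x, fun hx => ?_⟩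
  have h2 := h.normV _ (h.normV _ hx)
  rwa [show k * (k * (k * x * k⁻¹) * k⁻¹) * k⁻¹ = k ^ 3 * x * (k ^ 3)⁻¹ by
    simp only [pow_succ, pow_zero, one_mul, mul_inv_rev, mul_assoc], h.k3, one_mul, inv_one, mul_one] at h2

theorem V_le_M : P.V ≤ h.M := le_sup_left

theorem k_mem_M : k ∈ h.M := (le_sup_right : zpowers k ≤ P.V ⊔ zpowers k) (mem_zpowers k)

theorem mem_M {x : G} (hx : x ∈ h.M) : ∃ v ∈ P.V, ∃ j : Fin 3, x = v * k ^ (j : ℕ) := by
  rw [Cyc.M, ← SetLike.mem_coe,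
    Subgroup.coe_mul_of_right_le_normalizer_left P.V (zpowers k) (zpowers_le.2 h.k_mem_norm)] at hx
  obtain ⟨v, hv, y, hy, rfl⟩ := hx
  obtain ⟨n, rfl⟩ := mem_zpowers_iff.1 hy
  refine ⟨v, hv, ⟨(n % 3).toNat, by omega⟩, ?_⟩
  show v * k ^ n = v * k ^ (n % 3).toNat
  rw [← zpow_natCast k (n % 3).toNat, Int.toNat_of_nonneg (by omega), zpow_mod_three h.k3]

include h in
theorem pow_notMem {j : ℕ} (hj : j < 3) (hm : k ^ j ∈ centralizer ({t} : Set G)) : j = 0 := by
  by_contra h0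
  apply h.moves
  have hc : Commute (k ^ j) t := mem_centralizer_singleton_iff.1 hm
  have hk : Commute k t := by
    obtain rfl | rfl : j = 1 ∨ j = 2 := by omega
    · simpa using hc
    · have := hc.pow_left 2
      rwa [← pow_mul, pow_succ, show k ^ 3 = 1 from h.k3, one_mul] at this
  rw [hk.eq, mul_inv_cancel_right]

theorem card_M : Nat.card h.M = 12 := by
  let f : P.V × Fin 3 → h.M := fun p => ⟨p.1 * k ^ (p.2 : ℕ), mul_mem (h.V_le_M p.1.2) (pow_mem h.k_mem_M _)⟩
  have hf : Function.Bijective f := by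
    refine ⟨?_, fun x => ?_⟩
    · rintro ⟨v, i⟩ ⟨w, j⟩ e
      have e' : (v : G) * k ^ (i : ℕ) = w * k ^ (j : ℕ) := congrArg Subtype.val e
      obtain ⟨d, hd3, hd⟩ : ∃ d : ℕ, d < 3 ∧ k ^ (i : ℕ) = k ^ d * k ^ (j : ℕ) := by
        refine ⟨((i : ℕ) + 2 * j) % 3, Nat.mod_lt _ (by norm_num), ?_⟩
        rw [← pow_add, ← pow_mod_orderOf k (_ + _), ← pow_mod_orderOf k (i : ℕ), h.k_ord]
        congr 1; omega
      rw [hd, ← mul_assoc] at e'
      have e2 : (v : G) * k ^ d = w := mul_right_cancel e'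
      have hdm : k ^ d ∈ P.V := by
        rw [show k ^ d = (v : G)⁻¹ * w by rw [← e2, inv_mul_cancel_left]]
        exact mul_mem (inv_mem v.2) w.2
      obtain rfl := h.pow_notMem hd3 (P.hVC hdm)
      rw [pow_zero, mul_one] at e2
      obtain rfl : v = w := Subtype.ext e2
      have e3 : k ^ (i : ℕ) = k ^ (j : ℕ) := by rw [hd, pow_zero, one_mul]
      rw [pow_eq_pow_iff_modEq, h.k_ord, Nat.ModEq, Nat.mod_eq_of_lt i.2, Nat.mod_eq_of_lt j.2] at e3
      obtain rfl : i = j := Fin.ext e3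
      rfl
    · obtain ⟨v, hv, j, e⟩ := h.mem_M x.2
      exact ⟨(⟨v, hv⟩, j), Subtype.ext e.symm⟩
  rw [← Nat.card_eq_of_bijective f hf, Nat.card_prod, P.cardV, Nat.card_eq_fintype_card, Fintype.card_fin]

theorem M_comm_B {m : G} (hm : m ∈ h.M) {b : G} (hb : b ∈ P.B) : m * b = b * m := by
  obtain ⟨v, hv, j, rfl⟩ := h.mem_M hm
  exact ((show Commute v b from P.comm v hv b hb).mul_left ((show Commute k b from h.centB b hb).pow_left _)).eq

theorem M_inf_B {m : G} (hm : m ∈ h.M) (hb : m ∈ P.B) : m = 1 :=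
  P.centerB hb fun _ hy => h.M_comm_B hm hy

theorem M_le_norm : h.M ≤ normalizer (P.V : Set G) := sup_le le_normalizer (zpowers_le.2 h.k_mem_norm)

theorem B_le_norm : P.B ≤ normalizer (P.V : Set G) := fun b hb =>
  centralizer_le_normalizer _ (mem_centralizer_iff.2 fun v hv => P.comm v hv b hb)

/-- `N(V)` is `(V⟨k⟩) B` -/
theorem normalizer_decomp {n : G} (hn : n ∈ normalizer (P.V : Set G)) :
    ∃ m ∈ h.M, ∃ b ∈ P.B, n = m * b := by
  have ht' : n * t * n⁻¹ ∈ P.V := (mem_normalizer_iff.1 hn t).1 P.aV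
  have hne : n * t * n⁻¹ ≠ 1 := fun e => P.ne_one (conj_eq_one_iff.1 e)
  obtain ⟨j, hj⟩ : ∃ j : ℕ, n * t * n⁻¹ = k ^ j * t * (k ^ j)⁻¹ := by
    rcases h.V_eq ht' hne with e | e | e
    · exact ⟨0, by rw [e]; simp⟩
    · exact ⟨1, by rw [e, pow_one]⟩
    · exact ⟨2, by rw [e]; simp only [pow_two, mul_inv_rev, mul_assoc]⟩
  have hC : (k ^ j)⁻¹ * n ∈ centralizer ({t} : Set G) := by
    rw [mem_centralizer_singleton_iff]
    calc (k ^ j)⁻¹ * n * t = (k ^ j)⁻¹ * (n * t * n⁻¹) * n := by group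
      _ = t * ((k ^ j)⁻¹ * n) := by rw [hj]; group
  obtain ⟨v, hv, b, hb, e⟩ := P.decomp hC
  exact ⟨k ^ j * v, mul_mem (pow_mem h.k_mem_M _) (h.V_le_M hv), b, hb, by rw [mul_assoc, ← e, mul_inv_cancel_left]⟩

/-- `N(V) ≅ (V⟨k⟩) × B` -/
noncomputable def normEquiv : h.M × P.B ≃* normalizer (P.V : Set G) :=
  MulEquiv.ofBijective
    ({ toFun := fun p => ⟨(p.1 : G) * p.2, mul_mem (h.M_le_norm p.1.2) (Cyc.B_le_norm p.2.2)⟩
       map_one' := Subtype.ext (one_mul 1)
       map_mul' := fun p q => Subtype.ext (by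
         show ((p.1 : G) * q.1) * ((p.2 : G) * q.2) = p.1 * p.2 * (q.1 * q.2)
         rw [mul_assoc, ← mul_assoc (q.1 : G), h.M_comm_B q.1.2 p.2.2]; group) } : h.M × P.B →* _)
    ⟨(injective_iff_map_eq_one _).2 fun p hp => by
      have e : (p.1 : G) * p.2 = 1 := congrArg Subtype.val hp
      have h1 : (p.1 : G) = 1 := h.M_inf_B p.1.2 (by
        rw [eq_inv_of_mul_eq_one_left e]; exact inv_mem p.2.2)
      rw [h1, one_mul] at e
      exact _root_.Prod.ext (Subtype.ext h1) (Subtype.ext e),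
    fun n => by
      obtain ⟨m, hm, b, hb, e⟩ := h.normalizer_decomp n.2
      exact ⟨(⟨m, hm⟩, ⟨b, hb⟩), Subtype.ext e.symm⟩⟩

theorem M_iso : Nonempty (h.M ≃* alternatingGroup (Fin 4)) := by
  classical
  set K : Subgroup h.M := (zpowers k).subgroupOf h.M with hK
  have hkM : zpowers k ≤ h.M := zpowers_le.2 h.k_mem_M
  have hKcard : Nat.card K = 3 := by
    rw [Nat.card_congr (subgroupOfEquivOfLe hkM).toEquiv, Nat.card_zpowers, h.k_ord]
  have hidx : K.index = 4 := by
    have := K.card_mul_index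
    rw [hKcard, h.card_M] at this
    omega
  let e : (h.M ⧸ K) ≃ Fin 4 := (Finite.equivFin _).trans (finCongr (by rw [← Subgroup.index_eq_card, hidx]))
  let φ : h.M →* Equiv.Perm (Fin 4) := e.permCongrHom.toMonoidHom.comp (MulAction.toPermHom h.M (h.M ⧸ K))
  have hφ : Function.Injective φ := by
    refine (injective_iff_map_eq_one _).2 fun g hg => ?_
    have hg' : g ∈ K.normalCore := by
      rw [Subgroup.normalCore_eq_ker, MonoidHom.mem_ker]
      exact e.permCongrHom.injective (hg.trans (map_one _).symm)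
    by_contra hg1
    have hle : K.normalCore ≤ K := normalCore_le K
    have heq : K.normalCore = K := by
      refine Subgroup.eq_of_le_of_card_ge hle ?_
      rcases (Nat.dvd_prime Nat.prime_three).1 (hKcard ▸ card_dvd_of_le hle) with e1 | e1
      · exfalso
        exact hg1 (mem_bot.1 ((card_eq_one.1 e1) ▸ hg'))
      · rw [e1, hKcard]
    have hn : K.Normal := heq ▸ normalCore_normal K
    let t' : h.M := ⟨t, h.V_le_M P.aV⟩
    let k' : h.M := ⟨k, h.k_mem_M⟩
    have hm := hn.conj_mem k' (mem_subgroupOf.2 (mem_zpowers k)) t'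
    rw [hK, mem_subgroupOf] at hm
    have hm' : t * k * t⁻¹ * k⁻¹ ∈ zpowers k := mul_mem hm (inv_mem (mem_zpowers k))
    have hV' : t * k * t⁻¹ * k⁻¹ ∈ P.V := by
      rw [show t * k * t⁻¹ * k⁻¹ = t * (k * t⁻¹ * k⁻¹) by group]
      exact mul_mem P.aV (h.normV _ (inv_mem P.aV))
    obtain ⟨d, hd3, hd⟩ : ∃ d : ℕ, d < 3 ∧ k ^ d = t * k * t⁻¹ * k⁻¹ := by
      obtain ⟨n, hn⟩ := (mem_powers_iff_mem_zpowers).2 hm'
      exact ⟨n % 3, Nat.mod_lt _ (by norm_num), by rw [← hn, ← h.k_ord, pow_mod_orderOf]⟩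
    obtain rfl := h.pow_notMem hd3 (hd ▸ P.hVC hV')
    rw [pow_zero] at hd
    apply h.moves
    calc k * t * k⁻¹ = (t * k * t⁻¹ * k⁻¹)⁻¹ * t := by group
      _ = t := by rw [← hd, inv_one, one_mul]
  have hrange : φ.range = alternatingGroup (Fin 4) := by
    refine Equiv.Perm.eq_alternatingGroup_of_index_eq_two ?_
    have h1 := φ.range.card_mul_index
    rw [← Nat.card_congr (MonoidHom.ofInjective hφ).toEquiv, h.card_M, Nat.card_perm, Nat.card_eq_fintype_card,
      Fintype.card_fin] at h1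
    have : Nat.factorial 4 = 24 := rfl
    omega
  exact ⟨(MonoidHom.ofInjective hφ).trans (MulEquiv.subgroupCongr hrange)⟩

end Cyc

namespace Pair

variable {t : G} (P : D.Pair t)

theorem V_iso : Nonempty (P.V ≃* Multiplicative (ZMod 2) × Multiplicative (ZMod 2)) := by
  haveI : IsKleinFour P.V := by
    refine ⟨P.cardV, ?_⟩
    refine Nat.dvd_antisymm (Monoid.exponent_dvd_of_forall_pow_eq_one fun v => Subtype.ext ?_) ?_
    · rw [Subgroup.coe_pow, pow_two]; exact P.sqV v v.2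
    · have : orderOf (⟨t, P.aV⟩ : P.V) = 2 := by
        rw [Subgroup.orderOf_mk]; exact P.ord_V P.aV P.ne_one
      exact this ▸ Monoid.order_dvd_exponent _
  haveI : IsKleinFour (Multiplicative (ZMod 2) × Multiplicative (ZMod 2)) := by
    refine ⟨by simp, ?_⟩
    refine Nat.dvd_antisymm (Monoid.exponent_dvd_of_forall_pow_eq_one (by decide)) ?_
    have h2 : orderOf ((Multiplicative.ofAdd 1, 1) : Multiplicative (ZMod 2) × Multiplicative (ZMod 2)) = 2 :=
      orderOf_eq_prime (by decide) (by decide)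
    have h := Monoid.order_dvd_exponent ((Multiplicative.ofAdd 1, 1) : Multiplicative (ZMod 2) × Multiplicative (ZMod 2))
    generalize Monoid.exponent (Multiplicative (ZMod 2) × Multiplicative (ZMod 2)) = e at h ⊢
    rwa [h2] at h
  exact IsKleinFour.nonempty_mulEquiv

/-- `C(t) ≅ V × B` -/
noncomputable def centEquiv : P.V × P.B ≃* centralizer ({t} : Set G) :=
  MulEquiv.ofBijective
    ({ toFun := fun p => ⟨(p.1 : G) * p.2, mul_mem (P.hVC p.1.2) (P.hBC p.2.2)⟩
       map_one' := Subtype.ext (one_mul 1)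
       map_mul' := fun p q => Subtype.ext (by
         show ((p.1 : G) * q.1) * ((p.2 : G) * q.2) = p.1 * p.2 * (q.1 * q.2)
         rw [mul_assoc, ← mul_assoc (q.1 : G), P.comm q.1 q.1.2 p.2 p.2.2]; group) } : P.V × P.B →* _)
    ⟨fun p q e => by
      obtain ⟨e1, e2⟩ := P.unique p.1.2 q.1.2 p.2.2 q.2.2 (congrArg Subtype.val e)
      exact _root_.Prod.ext (Subtype.ext e1) (Subtype.ext e2),
    fun x => by
      obtain ⟨v, hv, b, hb, e⟩ := P.decomp x.2
      exact ⟨(⟨v, hv⟩, ⟨b, hb⟩), Subtype.ext e.symm⟩⟩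

theorem pCore_eq :
    (Cfsg.pCore 2 (centralizer ({t} : Set G))).map (centralizer ({t} : Set G)).subtype = P.V := by
  haveI : Fact (Nat.Prime 2) := ⟨Nat.prime_two⟩
  set C := centralizer ({t} : Set G) with hC
  refine le_antisymm ?_ ?_
  · rw [map_le_iff_le_comap]
    refine sSup_le fun N hN => ?_
    obtain ⟨hNn, hNp⟩ := hN
    haveI := hNn
    intro x hx
    obtain ⟨e⟩ := P.iso
    let π : C →* alternatingGroup (Fin 5) :=
      e.toMonoidHom.comp ((MonoidHom.snd P.V P.B).comp P.centEquiv.symm.toMonoidHom)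
    have hπ : Function.Surjective π :=
      fun y => ⟨P.centEquiv (1, e.symm y), by
        show e (P.centEquiv.symm (P.centEquiv (1, e.symm y))).2 = y
        rw [MulEquiv.symm_apply_apply, MulEquiv.apply_symm_apply]⟩
    have hNn' : (N.map π).Normal := hNn.map π hπ
    rcases hNn'.eq_bot_or_eq_top with hb | htop
    · show (x : G) ∈ P.V
      have h1 : π x = 1 := mem_bot.1 (hb ▸ ⟨x, hx, rfl⟩)
      have h2 : (P.centEquiv.symm x).2 = 1 := e.injective (h1.trans (map_one e).symm)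
      have h3 := congrArg Subtype.val (P.centEquiv.apply_symm_apply x)
      change ((P.centEquiv.symm x).1 : G) * (P.centEquiv.symm x).2 = x at h3
      rw [h2, Subgroup.coe_one, mul_one] at h3
      exact h3 ▸ (P.centEquiv.symm x).1.2
    · exfalso
      obtain ⟨n, hn⟩ := IsPGroup.iff_card.1 (hNp.map π)
      rw [htop, card_top, Alt5.card_A5] at hn
      have : 3 ∣ 2 ^ n := hn ▸ (by norm_num)
      exact absurd (Nat.prime_three.dvd_of_dvd_pow this) (by norm_num)
  · intro v hv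
    refine ⟨⟨v, P.hVC hv⟩, le_sSup (?_ : P.V.subgroupOf C ∈ _) (mem_subgroupOf.2 hv), rfl⟩
    refine ⟨⟨fun x hx g => mem_subgroupOf.2 ?_⟩, IsPGroup.of_card (n := 2) ?_⟩
    · show (g : G) * x * (g : G)⁻¹ ∈ P.V
      rw [← (P.mem_V_iff.1 (mem_subgroupOf.1 hx)).2 g g.2, mul_inv_cancel_right]
      exact mem_subgroupOf.1 hx
    · rw [Nat.card_congr (subgroupOfEquivOfLe P.hVC).toEquiv, P.cardV]; rfl

end Pair

theorem pair_facts {a : G} (ha : orderOf a = 2) (haz : ¬ IsConj D.z a) :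
    Nonempty (centralizer ({a} : Set G) ≃*
      (Multiplicative (ZMod 2) × Multiplicative (ZMod 2)) × alternatingGroup (Fin 5)) ∧
    Nonempty (normalizer (((Cfsg.pCore 2 (centralizer ({a} : Set G))).map
      (centralizer ({a} : Set G)).subtype : Subgroup G) : Set G) ≃*
        alternatingGroup (Fin 4) × alternatingGroup (Fin 5)) := by
  obtain ⟨P⟩ := exists_pair ha haz
  obtain ⟨k, hk⟩ := exists_cyc P
  obtain ⟨eB⟩ := P.iso
  obtain ⟨eV⟩ := P.V_iso
  obtain ⟨eM⟩ := hk.M_iso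
  rw [P.pCore_eq]
  exact ⟨⟨P.centEquiv.symm.trans (eV.prodCongr eB)⟩, ⟨hk.normEquiv.symm.trans (eM.prodCongr eB)⟩⟩

end Data

end Cfsg.Agent.JTwoType
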