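import Cfsg.Agent.Lib.JTwoType.CentTStruct
import Cfsg.Agent.S0213

/-!
# Groups of Hall-Janko type: the order

* `Data.prod`: the centraliser of an outer involution is always of shape `2^2 × A5`
* `Data.card_G`: the order is `604800`
-/

set_option autoImplicit false
set_option linter.unusedSectionVars false
set_option linter.style.haveILetI false
set_option maxHeartbeats 800000

namespace Cfsg.Agent.JTwoType

open Cfsg Subgroup OrderJTwo
open scoped commutatorElement

variable {G : Type*} [Group G] [Finite G]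

namespace Alt5

theorem pow15_or : ∀ x : A5, x * x = 1 ∨ x ^ 15 = 1 := by decide +kernel

theorem pow15_iff : ∀ x : A5, x ^ 15 = 1 ↔ (x = 1 ∨ x * x ≠ 1) := by decide +kernel

theorem card195 : Nat.card {p : A5 × A5 //
    p.1 * p.1 = 1 ∧ p.1 ≠ 1 ∧ p.2 * p.2 = 1 ∧ (p.1 * p.2) ^ 15 = 1} = 195 := by
  classical
  simp_rw [pow15_iff]
  rw [Nat.card_eq_fintype_card, Fintype.card_subtype]
  have h : ({p : A5 × A5 | p.1 * p.1 = 1 ∧ p.1 ≠ 1 ∧ p.2 * p.2 = 1 ∧
      (p.1 * p.2 = 1 ∨ p.1 * p.2 * (p.1 * p.2) ≠ 1)} : Finset _)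
      = ((({p : A5 | p * p = 1} : Finset A5) ×ˢ ({p : A5 | p * p = 1} : Finset A5)).filter
        fun p => p.1 ≠ 1 ∧ (p.1 * p.2 = 1 ∨ p.1 * p.2 * (p.1 * p.2) ≠ 1)) := by
    ext p; simp; tauto
  rw [h]
  decide +kernel

theorem card_A5 : Nat.card A5 = 60 := by rw [Nat.card_eq_fintype_card]; decide +kernel

end Alt5

/-- In a dihedral group the power of the rotation that is an involution is central. -/
theorem commute_of_zpow {u v x : G} (hu : u * u = 1) (hv : v * v = 1) (hx : x * x = 1)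
    (h : x ∈ zpowers (u * v)) : u * x = x * u ∧ v * x = x * v := by
  obtain ⟨n, rfl⟩ := mem_zpowers_iff.1 h
  have e : u * (u * v) * u⁻¹ = (u * v)⁻¹ := by
    rw [mul_inv_rev, inv_eq_of_mul_eq_one_right hu, inv_eq_of_mul_eq_one_right hv, ← mul_assoc, hu, one_mul]
  have e1 : u * (u * v) ^ n * u⁻¹ = (u * v) ^ n := by
    rw [← conj_zpow, e, inv_zpow]
    exact inv_eq_of_mul_eq_one_right hx
  have h1 : Commute u ((u * v) ^ n) := mul_inv_eq_iff_eq_mul.1 e1
  have h2 : Commute (u * v) ((u * v) ^ n) := (Commute.refl (u * v)).zpow_right n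
  refine ⟨h1.eq, ?_⟩
  have := h1.inv_left.mul_left h2
  rw [← mul_assoc, inv_mul_cancel, one_mul] at this
  exact this.eq

theorem zpow_odd {t : G} (ht : t * t = 1) {n : ℤ} (hn : Odd n) : t ^ n = t := by
  obtain ⟨k, rfl⟩ := hn
  rw [zpow_add_one, zpow_mul, zpow_two, ht, one_zpow, one_mul]

theorem eq_of_mem_zpowers {a x : G} (ha : a * a = 1) (hx : x ∈ zpowers a) (hx1 : x ≠ 1) : x = a := by
  obtain ⟨n, rfl⟩ := mem_zpowers_iff.1 hx
  obtain ⟨k, rfl | rfl⟩ := Int.even_or_odd' n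
  · exact absurd (by rw [zpow_mul, zpow_two, ha, one_zpow]) hx1
  · exact zpow_odd ha ⟨k, rfl⟩

theorem sq_of_isConj {a b : G} (h : IsConj a b) (ha : a * a = 1) : b * b = 1 := by
  obtain ⟨g, rfl⟩ := isConj_iff.1 h
  rw [conj_mul, ha, mul_one, mul_inv_cancel]

namespace Data

variable (D : Data G)

theorem outer_card : Nat.card {v : G // D.Outer v} = 120 := by
  classical
  obtain ⟨t, ht, -⟩ := D.exists_outer
  let Inv := {σ : Alt5.A5 // σ * σ = 1 ∧ σ ≠ 1}
  have hlift : ∀ σ : Inv, ∃ v, ∃ hv : D.Outer v, D.psi ⟨v, D.mem_C.2 hv.comm⟩ = σ.1 := by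
    intro σ
    obtain ⟨ρ, hρ⟩ := Alt5.conjugate _ _ ht.psi_sq.1 ht.psi_sq.2 σ.2.1 σ.2.2
    obtain ⟨g, rfl⟩ := D.psi_surj ρ
    refine ⟨_, ht.conj (D.mem_C.1 g.2), ?_⟩
    rw [← hρ, ← map_inv, ← map_mul, ← map_mul]; rfl
  choose v hv hσ using hlift
  let Z := Σ σ : Inv, {a : G // a ∈ D.Q ∧ v σ * a * (v σ)⁻¹ = a⁻¹}
  let f : Z → {v : G // D.Outer v} := fun p => ⟨v p.1 * p.2.1, ((hv p.1).mul_mem_iff p.2.2.1).2 p.2.2.2⟩
  have hf : Function.Bijective f := by
    constructor
    · rintro ⟨σ, a, ha⟩ ⟨σ', a', ha'⟩ h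
      have h' : v σ * a = v σ' * a' := congrArg Subtype.val h
      have key : ∀ (σ : Inv) (a : G) (ha : a ∈ D.Q),
          D.psi ⟨v σ * a, mul_mem (D.mem_C.2 (hv σ).comm) (D.le ha)⟩ = σ.1 := by
        intro σ a ha
        rw [show (⟨v σ * a, _⟩ : centralizer ({D.z} : Set G)) = ⟨v σ, D.mem_C.2 (hv σ).comm⟩ * ⟨a, D.le ha⟩ from rfl,
          map_mul, hσ, (D.psi_ker _).2 ha, mul_one]
      obtain rfl : σ = σ' := Subtype.ext (by
        rw [← key σ a ha.1, ← key σ' a' ha'.1]; exact congrArg D.psi (Subtype.ext h'))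
      obtain rfl := mul_left_cancel h'
      rfl
    · rintro ⟨w, hw⟩
      let σ : Inv := ⟨_, hw.psi_sq⟩
      have ha : (v σ)⁻¹ * w ∈ D.Q := by
        refine (D.psi_ker (⟨v σ, D.mem_C.2 (hv σ).comm⟩⁻¹ * ⟨w, D.mem_C.2 hw.comm⟩)).1 ?_
        rw [map_mul, map_inv, hσ, inv_mul_cancel]
      exact ⟨⟨σ, ⟨_, ha, ((hv σ).mul_mem_iff ha).1 (by rw [mul_inv_cancel_left]; exact hw)⟩⟩,
        Subtype.ext (mul_inv_cancel_left _ _)⟩
  have h8 : ∀ σ : Inv, Nat.card {a : G // a ∈ D.Q ∧ v σ * a * (v σ)⁻¹ = a⁻¹} = 8 := fun σ => by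
    obtain ⟨i, -, -, -, h⟩ := (hv σ).spec
    rw [← h, ← Nat.card_coe_set_eq]; rfl
  rw [← Nat.card_eq_of_bijective f hf, Nat.card_sigma, Finset.sum_congr rfl fun σ _ => h8 σ, Finset.sum_const,
    Finset.card_univ, Alt5.card_involutions]; rfl

theorem moved_card {v : G} (hv : D.Outer v) :
    Nat.card {u : G // u ∈ invSet D.Q D.z ∧ v * u ≠ u * v} = 8 := by
  obtain ⟨i, -, hvi, hC, -⟩ := hv.spec
  have hfix : {u | u ∈ invSet D.Q D.z ∧ v * u = u * v} = {D.u i, D.u i * D.z} := by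
    ext u
    constructor
    · rintro ⟨hu, h⟩
      rcases hC u hu.1 (mul_inv_eq_iff_eq_mul.2 h) with e | e | e | e
      · exact absurd e hu.2.2.1
      · exact absurd e hu.2.2.2
      · exact Or.inl e
      · exact Or.inr e
    · rintro (rfl | rfl)
      · exact ⟨D.u_mem i, hvi⟩
      · refine ⟨mul_mem_invSet D.hQ (D.u_mem i), ?_⟩
        rw [← mul_assoc, hvi, mul_assoc, hv.comm, ← mul_assoc]
  have h2 : ({D.u i, D.u i * D.z} : Set G).ncard = 2 :=
    Set.ncard_pair fun e => D.hQ.zne (mul_eq_left.1 e.symm)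
  have h : {u | u ∈ invSet D.Q D.z ∧ v * u ≠ u * v} = invSet D.Q D.z \ {u | u ∈ invSet D.Q D.z ∧ v * u = u * v} := by
    ext u; simp +contextual
  rw [show Nat.card {u : G // u ∈ invSet D.Q D.z ∧ v * u ≠ u * v} =
      ({u | u ∈ invSet D.Q D.z ∧ v * u ≠ u * v} : Set G).ncard from Nat.card_coe_set_eq _,
    h, Set.ncard_sdiff (fun u hu => hu.1) (Set.toFinite _), D.invSet_ncard, hfix, h2]

theorem count_z {t : G} (ht : D.Outer t) :
    Nat.card {p : G × G // IsConj D.z p.1 ∧ IsConj t p.2 ∧ D.z ∈ zpowers (p.1 * p.2)} = 960 := by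
  classical
  have hclass : ∀ v, D.Outer v → IsConj t v := fun v hv =>
    (D.classes ht hv.ord).resolve_left (D.outer_not_conj hv)
  have hzpow : ∀ v u, D.Outer v → u ∈ invSet D.Q D.z → v * u ≠ u * v → D.z ∈ zpowers (u * v) := by
    intro v u hv hu hne
    have hw : v * u * v⁻¹ ∈ invSet D.Q D.z := D.conj_invSet hv.comm hu
    have hne' : v * u * v⁻¹ ≠ u := fun h => hne (mul_inv_eq_iff_eq_mul.1 h)
    generalize hwdef : v * u * v⁻¹ = w at hw hne'
    have e : (u * v) * (u * v) = u * w := by rw [← hwdef, hv.inv_eq]; group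
    rcases D.hQ.comm u hu.1 w hw.1 with hcm | hcm
    · rcases D.comm2 u hu w hw hcm with h | h
      · exact absurd h hne'
      · refine ⟨2, ?_⟩
        show (u * v) ^ (2 : ℤ) = D.z
        rw [zpow_two, e, h, ← mul_assoc, hu.2.1, one_mul]
    · refine ⟨4, ?_⟩
      show (u * v) ^ ((2 : ℤ) * 2) = D.z
      rw [zpow_mul, zpow_two, zpow_two, e]
      have h' : w * u = u * w * D.z := by rw [hcm, mul_assoc (w * u), D.z2, mul_one]
      calc u * w * (u * w) = u * (w * u) * w := by group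
        _ = u * (u * w * D.z) * w := by rw [h']
        _ = (u * u) * (w * (D.z * w)) := by group
        _ = D.z := by rw [← D.hQ.zcomm w hw.1, ← mul_assoc w w D.z, hw.2.1, hu.2.1, one_mul, one_mul]
  let Z := Σ v : {v : G // D.Outer v}, {u : G // u ∈ invSet D.Q D.z ∧ v.1 * u ≠ u * v.1}
  have hZ : Nat.card Z = 960 := by
    haveI : Fintype {v : G // D.Outer v} := Fintype.ofFinite _
    rw [Nat.card_sigma, Finset.sum_congr rfl fun v _ => D.moved_card v.2, Finset.sum_const, Finset.card_univ,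
      smul_eq_mul, ← Nat.card_eq_fintype_card, D.outer_card]
  rw [← hZ]
  symm
  let f : Z → {p : G × G // IsConj D.z p.1 ∧ IsConj t p.2 ∧ D.z ∈ zpowers (p.1 * p.2)} := fun p =>
    ⟨(p.2.1, p.1.1), invSet_isConj p.2.2.1, hclass _ p.1.2, hzpow _ _ p.1.2 p.2.2.1 p.2.2.2⟩
  refine Nat.card_eq_of_bijective f ⟨?_, ?_⟩
  · rintro ⟨⟨v, hv⟩, u, hu⟩ ⟨⟨v', hv'⟩, u', hu'⟩ h
    obtain ⟨rfl, rfl⟩ : u = u' ∧ v = v' := by simpa [f] using h
    rfl
  · rintro ⟨⟨u, v⟩, hzu, htv, hzp⟩
    have hu2 := sq_of_isConj hzu D.z2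
    have hv2 := sq_of_isConj htv ht.sq
    obtain ⟨hu', hv'⟩ := commute_of_zpow hu2 hv2 D.z2 hzp
    have hvn : ¬ IsConj D.z v := fun h => D.outer_not_conj ht (h.trans htv.symm)
    have hv1 : v ≠ 1 := fun h => ht.out (isConj_one_left.1 (h ▸ htv) ▸ one_mem _)
    have hvo : D.Outer v := by
      rcases D.involution_cases hv' hv2 hv1 with e | e | e
      · exact absurd (e ▸ IsConj.refl _) hvn
      · exact absurd (invSet_isConj e) hvn
      · exact e
    rcases D.z_class hu' hzu with e | e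
    · exfalso
      subst e
      have h2 : D.z * v * (D.z * v) = 1 := by rw [← mul_assoc, mul_assoc D.z v, hv', ← mul_assoc, D.z2, one_mul, hv2]
      have := eq_of_mem_zpowers h2 hzp D.hQ.zne
      exact hv1 (mul_eq_left.1 this.symm)
    · refine ⟨⟨⟨v, hvo⟩, ⟨u, e, fun hc => ?_⟩⟩, rfl⟩
      have h2 : u * v * (u * v) = 1 := by
        rw [← mul_assoc, mul_assoc u v u, hc, ← mul_assoc, hu2, one_mul, hv2]
      have hz := eq_of_mem_zpowers h2 hzp D.hQ.zne
      apply hvo.out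
      rw [show v = u⁻¹ * D.z by rw [hz, inv_mul_cancel_left]]
      exact mul_mem (inv_mem e.1) D.hQ.zmem

theorem class_bound : 51 ≤ (centralizer ({D.z} : Set G)).index := by
  classical
  haveI := Fintype.ofFinite G
  set A : Set G := insert D.z (invSet D.Q D.z) with hA
  have hA11 : A.ncard = 11 := by
    rw [hA, Set.ncard_insert_of_notMem (fun h => h.2.2.2 rfl) (Set.toFinite _), D.invSet_ncard]
  have hAconj : ∀ x ∈ A, IsConj D.z x ∧ x * D.z = D.z * x := by
    rintro x (rfl | hx)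
    · exact ⟨IsConj.refl _, rfl⟩
    · exact ⟨invSet_isConj hx, D.hQ.zcomm x hx.1⟩
  let B : Fin 5 → Finset G := fun i =>
    Finset.univ.filter fun x => IsConj D.z x ∧ x * D.u i = D.u i * x ∧ x * D.z ≠ D.z * x
  have hB : ∀ i, 8 ≤ (B i).card := by
    intro i
    obtain ⟨g, hg⟩ := isConj_iff.1 (invSet_isConj (D.u_mem i))
    have hsub : (fun x => g * x * g⁻¹) '' A ⊆ ({D.z, D.u i, D.u i * D.z} : Set G) ∪ (B i : Set G) := by
      rintro _ ⟨x, hx, rfl⟩
      obtain ⟨hx1, hx2⟩ := hAconj x hx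
      have hc : g * x * g⁻¹ * D.u i = D.u i * (g * x * g⁻¹) := by
        rw [← hg, conj_mul, conj_mul, hx2]
      have hcj : IsConj D.z (g * x * g⁻¹) := hx1.trans (isConj_iff.2 ⟨g, rfl⟩)
      by_cases hz : g * x * g⁻¹ * D.z = D.z * (g * x * g⁻¹)
      · left
        rcases D.z_class hz hcj with e | e
        · exact Or.inl e
        · rcases D.comm2 _ (D.u_mem i) _ e hc.symm with e' | e'
          · exact Or.inr (Or.inl e')
          · exact Or.inr (Or.inr e')
      · right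
        simp only [B, Finset.coe_filter, Finset.mem_univ, true_and]
        exact ⟨hcj, hc, hz⟩
    have h := (Set.ncard_le_ncard hsub (Set.toFinite _)).trans (Set.ncard_union_le _ _)
    rw [Set.ncard_image_of_injective _ (fun a b hab => by simpa using hab), hA11, Set.ncard_coe_finset] at h
    have h3 : ({D.z, D.u i, D.u i * D.z} : Set G).ncard ≤ 3 := by
      refine (Set.ncard_insert_le _ _).trans ?_
      exact Nat.add_le_add_right ((Set.ncard_insert_le _ _).trans (by rw [Set.ncard_singleton])) 1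
    omega
  have hdisj : (↑(Finset.univ : Finset (Fin 5)) : Set (Fin 5)).PairwiseDisjoint B := by
    intro i _ j _ hij
    refine Finset.disjoint_left.2 fun x hi hj => ?_
    obtain ⟨-, h1, h2⟩ := (Finset.mem_filter.1 hi).2
    obtain ⟨-, h3, -⟩ := (Finset.mem_filter.1 hj).2
    apply h2
    have hzij : D.z = D.u j * D.u i * (D.u j * D.u i) := by
      rw [D.u_anti (Ne.symm hij)]
      calc D.z = D.u i * (D.u j * D.u j) * D.u i * D.z := by rw [D.u_sq, mul_one, D.u_sq, one_mul]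
        _ = D.u i * D.u j * (D.u j * D.u i * D.z) := by group
        _ = D.u i * D.u j * (D.u i * D.u j) := by rw [← D.u_anti hij]
        _ = D.u i * D.u j * D.z * (D.u i * D.u j * D.z) := by
          rw [mul_assoc (D.u i * D.u j) D.z, ← mul_assoc D.z,
            ← D.hQ.zcomm _ (mul_mem (D.u_mem i).1 (D.u_mem j).1), mul_assoc _ D.z, D.z2, mul_one]
    rw [hzij]
    exact (((show Commute x (D.u j) from h3).mul_right (show Commute x (D.u i) from h1)).mul_right
      ((show Commute x (D.u j) from h3).mul_right (show Commute x (D.u i) from h1))).eq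
  let U : Finset G := A.toFinset ∪ Finset.univ.biUnion B
  have hU : 51 ≤ U.card := by
    have hd : Disjoint A.toFinset (Finset.univ.biUnion B) := Finset.disjoint_left.2 fun x hx hx' => by
      obtain ⟨i, -, hi⟩ := Finset.mem_biUnion.1 hx'
      exact (Finset.mem_filter.1 hi).2.2.2 (hAconj x (Set.mem_toFinset.1 hx)).2
    rw [Finset.card_union_of_disjoint hd, Finset.card_biUnion hdisj, ← Set.ncard_eq_toFinset_card', hA11]
    have := Finset.card_nsmul_le_sum Finset.univ (fun i => (B i).card) 8 fun i _ => hB i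
    simp only [Finset.card_univ, Fintype.card_fin, smul_eq_mul] at this
    omega
  have hUconj : ∀ x ∈ U, IsConj D.z x := by
    intro x hx
    rcases Finset.mem_union.1 hx with h | h
    · exact (hAconj x (Set.mem_toFinset.1 h)).1
    · obtain ⟨i, -, hi⟩ := Finset.mem_biUnion.1 h
      exact (Finset.mem_filter.1 hi).2.1
  choose c hc using fun x : U => isConj_iff.1 (hUconj x x.2)
  calc 51 ≤ U.card := hU
    _ = Nat.card U := (Nat.card_eq_finsetCard U).symm
    _ ≤ (centralizer ({D.z} : Set G)).index :=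
      Nat.card_le_card_of_injective (fun x => (QuotientGroup.mk (c x) : G ⧸ centralizer ({D.z} : Set G)))
        fun x y h => Subtype.ext (by
          have hm := D.mem_C.1 (QuotientGroup.eq.1 h)
          rw [← hc x, ← hc y]
          calc c x * D.z * (c x)⁻¹ = c x * (D.z * ((c x)⁻¹ * c y)) * (c y)⁻¹ := by group
            _ = c x * ((c x)⁻¹ * c y * D.z) * (c y)⁻¹ := by rw [hm]
            _ = c y * D.z * (c y)⁻¹ := by group)

theorem formula {t : G} (ht : D.Outer t) (n2 : ℕ)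
    (h2 : Nat.card {p : G × G // IsConj D.z p.1 ∧ IsConj t p.2 ∧ t ∈ zpowers (p.1 * p.2)} = n2) :
    Nat.card G = Nat.card (centralizer ({t} : Set G)) * 960 + 1920 * n2 := by
  rw [S0213.result D.z t D.z_ord ht.ord (D.outer_not_conj ht) (fun x hx => D.classes ht hx), D.count_z ht, h2,
    D.card_C]

/-- the centraliser of an outer involution is of shape `2^2 × A5` -/
theorem nonempty_prod {t : G} (ht : D.Outer t) : Nonempty (D.Prod t) := by
  classical
  rcases centT_cases ht with ⟨hn, hcard⟩ | h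
  swap
  · exact h
  exfalso
  obtain ⟨i, hi, hu, -⟩ := ht.exists_u
  set CT := centralizer ({t} : Set G) with hCT
  haveI : ((D.E t).subgroupOf CT).Normal := ⟨fun e he n => mem_subgroupOf.2
    (hn n (mem_centralizer_singleton_iff.1 n.2) e (mem_subgroupOf.1 he))⟩
  have hidx : Odd ((D.E t).subgroupOf CT).index := by
    have h := ((D.E t).subgroupOf CT).card_mul_index
    rw [Nat.card_congr (subgroupOfEquivOfLe (E_le_C t)).toEquiv, ht.card_E] at h
    rcases hcard with e | e <;> rw [e] at h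
    · exact ⟨0, by omega⟩
    · exact ⟨1, by omega⟩
  have hinvE : ∀ x, x * x = 1 → x * t = t * x → x ∈ D.E t := by
    intro x hx hxt
    have hm := ((D.E t).subgroupOf CT).pow_index_mem (⟨x, mem_centralizer_singleton_iff.2 hxt⟩ : CT)
    obtain ⟨k, hk⟩ := hidx
    rw [hk, mem_subgroupOf] at hm
    have e : x ^ (2 * k + 1) = x := by rw [pow_succ, pow_mul, sq, hx, one_pow, one_mul]
    exact e ▸ hm
  have htW : t ∉ four D.hQ (D.u_mem i) := fun h => ht.out (four_le_Q i h)
  let W' := {w : four D.hQ (D.u_mem i) // w ≠ 1}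
  have hW' : Nat.card W' = 3 := by
    haveI := Fintype.ofFinite (four D.hQ (D.u_mem i))
    rw [Nat.card_eq_fintype_card, Fintype.card_subtype_compl, Fintype.card_subtype_eq, ← Nat.card_eq_fintype_card,
      card_four]
  have h3 : Nat.card {p : G × G // IsConj D.z p.1 ∧ IsConj t p.2 ∧ t ∈ zpowers (p.1 * p.2)} = 3 := by
    rw [← hW']
    symm
    have hwt : ∀ w : W', IsConj t ((w.1 : G) * t) := by
      intro w
      have hm : (w.1 : G) * t ∈ D.E t := mul_mem (four_le_E ht hu w.1.2) ht.t_mem_E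
      have hsq : (w.1 : G) * t * ((w.1 : G) * t) = 1 := by
        have hc := ht.E_comm _ (four_le_E ht hu w.1.2) _ ht.t_mem_E
        have hww : (w.1 : G) * w.1 = 1 := sq_of_isConj (four_isConj i w.1.2 fun e => w.2 (Subtype.ext e)) D.z2
        rw [mul_assoc, ← mul_assoc t, ← hc, mul_assoc (w.1 : G) t t, ht.sq, mul_one, hww]
      have hne : (w.1 : G) * t ≠ 1 := fun e => htW (by
        rw [show t = (w.1 : G)⁻¹ from eq_inv_of_mul_eq_one_right e]; exact inv_mem w.1.2)
      refine (D.classes ht (orderOf_eq_prime (by rw [sq, hsq]) hne)).resolve_left fun h => htW ?_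
      have h' := mul_mem (inv_mem w.1.2) (ht.z_class_E hi hm h)
      rwa [inv_mul_cancel_left] at h'
    let f : W' → {p : G × G // IsConj D.z p.1 ∧ IsConj t p.2 ∧ t ∈ zpowers (p.1 * p.2)} := fun w =>
      ⟨((w.1 : G), (w.1 : G) * t), four_isConj i w.1.2 (fun e => w.2 (Subtype.ext e)), hwt w, by
        rw [← mul_assoc, sq_of_isConj (four_isConj i w.1.2 fun e => w.2 (Subtype.ext e)) D.z2, one_mul]
        exact mem_zpowers t⟩
    refine Nat.card_eq_of_bijective f ⟨fun w w' h => ?_, ?_⟩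
    · exact Subtype.ext (Subtype.ext (congrArg (fun p => (p.1.1 : G)) h))
    · rintro ⟨⟨u, v⟩, hzu, htv, htp⟩
      have hu2 := sq_of_isConj hzu D.z2
      have hv2 := sq_of_isConj htv ht.sq
      obtain ⟨hu', hv'⟩ := commute_of_zpow hu2 hv2 ht.sq htp
      have huE := hinvE u hu2 hu'
      have hvE := hinvE v hv2 hv'
      have hsq : u * v * (u * v) = 1 := by
        rw [mul_assoc, ← mul_assoc v, ← ht.E_comm u huE v hvE, mul_assoc u v v, hv2, mul_one, hu2]
      have hte := eq_of_mem_zpowers hsq htp fun e => ht.out (e ▸ one_mem _)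
      refine ⟨⟨⟨u, ht.z_class_E hi huE hzu⟩, fun e => ?_⟩, Subtype.ext ?_⟩
      · have : u = 1 := congrArg Subtype.val e
        exact D.hQ.zne (isConj_one_left.1 (this ▸ hzu))
      · show (u, u * t) = (u, v)
        rw [hte, ← mul_assoc, hu2, one_mul]
  have hG := D.formula ht 3 h3
  have hb := D.class_bound
  have hi2 := (centralizer ({D.z} : Set G)).card_mul_index
  rw [D.card_C] at hi2
  rcases hcard with e | e <;> rw [e] at hG <;> omega

noncomputable def prod {t : G} (ht : D.Outer t) : D.Prod t := (D.nonempty_prod ht).some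

variable {D}

namespace Prod

variable {t : G} (P : D.Prod t)

theorem cardB : Nat.card P.B = 60 := by
  obtain ⟨e⟩ := P.iso
  rw [Nat.card_congr e.toEquiv, Alt5.card_A5]

theorem unique {v v' b b' : G} (hv : v ∈ P.V) (hv' : v' ∈ P.V) (hb : b ∈ P.B) (hb' : b' ∈ P.B)
    (h : v * b = v' * b') : v = v' ∧ b = b' := by
  have h1 : v'⁻¹ * v = b' * b⁻¹ := by
    calc v'⁻¹ * v = v'⁻¹ * (v * b) * b⁻¹ := by group
      _ = _ := by rw [h]; group
  have h2 : v'⁻¹ * v ∈ P.V ⊓ P.B :=
    mem_inf.2 ⟨mul_mem (inv_mem hv') hv, h1 ▸ mul_mem hb' (inv_mem hb)⟩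
  rw [P.disj, mem_bot] at h2
  exact ⟨(inv_mul_eq_one.1 h2).symm, (mul_inv_eq_one.1 (h1.symm.trans h2)).symm⟩

theorem decomp {x : G} (hx : x ∈ centralizer ({t} : Set G)) : ∃ v ∈ P.V, ∃ b ∈ P.B, x = v * b := by
  let f : P.V × P.B → centralizer ({t} : Set G) := fun p => ⟨p.1 * p.2, mul_mem (P.hVC p.1.2) (P.hBC p.2.2)⟩
  have hf : Function.Injective f := fun p q h => by
    obtain ⟨e1, e2⟩ := P.unique p.1.2 q.1.2 p.2.2 q.2.2 (congrArg Subtype.val h)
    exact _root_.Prod.ext (Subtype.ext e1) (Subtype.ext e2)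
  obtain ⟨p, hp⟩ := (hf.bijective_of_nat_card_le (by rw [Nat.card_prod, P.cardV, P.cardB, P.cardC])).2 ⟨x, hx⟩
  exact ⟨_, p.1.2, _, p.2.2, (congrArg Subtype.val hp).symm⟩

theorem t_notMem (ht : D.Outer t) : t ∉ P.B := fun h =>
  ht.out (mem_bot.1 (P.disj ▸ mem_inf.2 ⟨P.tV, h⟩) ▸ one_mem _)

include P in
theorem count_t (ht : D.Outer t) :
    Nat.card {p : G × G // IsConj D.z p.1 ∧ IsConj t p.2 ∧ t ∈ zpowers (p.1 * p.2)} = 195 := by
  classical
  rw [← Alt5.card195]
  symm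
  obtain ⟨eB⟩ := P.iso
  have ht1 : t ≠ 1 := fun h => ht.out (h ▸ one_mem _)
  have hord : ∀ x : G, x * x = 1 → x ≠ 1 → orderOf x = 2 := fun x h h1 =>
    orderOf_eq_prime (by rw [pow_two]; exact h) h1
  let β : Alt5.A5 → G := fun x => ((eB.symm x : P.B) : G)
  have hβm : ∀ x, β x ∈ P.B := fun x => (eB.symm x).2
  have hβmul : ∀ x y, β (x * y) = β x * β y := fun x y => by simp only [β, map_mul, Subgroup.coe_mul]
  have hβ1 : β 1 = 1 := by simp only [β, map_one, Subgroup.coe_one]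
  have hβpow : ∀ x (k : ℕ), β (x ^ k) = β x ^ k := fun x k => by simp only [β, map_pow, Subgroup.coe_pow]
  have hβinj : Function.Injective β := Subtype.val_injective.comp eB.symm.injective
  let X := {p : Alt5.A5 × Alt5.A5 // p.1 * p.1 = 1 ∧ p.1 ≠ 1 ∧ p.2 * p.2 = 1 ∧ (p.1 * p.2) ^ 15 = 1}
  have hcomt : ∀ b ∈ P.B, Commute t b := fun b hb => P.comm t P.tV b hb
  have htB := P.t_notMem ht
  let f : X → {p : G × G // IsConj D.z p.1 ∧ IsConj t p.2 ∧ t ∈ zpowers (p.1 * p.2)} := fun p =>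
    ⟨(β p.1.1, t * β p.1.2),
      P.classB _ (hβm _) (hord _ (by rw [← hβmul, p.2.1, hβ1]) fun h => p.2.2.1 (hβinj (h.trans hβ1.symm))),
      P.classOut _ (mul_mem (P.hVC P.tV) (P.hBC (hβm _)))
        (hord _ (by
          calc t * β p.1.2 * (t * β p.1.2) = t * (β p.1.2 * t) * β p.1.2 := by group
            _ = t * t * (β p.1.2 * β p.1.2) := by rw [← (hcomt _ (hβm _)).eq]; group
            _ = 1 := by rw [ht.sq, ← hβmul, p.2.2.2.1, hβ1, one_mul])
          (fun h => ne_of_mem_of_not_mem (inv_mem (hβm _)) htB (eq_inv_of_mul_eq_one_left h).symm))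
        (fun h => htB (by simpa using mul_mem h (inv_mem (hβm p.1.2)))),
      ⟨15, by
        show (β p.1.1 * (t * β p.1.2)) ^ (15 : ℤ) = t
        rw [← mul_assoc, ← (hcomt _ (hβm _)).eq, mul_assoc, ← hβmul, ((hcomt _ (hβm _)).mul_zpow 15),
          zpow_odd ht.sq (by decide), show (15 : ℤ) = ((15 : ℕ) : ℤ) from rfl, zpow_natCast, ← hβpow,
          p.2.2.2.2, hβ1, mul_one]⟩⟩
  refine Nat.card_eq_of_bijective f ⟨?_, ?_⟩
  · rintro ⟨⟨x, y⟩, hp⟩ ⟨⟨x', y'⟩, hp'⟩ h
    have h' : β x = β x' ∧ t * β y = t * β y' := by simpa [f] using h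
    obtain rfl := hβinj h'.1
    obtain rfl := hβinj (mul_left_cancel h'.2)
    rfl
  · rintro ⟨⟨u, w⟩, hzu, htw, htp⟩
    have hu2 := sq_of_isConj hzu D.z2
    have hw2 := sq_of_isConj htw ht.sq
    obtain ⟨hu', hw'⟩ := commute_of_zpow hu2 hw2 ht.sq htp
    have huC := mem_centralizer_singleton_iff.2 hu'
    have hu1 : u ≠ 1 := fun h => D.hQ.zne (isConj_one_left.1 (h ▸ hzu))
    have huB : u ∈ P.B := by
      by_contra h
      exact D.outer_not_conj ht (hzu.trans (P.classOut u huC (hord u hu2 hu1) h).symm)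
    obtain ⟨a, ha, b, hb, rfl⟩ := P.decomp (mem_centralizer_singleton_iff.2 hw')
    obtain ⟨n, hn⟩ := mem_zpowers_iff.1 htp
    rw [← mul_assoc, ← P.comm a ha u huB, mul_assoc,
      (show Commute a (u * b) from P.comm a ha _ (mul_mem huB hb)).mul_zpow n] at hn
    obtain ⟨han, hbn⟩ := P.unique (zpow_mem ha n) P.tV (zpow_mem (mul_mem huB hb) n) (one_mem _)
      (hn.trans (mul_one t).symm)
    have hnodd : Odd n := by
      rw [← Int.not_even_iff_odd]
      rintro ⟨k, rfl⟩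
      exact ht1 (by rw [← han, ← two_mul, zpow_mul, zpow_two, P.sqV a ha, one_zpow])
    obtain rfl : a = t := (zpow_odd (P.sqV a ha) hnodd).symm.trans han
    have hb2 : b * b = 1 := by
      calc b * b = a * a * (b * b) := by rw [P.sqV a ha, one_mul]
        _ = a * (a * b) * b := by group
        _ = a * (b * a) * b := by rw [P.comm a ha b hb]
        _ = a * b * (a * b) := by group
        _ = 1 := hw2
    refine ⟨⟨(eB ⟨u, huB⟩, eB ⟨b, hb⟩), ?_, ?_, ?_, ?_⟩, Subtype.ext ?_⟩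
    · rw [← map_mul, show (⟨u, huB⟩ * ⟨u, huB⟩ : P.B) = 1 from Subtype.ext hu2, map_one]
    · intro h
      exact hu1 (congrArg Subtype.val (eB.injective (h.trans (map_one eB).symm)))
    · rw [← map_mul, show (⟨b, hb⟩ * ⟨b, hb⟩ : P.B) = 1 from Subtype.ext hb2, map_one]
    · rcases Alt5.pow15_or (eB ⟨u, huB⟩ * eB ⟨b, hb⟩) with h | h
      · rw [← map_mul, ← map_mul, ← map_one eB] at h
        have h' : u * b * (u * b) = 1 := congrArg Subtype.val (eB.injective h)
        rw [zpow_odd h' hnodd] at hbn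
        rw [← map_mul, show (⟨u, huB⟩ * ⟨b, hb⟩ : P.B) = 1 from Subtype.ext hbn, map_one, one_pow]
      · exact h
    · simp only [f, β, MulEquiv.symm_apply_apply]

end Prod

variable (D)

include D in
theorem card_G : Nat.card G = 604800 := by
  obtain ⟨t, ht, -⟩ := D.exists_outer
  rw [D.formula ht 195 ((D.prod ht).count_t ht), (D.prod ht).cardC]

theorem card_CT {t : G} (ht : D.Outer t) : Nat.card (centralizer ({t} : Set G)) = 240 := (D.prod ht).cardC

end Data

end Cfsg.Agent.JTwoType
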