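import Cfsg.Agent.Lib.JTwoType.ThreeNorm

/-!
# Groups of Hall-Janko type: the Sylow 7-subgroup
-/

set_option autoImplicit false
set_option linter.unusedSectionVars false
set_option linter.style.haveILetI false
set_option maxHeartbeats 800000

namespace Cfsg.Agent.JTwoType

open Cfsg Subgroup OrderJTwo
open scoped commutatorElement Pointwise

variable {G : Type*} [Group G] [Finite G]

namespace Data

variable (D : Data G)

include D in
theorem card_cent_seven {d : G} (hd : orderOf d = 7) : Nat.card (centralizer ({d} : Set G)) = 7 := by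
  classical
  haveI : Fact (Nat.Prime 3) := ⟨Nat.prime_three⟩
  have h := cent_seven_dvd (D := D) hd
  set C := centralizer ({d} : Set G)
  have h7 : 7 ∣ Nat.card C := hd ▸ Subgroup.orderOf_dvd_natCard C (mem_centralizer_singleton_iff.2 rfl)
  have h3 : ¬ 3 ∣ Nat.card C := by
    intro h
    obtain ⟨⟨w, hw⟩, hw3⟩ := exists_prime_orderOf_dvd_card' (G := C) 3 h
    rw [Subgroup.orderOf_mk] at hw3
    have h7' : 7 ∣ Nat.card (centralizer ({w} : Set G)) :=
      hd ▸ Subgroup.orderOf_dvd_natCard _ (mem_centralizer_singleton_iff.2 (mem_centralizer_singleton_iff.1 hw).symm)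
    obtain ⟨t, ⟨T⟩⟩ := D.exists_triple
    rcases T.three_classes hw3 with hc | hc <;> rw [← card_cent_isConj hc] at h7'
    · rw [T.card_cent_k] at h7'; norm_num at h7'
    · rw [T.card_cent_a] at h7'; norm_num at h7'
  have hco : (Nat.card C).Coprime 27 := by
    rw [show 27 = 3 ^ 3 from rfl]
    exact ((Nat.prime_three.coprime_iff_not_dvd).2 h3).symm.pow_right 3
  exact Nat.dvd_antisymm (hco.dvd_of_dvd_mul_right (by rwa [show 7 * 27 = 189 from rfl])) h7

include D in
theorem sylow7_struct (S : Sylow 7 G) :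
    centralizer ((S : Subgroup G) : Set G) = (S : Subgroup G) ∧
      Nat.card (normalizer ((S : Subgroup G) : Set G)) = 42 ∧
      ¬ IsMulCommutative (normalizer ((S : Subgroup G) : Set G)) := by
  classical
  haveI : Fact (Nat.Prime 7) := ⟨by norm_num⟩
  have hS7 : Nat.card (S : Subgroup G) = 7 := by
    obtain ⟨n, hn⟩ := IsPGroup.iff_card.1 S.isPGroup'
    have h1 := (S : Subgroup G).card_mul_index
    have := S.not_dvd_index
    rw [hn, D.card_G] at h1
    rw [hn]
    rcases Nat.lt_or_ge n 2 with hlt | hge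
    · interval_cases n <;> omega
    · have : 7 ^ 2 ∣ 604800 := (Nat.pow_dvd_pow 7 hge).trans ⟨_, h1.symm⟩
      norm_num at this
  haveI : IsCyclic (S : Subgroup G) := isCyclic_of_prime_card hS7
  obtain ⟨⟨d, hdS⟩, hd⟩ := IsCyclic.exists_generator (α := (S : Subgroup G))
  have hd7 : orderOf d = 7 := by
    rw [← Subgroup.orderOf_mk d hdS, orderOf_eq_card_of_forall_mem_zpowers hd, hS7]
  have hK : zpowers d = (S : Subgroup G) :=
    Subgroup.eq_of_le_of_card_ge (zpowers_le.2 hdS) (by rw [hS7, Nat.card_zpowers, hd7])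
  have hC : centralizer ((S : Subgroup G) : Set G) = centralizer ({d} : Set G) := by
    rw [← hK, centralizer_zpowers]
  have hself : centralizer ((S : Subgroup G) : Set G) = (S : Subgroup G) := by
    rw [hC]
    refine (Subgroup.eq_of_le_of_card_ge ?_ ?_).symm
    · rw [← hK]; exact zpowers_le.2 (mem_centralizer_singleton_iff.2 rfl)
    · rw [hS7, D.card_cent_seven hd7]
  set N := normalizer ((S : Subgroup G) : Set G) with hN
  have hN42 : Nat.card N ∣ 42 := by
    have h := card_norm_zpowers_dvd d
    rw [hK, hd7, Nat.totient_prime (by norm_num), D.card_cent_seven hd7] at h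
    exact h
  have h7N : 7 ∣ Nat.card N := hS7 ▸ card_dvd_of_le le_normalizer
  have hmod := card_sylow_modEq_one 7 G
  have hidx : Nat.card (Sylow 7 G) = N.index := S.card_eq_index_normalizer
  rw [hidx, Nat.ModEq] at hmod
  have hp := N.card_mul_index
  rw [D.card_G] at hp
  have h42 : Nat.card N = 42 := by
    obtain ⟨l, hl⟩ := h7N
    rw [hl] at hN42 hp ⊢
    have hl6 : l ∣ 6 := Nat.dvd_of_mul_dvd_mul_left (by norm_num : 0 < 7) hN42
    have hle := Nat.le_of_dvd (by norm_num) hl6
    interval_cases l <;> omega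
  refine ⟨hself, h42, fun hab => ?_⟩
  have hle : N ≤ centralizer ((S : Subgroup G) : Set G) := fun n hn => mem_centralizer_iff.2 fun s hs =>
    congrArg Subtype.val (mul_comm' (⟨s, le_normalizer hs⟩ : N) ⟨n, hn⟩)
  have := card_dvd_of_le hle
  rw [hself, hS7, h42] at this
  norm_num at this

end Data

end Cfsg.Agent.JTwoType
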