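import Cfsg.Agent.Lib.JTwoType.WeakClosure
import Cfsg.Agent.Lib.JTwoType.System

/-!
# Simple groups of Hall-Janko type

* `exists_iso_of_simple`
-/

set_option autoImplicit false
set_option linter.style.haveILetI false

namespace Cfsg.Agent.JTwoType

open Cfsg Subgroup

variable {G : Type*} [Group G] [Finite G]

theorem exists_iso_of_simple [IsSimpleGroup G] (t : G) (ht : orderOf t = 2)
    (Q : Subgroup (centralizer ({t} : Set G))) [Q.Normal] (hQ : Cfsg.IsExtraspecial 2 Q) (hcard : Nat.card Q = 32)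
    (hminus : ∀ E : Subgroup Q, Cfsg.IsElementaryAbelian 2 E → Nat.card E ≤ 2 ^ 2)
    (h2c : centralizer (Q : Set (centralizer ({t} : Set G))) ≤ Q)
    (e : (centralizer ({t} : Set G)) ⧸ Q ≃* alternatingGroup (Fin 5))
    (htwo : ∃ x y : G, orderOf x = 2 ∧ orderOf y = 2 ∧ ¬ IsConj x y) :
    Nonempty (G ≃* JTwoPerm.jTwo) := by
  have hnwc := exists_conj_mem t ht Q hQ hcard hminus h2c e
  obtain ⟨D, -⟩ := exists_data_of_alt t ht Q h2c hQ (by rw [hcard]; rfl) e hnwc htwo
  exact D.exists_iso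

end Cfsg.Agent.JTwoType
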