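import Cfsg.Agent.Lib.JTwoType.NormV

/-!
# Groups of Hall-Janko type: centralisers of elements of odd prime order in `B`

* `isSylow_of_norm`: a `p`-subgroup without proper `p`-overgroups in its normaliser is Sylow
* `Cyc.small_cent`: `C(b) / ⟨b⟩` has order `12` or is `A5` for `b ∈ B` of odd prime order
-/

set_option autoImplicit false
set_option linter.unusedSectionVars false
set_option linter.style.haveILetI false
set_option maxHeartbeats 800000

namespace Cfsg.Agent.JTwoType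

open Cfsg Subgroup OrderJTwo
open scoped commutatorElement Pointwise

variable {G : Type*} [Group G] [Finite G]

namespace Alt5

theorem cent_powers : ∀ σ : A5, σ * σ ≠ 1 → ∀ τ : A5, τ * σ = σ * τ →
    τ ∈ [1, σ, σ ^ 2, σ ^ 3, σ ^ 4] := by decide +kernel

theorem inverted : ∀ σ : A5, σ * σ ≠ 1 → ∃ τ : A5, τ * τ = 1 ∧ τ ≠ 1 ∧ τ * σ * τ⁻¹ = σ⁻¹ := by decide +kernel

end Alt5

theorem isSylow_of_norm {H : Type*} [Group H] [Finite H] {p : ℕ} [Fact p.Prime] (K : Subgroup H)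
    (hK : IsPGroup p K)
    (h : ∀ R : Subgroup H, K ≤ R → R ≤ normalizer (K : Set H) → IsPGroup p R → R ≤ K) :
    ∃ T : Sylow p H, (T : Subgroup H) = K := by
  obtain ⟨T, hT⟩ := hK.exists_le_sylow
  refine ⟨T, le_antisymm ?_ hT⟩
  by_contra hne
  have hlt : K.subgroupOf (T : Subgroup H) < ⊤ := by
    rw [lt_top_iff_ne_top, Ne, subgroupOf_eq_top]; exact hne
  haveI := T.isPGroup'.isNilpotent
  obtain ⟨n, hnN, hnK⟩ := SetLike.exists_of_lt (normalizerCondition_of_isNilpotent _ hlt)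
  apply hnK
  refine mem_subgroupOf.2 (h ((T : Subgroup H) ⊓ normalizer (K : Set H)) (le_inf hT le_normalizer) inf_le_right
    (T.isPGroup'.to_le inf_le_left) ⟨n.2, mem_normalizer_iff.2 fun y => ⟨fun hy => ?_, fun hy => ?_⟩⟩)
  · exact mem_subgroupOf.1 ((mem_normalizer_iff.1 hnN ⟨y, hT hy⟩).1 (mem_subgroupOf.2 hy))
  · have := mem_subgroupOf.1 ((mem_normalizer_iff''.1 hnN ⟨(n : H) * y * (n : H)⁻¹, hT hy⟩).1 (mem_subgroupOf.2 hy))
    simpa [mul_assoc] using this

/-- every element of `p`-power order is conjugate into a given Sylow subgroup -/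
theorem conj_into_sylow {H : Type*} [Group H] [Finite H] {p : ℕ} [Fact p.Prime] (T : Sylow p H) (y : H)
    (hy : ∃ n, orderOf y = p ^ n) : ∃ g : H, g * y * g⁻¹ ∈ (T : Subgroup H) := by
  obtain ⟨n, hn⟩ := hy
  obtain ⟨R, hR⟩ := (IsPGroup.of_card (p := p) (n := n) (G := zpowers y) (by
    rw [Nat.card_zpowers, hn])).exists_le_sylow
  obtain ⟨g, hg⟩ := MulAction.exists_smul_eq H R T
  refine ⟨g, ?_⟩
  have := Subgroup.smul_mem_pointwise_smul y (MulAut.conj g) _ (hR (mem_zpowers y))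
  rw [← Sylow.coe_subgroup_smul, hg] at this
  exact this

theorem sq_eq_of_odd_order {H : Type*} [Group H] {b : H} {p : ℕ} (hp : orderOf b = p) (hodd : Odd p) {j : ℕ}
    (h : b ^ (2 * j) = 1) : b ^ j = 1 := by
  rw [← orderOf_dvd_iff_pow_eq_one, hp] at h ⊢
  exact (Nat.Coprime.dvd_of_dvd_mul_left hodd.coprime_two_right h)

namespace Data

variable {D : Data G}

namespace Pair

variable {t : G} (P : D.Pair t)

theorem comm_B_pow {b y : G} (hb : b ∈ P.B) (hb2 : b * b ≠ 1) (hy : y ∈ P.B) (hc : y * b = b * y) :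
    y ∈ zpowers b := by
  obtain ⟨e⟩ := P.iso
  have h := Alt5.cent_powers (e ⟨b, hb⟩) (fun h => hb2 (by
      rw [← map_mul, ← map_one e] at h
      exact congrArg Subtype.val (e.injective h)))
    (e ⟨y, hy⟩) (by rw [← map_mul, ← map_mul]; exact congrArg e (Subtype.ext hc))
  have key : ∀ j : ℕ, e ⟨y, hy⟩ = e ⟨b, hb⟩ ^ j → y ∈ zpowers b := fun j hj => by
    rw [← map_pow] at hj
    have hj' : y = b ^ j := congrArg Subtype.val (e.injective hj)
    rw [hj']; exact pow_mem (mem_zpowers b) j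
  simp only [List.mem_cons, List.not_mem_nil, or_false] at h
  rcases h with h | h | h | h | h
  exacts [key 0 (by rw [h, pow_zero]), key 1 (by rw [h, pow_one]), key 2 h, key 3 h, key 4 h]

theorem exists_inverting {b : G} (hb : b ∈ P.B) (hb2 : b * b ≠ 1) :
    ∃ w ∈ P.B, w * w = 1 ∧ w ≠ 1 ∧ w * b * w⁻¹ = b⁻¹ := by
  obtain ⟨e⟩ := P.iso
  obtain ⟨τ, h1, h2, h3⟩ := Alt5.inverted (e ⟨b, hb⟩) (fun h => hb2 (by
    rw [← map_mul, ← map_one e] at h
    exact congrArg Subtype.val (e.injective h)))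
  refine ⟨(e.symm τ : P.B), (e.symm τ).2, ?_, ?_, ?_⟩
  · rw [← Subgroup.coe_mul, ← map_mul, h1, map_one]; rfl
  · intro h
    apply h2
    have : e.symm τ = 1 := Subtype.ext h
    simpa using congrArg e this
  · have : e.symm τ * ⟨b, hb⟩ * (e.symm τ)⁻¹ = (⟨b, hb⟩ : P.B)⁻¹ := e.injective (by
      rw [map_mul, map_mul, map_inv, map_inv, MulEquiv.apply_symm_apply, h3])
    exact congrArg Subtype.val this

theorem mem_of_cent_V {b v y : G} (hb : b ∈ P.B) (hb2 : b * b ≠ 1) (hv : v ∈ P.V) (hv1 : v ≠ 1)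
    (hyv : y * v = v * y) (hyb : y * b = b * y) : ∃ w ∈ P.V, ∃ c ∈ zpowers b, y = w * c := by
  have hyt : y ∈ centralizer ({t} : Set G) := by
    rw [← P.cent_V hv hv1]; exact mem_centralizer_singleton_iff.2 hyv
  obtain ⟨w, hw, c, hc, rfl⟩ := P.decomp hyt
  refine ⟨w, hw, c, P.comm_B_pow hb hb2 hc ?_, rfl⟩
  have h' : w * (c * b) = w * (b * c) := by
    rw [← mul_assoc, hyb, ← mul_assoc, ← mul_assoc, P.comm w hw b hb]
  exact mul_left_cancel h'

end Pair

namespace Cyc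

variable {t : G} {P : D.Pair t} {k : G} (h : Cyc P k)

theorem k_mem_cent {b : G} (hb : b ∈ P.B) (h : Cyc P k) : k ∈ centralizer ({b} : Set G) :=
  mem_centralizer_singleton_iff.2 (h.centB b hb)

theorem V_le_cent {b : G} (hb : b ∈ P.B) : P.V ≤ centralizer ({b} : Set G) := fun v hv =>
  mem_centralizer_singleton_iff.2 (P.comm v hv b hb)

include h in
/-- `V` is a Sylow `2`-subgroup of `C(b)` -/
theorem cent_sylow {b : G} {p : ℕ} (hb : b ∈ P.B) (hp : orderOf b = p) (hodd : Odd p) (hp1 : p ≠ 1) :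
    ∃ T : Sylow 2 (centralizer ({b} : Set G)),
      (T : Subgroup (centralizer ({b} : Set G))) = P.V.subgroupOf (centralizer ({b} : Set G)) := by
  haveI : Fact (Nat.Prime 2) := ⟨Nat.prime_two⟩
  have hb2 : b * b ≠ 1 := fun e => hp1 (by
    have h2 : p ∣ 2 := hp ▸ orderOf_dvd_of_pow_eq_one (by rw [pow_two, e])
    rcases (Nat.dvd_prime Nat.prime_two).1 h2 with e | e
    · exact e
    · subst e; exact absurd hodd (by decide))
  set C := centralizer ({b} : Set G)
  refine isSylow_of_norm _ (IsPGroup.of_card (n := 2) (by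
    rw [Nat.card_congr (subgroupOfEquivOfLe (V_le_cent hb)).toEquiv, P.cardV]; rfl)) fun R hKR hRN hR => ?_
  have hdec : ∀ r : R, ∃ mc : h.M × zpowers b, ((r : C) : G) = (mc.1 : G) * mc.2 := by
    rintro ⟨r, hr⟩
    have hN : (r : G) ∈ normalizer (P.V : Set G) := by
      refine mem_normalizer_iff.2 fun v => ⟨fun hv => ?_, fun hv => ?_⟩
      · exact mem_subgroupOf.1 ((mem_normalizer_iff.1 (hRN hr) ⟨v, V_le_cent hb hv⟩).1 (mem_subgroupOf.2 hv))
      · have := mem_subgroupOf.1 ((mem_normalizer_iff''.1 (hRN hr) ⟨(r : G) * v * (r : G)⁻¹, V_le_cent hb hv⟩).1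
          (mem_subgroupOf.2 hv))
        simpa [mul_assoc] using this
    obtain ⟨m, hm, c, hc, e⟩ := h.normalizer_decomp hN
    have hcb : c * b = b * c := by
      have hrb := mem_centralizer_singleton_iff.1 r.2
      rw [e, mul_assoc, ← mul_assoc b, ← h.M_comm_B hm hb, mul_assoc m b] at hrb
      exact mul_left_cancel hrb
    exact ⟨(⟨m, hm⟩, ⟨c, P.comm_B_pow hb hb2 hc hcb⟩), e⟩
  -- `R` is a `2`-subgroup of a group of order `12 p`
  let N : Subgroup G := h.M ⊔ zpowers b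
  have hN : ∀ r : R, ((r : C) : G) ∈ N := fun r => by
    obtain ⟨mc, e⟩ := hdec r
    rw [e]
    exact mul_mem ((le_sup_left : h.M ≤ N) mc.1.2) ((le_sup_right : zpowers b ≤ N) mc.2.2)
  let f : h.M × zpowers b →* G :=
    { toFun := fun x => (x.1 : G) * x.2
      map_one' := one_mul 1
      map_mul' := fun x y => by
        show ((x.1 : G) * y.1) * ((x.2 : G) * y.2) = x.1 * x.2 * (y.1 * y.2)
        rw [mul_assoc, ← mul_assoc (y.1 : G), h.M_comm_B y.1.2 (zpowers_le.2 hb x.2.2)]; group }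
  have hfR : R.map C.subtype ≤ f.range := by
    rintro _ ⟨r, hr, rfl⟩
    obtain ⟨mc, e⟩ := hdec ⟨r, hr⟩
    exact ⟨mc, e.symm⟩
  have hd : Nat.card R ∣ 12 * p := by
    rw [← card_subtype C R]
    refine (card_dvd_of_le hfR).trans ?_
    rw [← h.card_M, ← hp, ← Nat.card_zpowers, ← Nat.card_prod]
    exact card_range_dvd f
  obtain ⟨n, hn⟩ := IsPGroup.iff_card.1 hR
  have hn4 : Nat.card R ∣ 4 := by
    rw [hn] at hd ⊢
    have : (2 ^ n).Coprime (3 * p) := Nat.Coprime.pow_left n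
      (Nat.Coprime.mul_right (by norm_num) hodd.coprime_two_left)
    exact this.dvd_of_dvd_mul_right (by rwa [show 4 * (3 * p) = 12 * p by ring])
  intro r hr
  have : Nat.card R ≤ Nat.card (P.V.subgroupOf C) := by
    rw [Nat.card_congr (subgroupOfEquivOfLe (V_le_cent hb)).toEquiv, P.cardV]
    exact Nat.le_of_dvd (by norm_num) hn4
  exact (Subgroup.eq_of_le_of_card_ge hKR this).ge hr

include h in
/-- involutions of `C(b)` are conjugate to `t` inside `C(b)` -/
theorem cent_involution {b : G} {p : ℕ} (hb : b ∈ P.B) (hp : orderOf b = p) (hodd : Odd p) (hp1 : p ≠ 1)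
    {w : centralizer ({b} : Set G)} (hw : orderOf w = 2) :
    ∃ g : centralizer ({b} : Set G), (g : G) * w * (g : G)⁻¹ = t := by
  haveI : Fact (Nat.Prime 2) := ⟨Nat.prime_two⟩
  obtain ⟨T, hT⟩ := h.cent_sylow hb hp hodd hp1
  obtain ⟨g, hg⟩ := conj_into_sylow T w ⟨1, by rw [hw, pow_one]⟩
  rw [hT, mem_subgroupOf] at hg
  have hne : (g : G) * w * (g : G)⁻¹ ≠ 1 := fun e => by
    have : w = 1 := Subtype.ext (conj_eq_one_iff.1 e)
    simp [this] at hw
  let k' : centralizer ({b} : Set G) := ⟨k, k_mem_cent hb h⟩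
  rcases h.V_eq hg hne with e | e | e
  · exact ⟨g, e⟩
  · refine ⟨k'⁻¹ * g, ?_⟩
    show k⁻¹ * (g : G) * w * (k⁻¹ * (g : G))⁻¹ = t
    calc k⁻¹ * (g : G) * w * (k⁻¹ * (g : G))⁻¹ = k⁻¹ * ((g : G) * w * (g : G)⁻¹) * k := by group
      _ = k⁻¹ * (k * t * k⁻¹) * k := by rw [← e]; rfl
      _ = t := by group
  · refine ⟨k'⁻¹ * k'⁻¹ * g, ?_⟩
    show k⁻¹ * k⁻¹ * (g : G) * w * (k⁻¹ * k⁻¹ * (g : G))⁻¹ = t
    calc k⁻¹ * k⁻¹ * (g : G) * w * (k⁻¹ * k⁻¹ * (g : G))⁻¹
        = k⁻¹ * (k⁻¹ * ((g : G) * w * (g : G)⁻¹) * k) * k := by simp only [mul_inv_rev, inv_inv, mul_assoc]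
      _ = k⁻¹ * (k⁻¹ * (k * (k * t * k⁻¹) * k⁻¹) * k) * k := by rw [← e]; rfl
      _ = t := by group

include h in
theorem cent_no_z {b : G} {p : ℕ} (hb : b ∈ P.B) (hp : orderOf b = p) (hodd : Odd p) (hp1 : p ≠ 1)
    {w : G} (hw : IsConj D.z w) : w * b ≠ b * w := fun hc => by
  have h2 : orderOf (⟨w, mem_centralizer_singleton_iff.2 hc⟩ : centralizer ({b} : Set G)) = 2 := by
    rw [Subgroup.orderOf_mk]
    exact orderOf_eq_prime (by rw [pow_two]; exact sq_of_isConj hw D.z2)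
      fun e => D.hQ.zne (isConj_one_left.1 (e ▸ hw))
  obtain ⟨g, hg⟩ := h.cent_involution hb hp hodd hp1 h2
  exact P.notz (hw.trans (isConj_iff.2 ⟨g, hg⟩))

include h in
theorem small_cent {b : G} {p : ℕ} (hb : b ∈ P.B) (hp : orderOf b = p) (hodd : Odd p) (hp1 : p ≠ 1) :
    Nat.card (centralizer ({b} : Set G)) = 12 * p ∨
      (Nat.card (centralizer ({b} : Set G)) = 60 * p ∧ ∃ π : centralizer ({b} : Set G) →* Alt5.A5,
        Function.Surjective π ∧ ∀ y, π y = 1 ↔ (y : G) ∈ zpowers b) := by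
  classical
  set C := centralizer ({b} : Set G) with hC
  have hb2 : b * b ≠ 1 := fun e => hp1 (by
    have h2 : p ∣ 2 := hp ▸ orderOf_dvd_of_pow_eq_one (by rw [pow_two, e])
    rcases (Nat.dvd_prime Nat.prime_two).1 h2 with e | e
    · exact e
    · subst e; exact absurd hodd (by decide))
  have hbC : zpowers b ≤ C := zpowers_le.2 (mem_centralizer_singleton_iff.2 rfl)
  set N : Subgroup C := (zpowers b).subgroupOf C with hN
  have hcen : ∀ c ∈ zpowers b, ∀ y : C, (y : G) * c = c * y := fun c hc y => by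
    obtain ⟨n, rfl⟩ := mem_zpowers_iff.1 hc
    exact ((show Commute (y : G) b from mem_centralizer_singleton_iff.1 y.2).zpow_right n).eq
  haveI : N.Normal := ⟨fun c hc y => mem_subgroupOf.2 (by
    show (y : G) * (c : G) * (y : G)⁻¹ ∈ zpowers b
    rw [hcen _ (mem_subgroupOf.1 hc) y, mul_inv_cancel_right]
    exact mem_subgroupOf.1 hc)⟩
  set W : Subgroup (C ⧸ N) := (P.V.subgroupOf C).map (QuotientGroup.mk' N) with hW
  have hVN : ∀ v ∈ P.V, v ∈ zpowers b → v = 1 := fun v hv hvb =>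
    mem_bot.1 (P.disj ▸ mem_inf.2 ⟨hv, zpowers_le.2 hb hvb⟩)
  have hWcard : Nat.card W = 4 := by
    rw [← P.cardV, ← Nat.card_congr (subgroupOfEquivOfLe (V_le_cent hb)).toEquiv]
    refine (Nat.card_eq_of_bijective
      (fun v : P.V.subgroupOf C => (⟨QuotientGroup.mk' N v, v, v.2, rfl⟩ : W)) ⟨fun v w e => ?_, ?_⟩).symm
    · have e' := QuotientGroup.eq.1 (congrArg Subtype.val e)
      have := hVN _ (mul_mem (inv_mem (mem_subgroupOf.1 v.2)) (mem_subgroupOf.1 w.2)) (mem_subgroupOf.1 e')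
      exact Subtype.ext (Subtype.ext (inv_mul_eq_one.1 this))
    · rintro ⟨_, v, hv, rfl⟩
      exact ⟨⟨v, hv⟩, rfl⟩
  have hsq : ∀ w ∈ W, w * w = 1 := by
    rintro _ ⟨v, hv, rfl⟩
    rw [← map_mul, show v * v = 1 from Subtype.ext (P.sqV _ (mem_subgroupOf.1 hv)), map_one]
  have hcentW : ∀ w ∈ W, w ≠ 1 → ∀ y, y * w = w * y → y ∈ W := by
    rintro _ ⟨v, hv, rfl⟩ hv1 y hy
    obtain ⟨y, rfl⟩ := QuotientGroup.mk'_surjective N y
    have hvV := mem_subgroupOf.1 hv
    have hv1' : (v : G) ≠ 1 := fun e => hv1 (by rw [show v = 1 from Subtype.ext e, map_one])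
    rw [← map_mul, ← map_mul] at hy
    obtain ⟨c, hc, hcy⟩ : ∃ c ∈ zpowers b, (y : G) * v = v * y * c := by
      refine ⟨_, mem_subgroupOf.1 (QuotientGroup.eq.1 hy.symm), ?_⟩
      simp only [Subgroup.coe_mul, Subgroup.coe_inv]
      group
    have hc2 : c * c = 1 := by
      have e1 : (y : G) * v * v = y := by rw [mul_assoc, P.sqV _ hvV, mul_one]
      have e2 : (y : G) * v * v = v * v * y * (c * c) := by
        calc (y : G) * v * v = v * y * c * v := by rw [hcy]
          _ = v * (y * (c * v)) := by group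
          _ = v * (y * (v * c)) := by rw [hcen c hc v]
          _ = v * ((y : G) * v) * c := by group
          _ = _ := by rw [hcy]; group
      rw [e1, P.sqV _ hvV, one_mul] at e2
      exact mul_eq_left.1 e2.symm
    have hc1 : c = 1 := by
      obtain ⟨j, rfl⟩ := (mem_powers_iff_mem_zpowers).2 hc
      exact sq_eq_of_odd_order hp hodd (by rw [mul_comm, pow_mul, pow_two]; exact hc2)
    rw [hc1, mul_one] at hcy
    obtain ⟨w', hw', c', hc', e⟩ :=
      P.mem_of_cent_V hb hb2 hvV hv1' hcy (mem_centralizer_singleton_iff.1 y.2)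
    refine ⟨⟨w', V_le_cent hb hw'⟩, mem_subgroupOf.2 hw', QuotientGroup.eq.2 (mem_subgroupOf.2 ?_)⟩
    show w'⁻¹ * (y : G) ∈ zpowers b
    rw [e, inv_mul_cancel_left]; exact hc'
  have hto : ∀ y : C ⧸ N, orderOf y = 2 → IsConj y (QuotientGroup.mk' N ⟨t, V_le_cent hb P.aV⟩) := by
    intro y hy
    obtain ⟨y, rfl⟩ := QuotientGroup.mk'_surjective N y
    have hy2 : y * y ∈ N := by
      rw [← QuotientGroup.eq_one_iff]
      show QuotientGroup.mk' N (y * y) = 1
      rw [map_mul, ← pow_two, ← hy, pow_orderOf_eq_one]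
    have hyp : (y ^ p) * (y ^ p) = 1 := Subtype.ext (by
      show ((y : G) ^ p) * (y : G) ^ p = 1
      rw [← pow_add, ← two_mul, pow_mul, pow_two]
      obtain ⟨j, hj⟩ := (mem_powers_iff_mem_zpowers).2 (mem_subgroupOf.1 hy2)
      change b ^ j = (y : G) * y at hj
      rw [← hj, ← pow_mul, mul_comm, pow_mul, ← hp, pow_orderOf_eq_one, one_pow])
    have himg : QuotientGroup.mk' N (y ^ p) = QuotientGroup.mk' N y := by
      obtain ⟨m, hm⟩ := hodd
      rw [map_pow, hm, pow_succ, pow_mul, ← hy, pow_orderOf_eq_one, one_pow, one_mul]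
    have hne : y ^ p ≠ 1 := fun e => by
      rw [e, map_one] at himg
      rw [← himg, orderOf_one] at hy
      omega
    obtain ⟨g, hg⟩ := h.cent_involution hb hp hodd hp1 (orderOf_eq_prime (by rw [pow_two]; exact hyp) hne)
    refine isConj_iff.2 ⟨QuotientGroup.mk' N g, ?_⟩
    rw [← himg, ← map_inv, ← map_mul, ← map_mul]
    exact congrArg _ (Subtype.ext hg)
  have hcl : ∀ x y : C ⧸ N, orderOf x = 2 → orderOf y = 2 → IsConj x y := fun x y hx hy =>
    (hto x hx).trans (hto y hy).symm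
  have hcard : Nat.card C = Nat.card (C ⧸ N) * p := by
    rw [Subgroup.card_eq_card_quotient_mul_card_subgroup N,
      Nat.card_congr (subgroupOfEquivOfLe hbC).toEquiv, Nat.card_zpowers, hp]
  rcases card_cases W hWcard hsq hcentW hcl with ⟨h12, -⟩ | ⟨h60, ⟨e⟩⟩
  · exact Or.inl (by rw [hcard, h12])
  · refine Or.inr ⟨by rw [hcard, h60], e.toMonoidHom.comp (QuotientGroup.mk' N),
      e.surjective.comp (QuotientGroup.mk'_surjective N), fun y => ?_⟩
    show e (QuotientGroup.mk' N y) = 1 ↔ _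
    rw [← map_one e, e.injective.eq_iff]
    exact (QuotientGroup.eq_one_iff y).trans mem_subgroupOf

end Cyc

end Data

end Cfsg.Agent.JTwoType
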