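import Mathlib
import Cfsg.Agent.EqLemmas

/-!
# Coset tables with ranked justifications

A table of a right coset action in which each edge is a tree edge, a subgroup loop, or closes a relator loop all
whose other edges have smaller rank.  Such a table bounds the order of any finite group generated by elements
satisfying the relators.

* `Cert.cover`, `Cert.card_le`
-/

set_option autoImplicit false

namespace Cfsg.Agent.JTwoType.Table

open Subgroup

/-- The `i`-th block of `14` bits. -/
def at14 (T i : ℕ) : ℕ := (T >>> (14 * i)) % 16384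

/-- A coset table with justifications. -/
structure Cert where
  n : ℕ
  inv : List ℕ
  subs : List ℕ
  rels : List (List ℕ)
  spec : List (ℕ × ℕ × Bool)
  tab : List ℕ
  rnk : List ℕ
  jst : List ℕ
  par : ℕ
  pl : ℕ

namespace Cert

variable (C : Cert)

def k : ℕ := C.inv.length
def iv (a : ℕ) : ℕ := C.inv.getD a 0
def T (a i : ℕ) : ℕ := at14 (C.tab.getD a 0) i
def rk (a i : ℕ) : ℕ := at14 (C.rnk.getD a 0) i
def js (a i : ℕ) : ℕ := at14 (C.jst.getD a 0) i

/-- The loop word number `m`: a rotation of a relator or of its inverse. -/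
def word (m : ℕ) : List ℕ :=
  match C.spec[m]? with
  | some (r, p, b) => bif b then (((C.rels.getD r []).reverse.map C.iv).rotate p) else (C.rels.getD r []).rotate p
  | none => []

/-- A path all whose edges have rank below `e`. -/
def follow (e fin : ℕ) : ℕ → List ℕ → Bool
  | p, [] => Nat.beq p fin
  | p, l :: w => Nat.blt l C.k && (Nat.blt (C.rk l p) e && follow e fin (C.T l p) w)

def edgeOK (a i : ℕ) : Bool :=
  Nat.blt (C.T a i) C.n &&
  match C.js a i with
  | 0 => Nat.blt i (C.T a i) && Nat.beq (at14 C.par (C.T a i)) i && Nat.beq (at14 C.pl (C.T a i)) a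
  | 1 => Nat.blt (C.T a i) i && Nat.beq (at14 C.par i) (C.T a i) && Nat.beq (at14 C.pl i) (C.iv a)
  | 2 => Nat.beq i 0 && Nat.beq (C.T a i) 0 && C.subs.contains a
  | m + 3 =>
    match C.word m with
    | [] => false
    | l :: w => Nat.beq l a && C.follow (C.rk a i) i (C.T a i) w

def headOK : Bool :=
  Nat.blt 0 C.n && ((List.range C.k).all fun a => Nat.blt (C.iv a) C.k && Nat.beq (C.iv (C.iv a)) a) &&
  (C.rels.all fun r => r.all fun a => Nat.blt a C.k) &&
  ((List.range (C.n - 1)).all fun j => Nat.blt (at14 C.par (j + 1)) (j + 1))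

def rowOK (a : ℕ) : Bool := (List.range C.n).all fun i => C.edgeOK a i

def check : Bool := C.headOK && (List.range C.k).all C.rowOK

variable {Γ : Type*} [Group Γ]

/-- The value of a word. -/
def val (g : ℕ → Γ) (w : List ℕ) : Γ := (w.map g).prod

theorem val_cons (g : ℕ → Γ) (a : ℕ) (w : List ℕ) : val g (a :: w) = g a * val g w := by simp [val]

theorem val_append (g : ℕ → Γ) (v w : List ℕ) : val g (v ++ w) = val g v * val g w := by simp [val]

theorem val_rotate (g : ℕ → Γ) : ∀ (p : ℕ) (w : List ℕ), val g w = 1 → val g (w.rotate p) = 1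
  | 0, w, h => by rwa [List.rotate_zero]
  | p + 1, [], h => by simpa using h
  | p + 1, a :: w, h => by
    rw [List.rotate_cons_succ]
    refine val_rotate g p _ ?_
    rw [val_cons] at h
    rw [val_append, val_cons]
    simp only [val, List.map_nil, List.prod_nil, mul_one]
    exact mul_eq_one_comm.1 h

/-- Representatives along the tree. -/
def rep (g : ℕ → Γ) : ℕ → ℕ → Γ
  | 0, _ => 1
  | f + 1, i => if i = 0 then 1 else rep g f (at14 C.par i) * g (at14 C.pl i)

structure Facts : Prop where
  npos : 0 < C.n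
  iv_lt : ∀ a < C.k, C.iv a < C.k
  iv_iv : ∀ a < C.k, C.iv (C.iv a) = a
  rels_lt : ∀ r ∈ C.rels, ∀ a ∈ r, a < C.k
  par_lt : ∀ i, 0 < i → i < C.n → at14 C.par i < i
  edge : ∀ a < C.k, ∀ i < C.n, C.edgeOK a i = true

variable {C}

theorem facts (h : C.check = true) : C.Facts := by
  simp only [check, headOK, rowOK, Bool.and_eq_true, List.all_eq_true, List.mem_range, Nat.blt_eq] at h
  obtain ⟨⟨⟨⟨hn, hiv⟩, hr⟩, hp⟩, he⟩ := h
  refine ⟨hn, fun a ha => (hiv a ha).1, fun a ha => Nat.eq_of_beq_eq_true (hiv a ha).2, hr, fun i h0 hi => ?_, he⟩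
  obtain ⟨j, rfl⟩ : ∃ j, i = j + 1 := ⟨i - 1, by omega⟩
  exact hp j (by omega)

theorem rep_indep (hf : C.Facts) (g : ℕ → Γ) : ∀ i, i < C.n → ∀ f f', i ≤ f → i ≤ f' → C.rep g f i = C.rep g f' i := by
  intro i
  induction i using Nat.strong_induction_on with
  | _ i ih =>
    intro hi f f' h1 h2
    rcases Nat.eq_zero_or_pos i with rfl | h0
    · cases f <;> cases f' <;> simp [rep]
    obtain ⟨f, rfl⟩ : ∃ e, f = e + 1 := ⟨f - 1, by omega⟩
    obtain ⟨f', rfl⟩ : ∃ e, f' = e + 1 := ⟨f' - 1, by omega⟩
    have hp := hf.par_lt i h0 hi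
    simp only [rep, if_neg (Nat.pos_iff_ne_zero.1 h0)]
    rw [ih _ hp (by omega) f f' (by omega) (by omega)]

variable (C) in
/-- The representative of a coset. -/
def r (g : ℕ → Γ) (i : ℕ) : Γ := C.rep g C.n i

theorem r_zero (g : ℕ → Γ) : C.r g 0 = 1 := by
  rw [r]; cases C.n <;> simp [rep]

theorem r_step (hf : C.Facts) (g : ℕ → Γ) {j : ℕ} (h0 : 0 < j) (hj : j < C.n) :
    C.r g j = C.r g (at14 C.par j) * g (at14 C.pl j) := by
  have hp := hf.par_lt j h0 hj
  rw [r, r, rep_indep hf g j hj C.n (C.n + 1) (by omega) (by omega)]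
  simp only [rep, if_neg (Nat.pos_iff_ne_zero.1 h0)]

theorem word_val (hf : C.Facts) {g : ℕ → Γ} (hinv : ∀ a < C.k, g (C.iv a) * g a = 1)
    (hrel : ∀ r ∈ C.rels, val g r = 1) (m : ℕ) : val g (C.word m) = 1 := by
  have hinvw : ∀ w : List ℕ, (∀ a ∈ w, a < C.k) → val g (w.reverse.map C.iv) = (val g w)⁻¹ := by
    intro w
    induction w with
    | nil => simp [val]
    | cons a w ih =>
      intro hw
      rw [List.reverse_cons, List.map_append, val_append, ih (fun b hb => hw b (List.mem_cons_of_mem _ hb)),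
        val_cons, mul_inv_rev]
      congr 1
      simpa [val] using eq_inv_of_mul_eq_one_left (hinv a (hw a List.mem_cons_self))
  have hget : ∀ r, val g (C.rels.getD r []) = 1 ∧ ∀ a ∈ C.rels.getD r [], a < C.k := by
    intro r
    rcases h : C.rels[r]? with _ | w
    · simp [List.getD, h, val]
    · have hm : w ∈ C.rels := List.mem_of_getElem? h
      simp only [List.getD, h, Option.getD_some]
      exact ⟨hrel w hm, hf.rels_lt w hm⟩
  unfold word
  split
  · rename_i r p b _
    cases b
    · exact val_rotate g p _ (hget r).1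
    · refine val_rotate g p _ ?_
      rw [hinvw _ (hget r).2, (hget r).1, inv_one]
  · rfl

variable (H : Subgroup Γ)

theorem edge_mem (hf : C.Facts) {g : ℕ → Γ} (hinv : ∀ a < C.k, g (C.iv a) * g a = 1)
    (hrel : ∀ r ∈ C.rels, val g r = 1) (hsub : ∀ a ∈ C.subs, g a ∈ H) :
    ∀ e a i, C.rk a i = e → a < C.k → i < C.n → C.r g i * g a * (C.r g (C.T a i))⁻¹ ∈ H := by
  intro e
  induction e using Nat.strong_induction_on with
  | _ e ih =>
    intro a i he ha hi
    have hok := hf.edge a ha i hi
    simp only [edgeOK, Bool.and_eq_true, Nat.blt_eq] at hok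
    obtain ⟨hj, hjs⟩ := hok
    split at hjs
    · simp only [Bool.and_eq_true, Nat.blt_eq] at hjs
      obtain ⟨⟨hlt, hp⟩, hl⟩ := hjs
      rw [r_step hf g (by omega) hj, Nat.eq_of_beq_eq_true hp, Nat.eq_of_beq_eq_true hl, mul_inv_cancel]
      exact one_mem H
    · simp only [Bool.and_eq_true, Nat.blt_eq] at hjs
      obtain ⟨⟨hlt, hp⟩, hl⟩ := hjs
      rw [r_step hf g (show 0 < i by omega) hi, Nat.eq_of_beq_eq_true hp, Nat.eq_of_beq_eq_true hl,
        mul_assoc (C.r g (C.T a i)) (g (C.iv a)) (g a), hinv a ha, mul_one, mul_inv_cancel]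
      exact one_mem H
    · simp only [Bool.and_eq_true, List.contains_iff_mem] at hjs
      obtain ⟨⟨h0, h1⟩, hs⟩ := hjs
      rw [Nat.eq_of_beq_eq_true h1, Nat.eq_of_beq_eq_true h0, r_zero, one_mul, inv_one, mul_one]
      exact hsub a hs
    · rename_i m _
      have hw := word_val hf hinv hrel m
      split at hjs
      · exact absurd hjs Bool.false_ne_true
      · rename_i l w heq
        rw [heq] at hw
        simp only [Bool.and_eq_true] at hjs
        obtain ⟨hla, hfo⟩ := hjs
        have key : ∀ (w : List ℕ) (p : ℕ), p < C.n → C.follow (C.rk a i) i p w = true →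
            C.r g p * val g w * (C.r g i)⁻¹ ∈ H := by
          intro w
          induction w with
          | nil =>
            intro p _ h
            simp only [follow] at h
            rw [Nat.eq_of_beq_eq_true h]
            simp [val]
          | cons b w ihw =>
            intro p hp h
            simp only [follow, Bool.and_eq_true, Nat.blt_eq] at h
            obtain ⟨hb, hr, h⟩ := h
            have hq : C.T b p < C.n := by
              have := hf.edge b hb p hp
              simp only [edgeOK, Bool.and_eq_true, Nat.blt_eq] at this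
              exact this.1
            have h2 := mul_mem (ih _ (he ▸ hr) b p rfl hb hp) (ihw _ hq h)
            rw [val_cons]
            have e' : C.r g p * (g b * val g w) * (C.r g i)⁻¹ =
                C.r g p * g b * (C.r g (C.T b p))⁻¹ * (C.r g (C.T b p) * val g w * (C.r g i)⁻¹) := by group
            rwa [e']
        have h3 := inv_mem (key w _ hj hfo)
        rw [val_cons, Nat.eq_of_beq_eq_true hla] at hw
        rw [eq_inv_of_mul_eq_one_left hw]
        simpa [mul_assoc] using h3

/-- Every element generated by the letters lies in one of the `n` cosets of `H`. -/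
theorem cover (h : C.check = true) {g : ℕ → Γ} (hinv : ∀ a < C.k, g (C.iv a) * g a = 1)
    (hrel : ∀ r ∈ C.rels, val g r = 1) (hsub : ∀ a ∈ C.subs, g a ∈ H) {x : Γ}
    (hx : x ∈ closure (g '' {a | a < C.k})) : ∃ i, i < C.n ∧ x * (C.r g i)⁻¹ ∈ H := by
  have hf := facts h
  have step : ∀ x : Γ, (∃ i, i < C.n ∧ x * (C.r g i)⁻¹ ∈ H) → ∀ a < C.k,
      ∃ i, i < C.n ∧ x * g a * (C.r g i)⁻¹ ∈ H := by
    rintro x ⟨i, hi, hm⟩ a ha
    refine ⟨C.T a i, ?_, ?_⟩
    · have := hf.edge a ha i hi
      simp only [edgeOK, Bool.and_eq_true, Nat.blt_eq] at this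
      exact this.1
    · have h2 := mul_mem hm (edge_mem H hf hinv hrel hsub _ a i rfl ha hi)
      rwa [show x * (C.r g i)⁻¹ * (C.r g i * g a * (C.r g (C.T a i))⁻¹) = x * g a * (C.r g (C.T a i))⁻¹ by group] at h2
  induction hx using Subgroup.closure_induction_right with
  | one => exact ⟨0, hf.npos, by rw [r_zero]; simp⟩
  | mul_right x _ y hy ih =>
    obtain ⟨a, ha, rfl⟩ := hy
    exact step x ih a ha
  | mul_inv_cancel x _ y hy ih =>
    obtain ⟨a, ha, rfl⟩ := hy
    rw [← eq_inv_of_mul_eq_one_left (hinv a ha)]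
    exact step x ih _ (hf.iv_lt a ha)

/-- The order bound. -/
theorem card_le [Finite Γ] (h : C.check = true) {g : ℕ → Γ} (hinv : ∀ a < C.k, g (C.iv a) * g a = 1)
    (hrel : ∀ r ∈ C.rels, val g r = 1) (hsub : ∀ a ∈ C.subs, g a ∈ H) :
    Nat.card (closure (g '' {a | a < C.k})) ≤ C.n * Nat.card H := by
  classical
  have hc := fun x : closure (g '' {a | a < C.k}) => cover H h hinv hrel hsub x.2
  choose i hi hm using hc
  let f : closure (g '' {a | a < C.k}) → Fin C.n × H := fun x => (⟨i x, hi x⟩, ⟨_, hm x⟩)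
  have hf : Function.Injective f := by
    intro x y e
    simp only [f, Prod.mk.injEq, Fin.mk.injEq, Subtype.mk.injEq] at e
    obtain ⟨e1, e2⟩ := e
    rw [e1] at e2
    exact Subtype.ext (mul_right_cancel e2)
  have := Nat.card_le_card_of_injective f hf
  rwa [Nat.card_prod, Nat.card_fin] at this

end Cert

end Cfsg.Agent.JTwoType.Table
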