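import Cfsg.Agent.Lib.JTwoType.FiveNorm

/-!
# Groups of Hall-Janko type: the two kinds of elements of order three

* `Data.Triple`: an element `a ∈ B` of order three together with `k`
* `Triple.card_cent_a`: `|C(a)| = 36`
* `Triple.center`: the centre of a Sylow 3-subgroup through `⟨k, a⟩` is `⟨k⟩`
-/

set_option autoImplicit false
set_option linter.unusedSectionVars false
set_option linter.style.haveILetI false
set_option maxHeartbeats 800000

namespace Cfsg.Agent.JTwoType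

open Cfsg Subgroup OrderJTwo
open scoped commutatorElement Pointwise

variable {G : Type*} [Group G] [Finite G]

namespace Alt5

theorem exists_three : ∃ σ : A5, σ ^ 3 = 1 ∧ σ ≠ 1 := by decide +kernel

end Alt5

theorem mem_zpowers_three {k y : G} (hk : k ^ 3 = 1) (hy : y ∈ zpowers k) : y = 1 ∨ y = k ∨ y = k ^ 2 := by
  obtain ⟨j, rfl⟩ := (mem_powers_iff_mem_zpowers).2 hy
  show k ^ j = 1 ∨ k ^ j = k ∨ k ^ j = k ^ 2
  rw [← Nat.mod_add_div j 3, pow_add, pow_mul, hk, one_pow, mul_one]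
  have := Nat.mod_lt j (show 3 > 0 by norm_num)
  interval_cases j % 3 <;> simp

namespace Data

variable {D : Data G}

/-- the pair `V, B`, the cycling element `k` and an element `a ∈ B` of order three -/
structure Triple (D : Data G) (t : G) where
  P : D.Pair t
  k : G
  a : G
  hk : Cyc P k
  aB : a ∈ P.B
  a_ord : orderOf a = 3
  zB : D.z ∈ P.B

variable (D) in
theorem exists_triple : ∃ t, Nonempty (D.Triple t) := by
  obtain ⟨t, ht, -⟩ := D.exists_outer
  obtain ⟨k, hk⟩ := exists_cycle ht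
  obtain ⟨e⟩ := (pairOuter ht).iso
  obtain ⟨σ, h3, h1⟩ := Alt5.exists_three
  haveI : Fact (Nat.Prime 3) := ⟨Nat.prime_three⟩
  refine ⟨t, ⟨{ P := pairOuter ht, k := k, a := (e.symm σ : (pairOuter ht).B), hk := hk, aB := (e.symm σ).2,
                a_ord := ?_, zB := (D.prod ht).zB }⟩⟩
  rw [Subgroup.orderOf_coe]
  exact orderOf_eq_prime (by rw [← map_pow, h3, map_one]) fun h => h1 (by simpa using congrArg e h)

namespace Triple

variable {t : G} (T : D.Triple t)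

theorem a3 : T.a ^ 3 = 1 := T.a_ord ▸ pow_orderOf_eq_one T.a

theorem ka : T.k * T.a = T.a * T.k := T.hk.centB T.a T.aB

theorem kz : T.k * D.z = D.z * T.k := T.hk.centB D.z T.zB

include T in
theorem card_cent_a : Nat.card (centralizer ({T.a} : Set G)) = 36 := by
  rcases T.hk.small_cent T.aB T.a_ord (by decide) (by norm_num) with h | ⟨h180, -⟩
  · exact h
  exfalso
  haveI : Fact (Nat.Prime 5) := ⟨Nat.prime_five⟩
  haveI : Fact (Nat.Prime 3) := ⟨Nat.prime_three⟩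
  obtain ⟨⟨y, hy⟩, hy5⟩ := exists_prime_orderOf_dvd_card' (G := centralizer ({T.a} : Set G)) 5 (by rw [h180]; norm_num)
  rw [Subgroup.orderOf_mk] at hy5
  have haC : T.a ∈ centralizer ({y} : Set G) :=
    mem_centralizer_singleton_iff.2 (mem_centralizer_singleton_iff.1 hy).symm
  have h300 : Nat.card (centralizer ({y} : Set G)) = 300 := by
    refine (D.five_cases hy5).resolve_right fun h50 => ?_
    have := Subgroup.orderOf_dvd_natCard _ haC
    rw [T.a_ord, h50] at this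
    norm_num at this
  obtain ⟨x, hx, hx5⟩ := T.P.exists_five
  have hx300 := (T.hk.card_cent_five hx hx5).1
  -- `y` and `x` generate conjugate subgroups
  obtain ⟨g, hg⟩ : ∃ g, zpowers (g * y * g⁻¹) = zpowers x := by
    obtain ⟨S, -⟩ := D.exists_sylow5 hy5
    obtain ⟨-, x0, c0, hx0, hc0, -, hc0C, -, hall⟩ := D.sylow5_struct S
    have key : ∀ w : G, orderOf w = 5 → Nat.card (centralizer ({w} : Set G)) = 300 →
        ∃ g, zpowers (g * w * g⁻¹) = zpowers x0 := by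
      intro w hw hwC
      obtain ⟨g, hg | hg⟩ := hall w hw
      · exact ⟨g, hg⟩
      · exfalso
        have hgw : g * w * g⁻¹ ≠ 1 := fun e => by simp [conj_eq_one_iff.1 e] at hw
        have h1 := cent_of_mem_zpowers Nat.prime_five hc0 (hg.le (mem_zpowers _)) hgw
        rw [← card_cent_isConj (isConj_iff.2 ⟨g, rfl⟩ : IsConj w _), h1, hc0C] at hwC
        omega
    obtain ⟨g1, h1⟩ := key y hy5 h300
    obtain ⟨g2, h2⟩ := key x hx5 hx300
    refine ⟨g2⁻¹ * g1, ?_⟩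
    have e := congrArg (fun H : Subgroup G => H.map (MulAut.conj g2⁻¹).toMonoidHom) (h1.trans h2.symm)
    simp only [MonoidHom.map_zpowers, MulEquiv.coe_toMonoidHom, MulAut.conj_apply] at e
    rw [show g2⁻¹ * g1 * y * (g2⁻¹ * g1)⁻¹ = g2⁻¹ * (g1 * y * g1⁻¹) * g2⁻¹⁻¹ by group, e]
    congr 1; group
  set a' := g * T.a * g⁻¹ with ha'
  have ha'x : a' ∈ centralizer ({x} : Set G) := by
    rw [mem_centralizer_singleton_iff]
    obtain ⟨j, hj⟩ := mem_zpowers_iff.1 (hg.ge (mem_zpowers x))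
    rw [← hj, conj_zpow, ha', conj_mul, conj_mul,
      ((show Commute T.a y from mem_centralizer_singleton_iff.1 haC).zpow_right j).eq]
  -- a Sylow 3-subgroup of `C(x)` is `⟨k⟩`
  set k' : centralizer ({x} : Set G) := ⟨T.k, Cyc.k_mem_cent hx T.hk⟩
  obtain ⟨R, hR⟩ := (IsPGroup.of_card (p := 3) (n := 1) (G := zpowers k') (by
    rw [Nat.card_zpowers, Subgroup.orderOf_mk, T.hk.k_ord, pow_one])).exists_le_sylow
  have hRk : (R : Subgroup (centralizer ({x} : Set G))) = zpowers k' := by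
    refine (Subgroup.eq_of_le_of_card_ge hR ?_).symm
    rw [Nat.card_zpowers, Subgroup.orderOf_mk, T.hk.k_ord]
    obtain ⟨n, hn⟩ := IsPGroup.iff_card.1 R.isPGroup'
    have hd := card_subgroup_dvd_card (R : Subgroup (centralizer ({x} : Set G)))
    rw [hn, hx300] at hd
    rw [hn]
    rcases Nat.lt_or_ge n 2 with h | h
    · exact (Nat.pow_le_pow_right (by norm_num) (show n ≤ 1 by omega)).trans (by norm_num)
    · exact absurd ((Nat.pow_dvd_pow 3 h).trans hd) (by norm_num)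
  obtain ⟨c, hc⟩ := conj_into_sylow R ⟨a', ha'x⟩ ⟨1, by
    rw [Subgroup.orderOf_mk, pow_one]; exact (MulEquiv.orderOf_eq (MulAut.conj g) T.a).trans T.a_ord⟩
  rw [hRk] at hc
  obtain ⟨j, hj⟩ := mem_zpowers_iff.1 hc
  have hj' : T.k ^ j = (c : G) * a' * (c : G)⁻¹ := by
    have := congrArg Subtype.val hj
    simpa using this
  -- hence `a` commutes with a conjugate of `z`
  set h := ((c : G) * g)⁻¹ with hh
  refine T.hk.cent_no_z T.aB T.a_ord (by decide) (by norm_num) (w := h * D.z * h⁻¹) (isConj_iff.2 ⟨h, rfl⟩) ?_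
  have ea : T.a = h * (T.k ^ j) * h⁻¹ := by rw [hj', ha', hh]; group
  rw [ea, conj_mul, conj_mul, ((show Commute D.z T.k from T.kz.symm).zpow_right j).eq]

theorem k_move {v : G} (hv : v ∈ T.P.V) (hv1 : v ≠ 1) : T.k * v * T.k⁻¹ ≠ v := fun e => by
  have hk3 := T.hk.k3
  have hne : T.k * (T.k * t * T.k⁻¹) * T.k⁻¹ ≠ T.k * t * T.k⁻¹ := fun e => T.hk.moves
    ((MulAut.conj T.k).injective e)
  rcases T.hk.V_eq hv hv1 with h | h | h <;> rw [h] at e
  · exact T.hk.moves e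
  · exact hne e
  · exact hne ((MulAut.conj T.k).injective e)

theorem cent_a_decomp {y : G} (hy : y * T.a = T.a * y) :
    ∃ v ∈ T.P.V, ∃ i j : ℕ, y = v * T.k ^ i * T.a ^ j := by
  let f : T.hk.M × zpowers T.a → centralizer ({T.a} : Set G) := fun p => ⟨(p.1 : G) * p.2, mul_mem
    (mem_centralizer_singleton_iff.2 (T.hk.M_comm_B p.1.2 T.aB))
    (zpowers_le.2 (mem_centralizer_singleton_iff.2 rfl) p.2.2)⟩
  have hf : Function.Injective f := fun p q e => by
    have e' : (p.1 : G) * p.2 = q.1 * q.2 := congrArg Subtype.val e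
    have e2 : (q.1 : G)⁻¹ * p.1 = q.2 * (p.2 : G)⁻¹ := by
      calc (q.1 : G)⁻¹ * p.1 = (q.1 : G)⁻¹ * (p.1 * p.2) * (p.2 : G)⁻¹ := by group
        _ = _ := by rw [e']; group
    have h1 : (q.1 : G)⁻¹ * p.1 = 1 := T.hk.M_inf_B (mul_mem (inv_mem q.1.2) p.1.2)
      (e2 ▸ mul_mem (zpowers_le.2 T.aB q.2.2) (inv_mem (zpowers_le.2 T.aB p.2.2)))
    rw [h1] at e2
    exact _root_.Prod.ext (Subtype.ext (inv_mul_eq_one.1 h1).symm) (Subtype.ext (mul_inv_eq_one.1 e2.symm).symm)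
  obtain ⟨p, hp⟩ := (hf.bijective_of_nat_card_le (by
    rw [Nat.card_prod, T.hk.card_M, Nat.card_zpowers, T.a_ord, T.card_cent_a])).2
    ⟨y, mem_centralizer_singleton_iff.2 hy⟩
  obtain ⟨v, hv, i, e⟩ := T.hk.mem_M p.1.2
  obtain ⟨j, hj⟩ := (mem_powers_iff_mem_zpowers).2 p.2.2
  refine ⟨v, hv, i, j, ?_⟩
  have hp' : (p.1 : G) * p.2 = y := congrArg Subtype.val hp
  rw [← hp', e, ← hj]

/-- `⟨k, a⟩` -/
def E9 : Subgroup G where
  carrier := {x | ∃ i j : ℕ, x = T.k ^ i * T.a ^ j}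
  one_mem' := ⟨0, 0, by simp⟩
  mul_mem' := by
    rintro _ _ ⟨i, j, rfl⟩ ⟨i', j', rfl⟩
    refine ⟨i + i', j + j', ?_⟩
    rw [pow_add, pow_add]
    have hc : T.a ^ j * T.k ^ i' = T.k ^ i' * T.a ^ j := ((show Commute T.k T.a from T.ka).pow_pow i' j).eq.symm
    calc T.k ^ i * T.a ^ j * (T.k ^ i' * T.a ^ j') = T.k ^ i * (T.a ^ j * T.k ^ i') * T.a ^ j' := by group
      _ = _ := by rw [hc]; group
  inv_mem' := by
    rintro _ ⟨i, j, rfl⟩
    refine ⟨2 * i, 2 * j, inv_eq_of_mul_eq_one_right ?_⟩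
    have hc : T.a ^ j * T.k ^ (2 * i) = T.k ^ (2 * i) * T.a ^ j :=
      ((show Commute T.k T.a from T.ka).pow_pow (2 * i) j).eq.symm
    calc T.k ^ i * T.a ^ j * (T.k ^ (2 * i) * T.a ^ (2 * j))
        = T.k ^ i * (T.a ^ j * T.k ^ (2 * i)) * T.a ^ (2 * j) := by group
      _ = T.k ^ (3 * i) * T.a ^ (3 * j) := by
        rw [hc, show 3 * i = i + 2 * i by ring, show 3 * j = j + 2 * j by ring, pow_add, pow_add]; group
      _ = 1 := by rw [pow_mul, pow_mul, T.hk.k3, T.a3, one_pow, one_pow, one_mul]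

theorem k_mem_E9 : T.k ∈ T.E9 := ⟨1, 0, by simp⟩

theorem a_mem_E9 : T.a ∈ T.E9 := ⟨0, 1, by simp⟩

theorem a_notMem : T.a ∉ zpowers T.k := fun h => by
  have h1 : T.a ∈ T.hk.M := zpowers_le.2 T.hk.k_mem_M h
  have := T.hk.M_inf_B h1 T.aB
  have h3 := T.a_ord
  simp [this] at h3

theorem E9_card : Nat.card T.E9 = 9 := by
  let f : zpowers T.k × zpowers T.a → T.E9 := fun p => ⟨(p.1 : G) * p.2,
    mul_mem (zpowers_le.2 T.k_mem_E9 p.1.2) (zpowers_le.2 T.a_mem_E9 p.2.2)⟩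
  have hf : Function.Bijective f := by
    refine ⟨fun p q e => ?_, ?_⟩
    · have e' : (p.1 : G) * p.2 = q.1 * q.2 := congrArg Subtype.val e
      have e2 : (q.1 : G)⁻¹ * p.1 = q.2 * (p.2 : G)⁻¹ := by
        calc (q.1 : G)⁻¹ * p.1 = (q.1 : G)⁻¹ * (p.1 * p.2) * (p.2 : G)⁻¹ := by group
          _ = _ := by rw [e']; group
      have h1 : (q.1 : G)⁻¹ * p.1 = 1 := T.hk.M_inf_B
        (zpowers_le.2 T.hk.k_mem_M (mul_mem (inv_mem q.1.2) p.1.2))
        (e2 ▸ mul_mem (zpowers_le.2 T.aB q.2.2) (inv_mem (zpowers_le.2 T.aB p.2.2)))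
      rw [h1] at e2
      exact _root_.Prod.ext (Subtype.ext (inv_mul_eq_one.1 h1).symm) (Subtype.ext (mul_inv_eq_one.1 e2.symm).symm)
    · rintro ⟨_, i, j, rfl⟩
      exact ⟨(⟨_, pow_mem (mem_zpowers _) i⟩, ⟨_, pow_mem (mem_zpowers _) j⟩), rfl⟩
  rw [← Nat.card_eq_of_bijective f hf, Nat.card_prod, Nat.card_zpowers, Nat.card_zpowers, T.hk.k_ord, T.a_ord]

theorem E9_comm {x : G} (hx : x ∈ T.E9) : x * T.k = T.k * x ∧ x * T.a = T.a * x := by
  obtain ⟨i, j, rfl⟩ := hx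
  have h : Commute T.k T.a := T.ka
  exact ⟨(((Commute.refl T.k).pow_left i).mul_left (h.symm.pow_left j)).eq,
    ((h.pow_left i).mul_left ((Commute.refl T.a).pow_left j)).eq⟩

theorem E9_pow {x : G} (hx : x ∈ T.E9) : x ^ 3 = 1 := by
  obtain ⟨i, j, rfl⟩ := hx
  rw [((show Commute T.k T.a from T.ka).pow_pow i j).mul_pow, ← pow_mul, ← pow_mul, mul_comm i, mul_comm j,
    pow_mul, pow_mul, T.hk.k3, T.a3, one_pow, one_pow, one_mul]

/-- elements of `C(a)` normalising `⟨k⟩` lie in `⟨k, a⟩` -/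
theorem cent_a_norm_k {y : G} (hy : y * T.a = T.a * y) (hyk : y * T.k * y⁻¹ ∈ zpowers T.k) : y ∈ T.E9 := by
  obtain ⟨v, hv, i, j, rfl⟩ := T.cent_a_decomp hy
  have h := T.E9_comm ⟨i, j, rfl⟩
  have e : v * T.k ^ i * T.a ^ j * T.k * (v * T.k ^ i * T.a ^ j)⁻¹ = v * T.k * v⁻¹ := by
    calc v * T.k ^ i * T.a ^ j * T.k * (v * T.k ^ i * T.a ^ j)⁻¹
        = v * ((T.k ^ i * T.a ^ j) * T.k) * (T.k ^ i * T.a ^ j)⁻¹ * v⁻¹ := by group
      _ = v * (T.k * (T.k ^ i * T.a ^ j)) * (T.k ^ i * T.a ^ j)⁻¹ * v⁻¹ := by rw [h.1]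
      _ = _ := by group
  rw [e] at hyk
  have hd : v * T.k * v⁻¹ * T.k⁻¹ ∈ zpowers T.k := mul_mem hyk (inv_mem (mem_zpowers _))
  have hdV : v * T.k * v⁻¹ * T.k⁻¹ ∈ T.P.V := by
    rw [show v * T.k * v⁻¹ * T.k⁻¹ = v * (T.k * v⁻¹ * T.k⁻¹) by group]
    exact mul_mem hv (T.hk.normV _ (inv_mem hv))
  have h1 : v * T.k * v⁻¹ * T.k⁻¹ = 1 := by
    rcases mem_zpowers_three T.hk.k3 hd with e | e | e
    · exact e
    · exact absurd (T.hk.pow_notMem (j := 1) (by norm_num) (by rw [pow_one]; exact T.P.hVC (e ▸ hdV))) (by norm_num)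
    · exact absurd (T.hk.pow_notMem (j := 2) (by norm_num) (T.P.hVC (e ▸ hdV))) (by norm_num)
  have hv1 : v = 1 := by
    by_contra hne
    apply T.k_move hv hne
    calc T.k * v * T.k⁻¹ = (v * T.k * v⁻¹ * T.k⁻¹)⁻¹ * v := by group
      _ = v := by rw [h1, inv_one, one_mul]
  exact ⟨i, j, by rw [hv1, one_mul]⟩

theorem cent_E9 {y : G} (hya : y * T.a = T.a * y) (hyk : y * T.k = T.k * y) : y ∈ T.E9 :=
  T.cent_a_norm_k hya (by rw [hyk, mul_inv_cancel_right]; exact mem_zpowers _)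

theorem not_conj_k_a {y : G} (hy : y ∈ zpowers T.a) (hy1 : y ≠ 1) : ¬ IsConj T.k y := fun h => by
  obtain ⟨g, hg⟩ := isConj_iff.1 h
  refine T.hk.cent_no_z T.aB T.a_ord (by decide) (by norm_num) (w := g * D.z * g⁻¹) (isConj_iff.2 ⟨g, rfl⟩) ?_
  have hc : g * D.z * g⁻¹ ∈ centralizer ({y} : Set G) := by
    rw [mem_centralizer_singleton_iff, ← hg, conj_mul, conj_mul, T.kz]
  rw [cent_of_mem_zpowers Nat.prime_three T.a_ord hy hy1] at hc
  exact mem_centralizer_singleton_iff.1 hc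

include D in
theorem sylow3_card (S : Sylow 3 G) : Nat.card (S : Subgroup G) = 27 := by
  haveI : Fact (Nat.Prime 3) := ⟨Nat.prime_three⟩
  obtain ⟨n, hn⟩ := IsPGroup.iff_card.1 S.isPGroup'
  have h := (S : Subgroup G).card_mul_index
  rw [hn, D.card_G] at h
  have hi := S.not_dvd_index
  have hle : 3 ^ n ∣ 604800 := ⟨_, h.symm⟩
  have h3 : n = 3 := by
    rcases Nat.lt_or_ge n 4 with hlt | hge
    · interval_cases n <;> omega
    · exact absurd ((Nat.pow_dvd_pow 3 hge).trans hle) (by norm_num)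
  rw [hn, h3]; rfl

theorem exists_sylow3 : ∃ S : Sylow 3 G, T.E9 ≤ (S : Subgroup G) :=
  (IsPGroup.of_card (p := 3) (n := 2) (G := T.E9) (by rw [T.E9_card]; rfl)).exists_le_sylow

/-- the shape of a Sylow 3-subgroup through `⟨k, a⟩` -/
theorem sylow3_basic (S : Sylow 3 G) (hS : T.E9 ≤ (S : Subgroup G)) :
    (∀ y ∈ (S : Subgroup G), y * T.k = T.k * y) ∧
      (∀ y ∈ (S : Subgroup G), ∃ l : ℕ, y * T.a * y⁻¹ = T.a * T.k ^ l) ∧
      (∀ i : ℕ, ∃ y ∈ (S : Subgroup G), y * T.a * y⁻¹ = T.a * T.k ^ i) := by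
  classical
  haveI : Fact (Nat.Prime 3) := ⟨Nat.prime_three⟩
  set S' := (S : Subgroup G)
  have h27 : Nat.card S' = 27 := sylow3_card (D := D) S
  have hpg : IsPGroup 3 S' := S.isPGroup'
  haveI : Nontrivial S' := (Finite.one_lt_card_iff_nontrivial.1 (by rw [h27]; norm_num))
  haveI := hpg.center_nontrivial
  -- a central element
  set Z := center S'
  have hZ : ∀ e : S', e ∈ Z → (e : G) ∈ T.E9 := fun e he =>
    T.cent_E9 (congrArg Subtype.val (mem_center_iff.1 he ⟨T.a, hS T.a_mem_E9⟩)).symm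
      (congrArg Subtype.val (mem_center_iff.1 he ⟨T.k, hS T.k_mem_E9⟩)).symm
  have haZ : (⟨T.a, hS T.a_mem_E9⟩ : S') ∉ Z := by
    intro ha
    have hle : S' ≤ centralizer ({T.a} : Set G) := fun y hy =>
      mem_centralizer_singleton_iff.2 (congrArg Subtype.val (mem_center_iff.1 ha ⟨y, hy⟩))
    have := card_dvd_of_le hle
    rw [h27, T.card_cent_a] at this
    norm_num at this
  have hZ3 : Nat.card Z = 3 := by
    have hle : Z.map S'.subtype ≤ T.E9 := by
      rintro _ ⟨e, he, rfl⟩; exact hZ e he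
    have hd := card_dvd_of_le hle
    rw [card_subtype, T.E9_card] at hd
    obtain ⟨i, hi, hi'⟩ := (Nat.dvd_prime_pow Nat.prime_three).1 (show Nat.card Z ∣ 3 ^ 2 from hd)
    interval_cases i
    · exact absurd hi' (Finite.one_lt_card_iff_nontrivial.2 inferInstance).ne'
    · simpa using hi'
    · exfalso
      have heq : Z.map S'.subtype = T.E9 :=
        Subgroup.eq_of_le_of_card_ge hle (by rw [card_subtype, hi', T.E9_card]; norm_num)
      obtain ⟨e, he, hea⟩ := heq.ge T.a_mem_E9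
      exact haZ (by rwa [show e = ⟨T.a, hS T.a_mem_E9⟩ from Subtype.ext hea] at he)
  obtain ⟨⟨e, heS⟩, heZ, he1⟩ : ∃ e : S', e ∈ Z ∧ e ≠ 1 := by
    obtain ⟨e, he⟩ := exists_ne (1 : Z)
    exact ⟨e, e.2, fun h => he (Subtype.ext h)⟩
  have hZgen : ∀ y : S', y ∈ Z → ∃ l : ℕ, (y : G) = e ^ l := by
    intro y hy
    have hgen : zpowers (⟨e, heS⟩ : S') = Z := by
      refine Subgroup.eq_of_le_of_card_ge (zpowers_le.2 heZ) ?_
      rw [hZ3, Nat.card_zpowers]
      have h3 : orderOf (⟨e, heS⟩ : S') ∣ 3 := hZ3 ▸ Subgroup.orderOf_dvd_natCard _ heZ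
      rcases (Nat.dvd_prime Nat.prime_three).1 h3 with h | h
      · exact absurd (orderOf_eq_one_iff.1 h) he1
      · omega
    rw [← hgen] at hy
    obtain ⟨l, hl⟩ := (mem_powers_iff_mem_zpowers).2 hy
    exact ⟨l, by rw [← hl]; rfl⟩
  haveI : IsMulCommutative (S' ⧸ Z) := IsPGroup.isMulCommutative_of_card_eq_prime_sq (p := 3) (by
    have h := Z.index_mul_card
    rw [hZ3, h27] at h
    rw [← Subgroup.index_eq_card]; omega)
  have hcom : ∀ y x : S', ∃ l : ℕ, (y : G) * x * (y : G)⁻¹ = x * e ^ l := by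
    intro y x
    have hm : x⁻¹ * (y * x * y⁻¹) ∈ Z := by
      rw [← QuotientGroup.eq]
      show QuotientGroup.mk' Z x = QuotientGroup.mk' Z (y * x * y⁻¹)
      rw [map_mul, map_mul, mul_comm' (QuotientGroup.mk' Z y), map_inv, mul_inv_cancel_right]
    obtain ⟨l, hl⟩ := hZgen _ hm
    refine ⟨l, ?_⟩
    rw [← hl]
    simp only [Subgroup.coe_mul, Subgroup.coe_inv]
    group
  have hec : ∀ y ∈ S', y * e = e * y := fun y hy => congrArg Subtype.val (mem_center_iff.1 heZ ⟨y, hy⟩)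
  have he9 : e ∈ T.E9 := hZ _ heZ
  have he3 : e ^ 3 = 1 := T.E9_pow he9
  -- conjugating by powers
  have hpow : ∀ y ∈ S', ∀ x : G, ∀ l : ℕ, y * x * y⁻¹ = x * e ^ l →
      ∀ n : ℕ, y ^ n * x * (y ^ n)⁻¹ = x * e ^ (l * n) := by
    intro y hy x l h n
    induction n with
    | zero => simp
    | succ n ih =>
      rw [pow_succ' y, show y * y ^ n * x * (y * y ^ n)⁻¹ = y * (y ^ n * x * (y ^ n)⁻¹) * y⁻¹ by group, ih,
        ← conj_mul, h, ← conj_pow, hec y hy, mul_inv_cancel_right, mul_assoc, ← pow_add,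
        show l + l * n = l * (n + 1) by ring]
  obtain ⟨i, j, hij⟩ := he9
  have hj0 : j % 3 = 0 := by
    by_contra hj
    have hkS : T.k ∈ S' := hS T.k_mem_E9
    have hkZ : (⟨T.k, hkS⟩ : S') ∉ Z := by
      intro hk
      obtain ⟨l, hl⟩ := hZgen _ hk
      change T.k = e ^ l at hl
      by_cases hl3 : l % 3 = 0
      · rw [← Nat.mod_add_div l 3, hl3, zero_add, pow_mul, he3, one_pow] at hl
        exact T.hk.k_ne_one hl
      · -- then `a` would lie in the centre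
        have he1' : e ≠ 1 := fun h => he1 (Subtype.ext h)
        have he3o : orderOf e = 3 := orderOf_eq_prime he3 he1'
        have heK : e ∈ zpowers T.k :=
          (zpowers_eq_of_prime Nat.prime_three he3o (hl ▸ pow_mem (mem_zpowers e) l : T.k ∈ zpowers e)
            T.hk.k_ne_one).ge (mem_zpowers e)
        have haj : T.a ^ j ∈ zpowers T.k := by
          have := mul_mem (inv_mem (pow_mem (mem_zpowers T.k) i)) heK
          rwa [hij, inv_mul_cancel_left] at this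
        have hane : T.a ^ j ≠ 1 := fun h => hj (by
          have := orderOf_dvd_of_pow_eq_one h
          rw [T.a_ord] at this
          omega)
        refine T.a_notMem ?_
        have hle := zpowers_le.2 haj
        rw [zpowers_eq_of_prime Nat.prime_three T.a_ord (pow_mem (mem_zpowers _) j) hane] at hle
        exact hle (mem_zpowers _)
    obtain ⟨y, hy⟩ : ∃ y : S', y * ⟨T.k, hkS⟩ ≠ ⟨T.k, hkS⟩ * y := by
      by_contra hcon
      push Not at hcon
      exact hkZ (mem_center_iff.2 hcon)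
    obtain ⟨l, hl⟩ := hcom y ⟨T.k, hkS⟩
    change (y : G) * T.k * (y : G)⁻¹ = T.k * e ^ l at hl
    have hl0 : l % 3 ≠ 0 := fun h => hy (Subtype.ext (by
      rw [← Nat.mod_add_div l 3, h, zero_add, pow_mul, he3, one_pow, mul_one] at hl
      exact mul_inv_eq_iff_eq_mul.1 hl))
    have hconj : ∀ n : ℕ, IsConj T.k (T.k ^ (1 + i * (l * n)) * T.a ^ (j * (l * n))) := fun n => by
      refine isConj_iff.2 ⟨(y : G) ^ n, ?_⟩
      rw [hpow y y.2 T.k l hl n, hij, ((show Commute T.k T.a from T.ka).pow_pow i j).mul_pow, ← pow_mul, ← pow_mul,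
        ← mul_assoc, ← pow_succ', add_comm 1]
    by_cases hi : i % 3 = 0
    · -- `e` is a power of `a`
      have hea : e = T.a ^ j := by
        rw [hij, ← Nat.mod_add_div i 3, hi, zero_add, pow_mul, T.hk.k3, one_pow, one_mul]
      have hane : T.a ^ j ≠ 1 := fun h => hj (by
        have := orderOf_dvd_of_pow_eq_one h
        rw [T.a_ord] at this
        omega)
      apply haZ
      have hm : T.a ∈ zpowers e := by
        rw [hea, zpowers_eq_of_prime Nat.prime_three T.a_ord (pow_mem (mem_zpowers _) j) hane]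
        exact mem_zpowers _
      obtain ⟨m, hm⟩ := (mem_powers_iff_mem_zpowers).2 hm
      rw [show (⟨T.a, hS T.a_mem_E9⟩ : S') = (⟨e, heS⟩ : S') ^ m from Subtype.ext hm.symm]
      exact pow_mem heZ m
    · obtain ⟨n, hn1, hn2⟩ : ∃ n : ℕ, (1 + i * (l * n)) % 3 = 0 ∧ (j * (l * n)) % 3 ≠ 0 := by
        obtain ⟨n, hn⟩ : ∃ n : ℕ, (1 + i % 3 * (l % 3) * n) % 3 = 0 ∧ (j % 3 * (l % 3) * n) % 3 ≠ 0 := by
          have := Nat.mod_lt i (show 3 > 0 by norm_num)
          have := Nat.mod_lt j (show 3 > 0 by norm_num)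
          have := Nat.mod_lt l (show 3 > 0 by norm_num)
          interval_cases i % 3 <;> interval_cases j % 3 <;> interval_cases l % 3 <;>
            first | omega | exact ⟨1, by omega⟩ | exact ⟨2, by omega⟩
        refine ⟨n, ?_, ?_⟩ <;> simp only [← mul_assoc, Nat.add_mod, Nat.mul_mod, Nat.mod_mod] at hn ⊢
        · exact hn.1
        · exact hn.2
      have h := hconj n
      rw [← Nat.mod_add_div (1 + i * (l * n)) 3, hn1, zero_add, pow_mul, T.hk.k3, one_pow, one_mul] at h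
      refine T.not_conj_k_a (pow_mem (mem_zpowers _) _) (fun he => hn2 ?_) h
      have := orderOf_dvd_of_pow_eq_one he
      rw [T.a_ord] at this
      omega
  have hek : e ∈ zpowers T.k := by
    rw [hij, ← Nat.mod_add_div j 3, hj0, zero_add, pow_mul, T.a3, one_pow, mul_one]
    exact pow_mem (mem_zpowers _) i
  have he1' : e ≠ 1 := fun h => he1 (Subtype.ext h)
  have hzk := zpowers_eq_of_prime Nat.prime_three T.hk.k_ord hek he1'
  have hkc : ∀ y ∈ S', y * T.k = T.k * y := fun y hy => by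
    obtain ⟨m, hm⟩ := mem_zpowers_iff.1 (hzk.ge (mem_zpowers T.k))
    rw [← hm]; exact ((show Commute y e from hec y hy).zpow_right m).eq
  obtain ⟨m, hm⟩ := (mem_powers_iff_mem_zpowers).2 hek
  change T.k ^ m = e at hm
  refine ⟨hkc, fun y hy => ?_, ?_⟩
  · obtain ⟨l, hl⟩ := hcom ⟨y, hy⟩ ⟨T.a, hS T.a_mem_E9⟩
    exact ⟨m * l, by rw [pow_mul, hm]; exact hl⟩
  · intro d
    obtain ⟨y, hy⟩ : ∃ y : S', y * ⟨T.a, hS T.a_mem_E9⟩ ≠ ⟨T.a, hS T.a_mem_E9⟩ * y := by
      by_contra hcon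
      push Not at hcon
      exact haZ (mem_center_iff.2 hcon)
    obtain ⟨l, hl⟩ := hcom y ⟨T.a, hS T.a_mem_E9⟩
    change (y : G) * T.a * (y : G)⁻¹ = T.a * e ^ l at hl
    have hl0 : (m * l) % 3 ≠ 0 := fun h => hy (Subtype.ext (by
      rw [← hm, ← pow_mul, ← Nat.mod_add_div (m * l) 3, h, zero_add, pow_mul, T.hk.k3, one_pow, mul_one] at hl
      exact mul_inv_eq_iff_eq_mul.1 hl))
    refine ⟨(y : G) ^ (m * l * d), pow_mem y.2 _, ?_⟩
    rw [hpow y y.2 T.a l hl, ← hm, ← pow_mul]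
    congr 1
    rw [← pow_mod_orderOf, ← pow_mod_orderOf T.k d, T.hk.k_ord]
    congr 1
    rw [show m * (l * (m * l * d)) = (m * l) * (m * l) * d by ring, Nat.mul_mod, Nat.mul_mod (m * l)]
    have := Nat.mod_lt (m * l) (show 3 > 0 by norm_num)
    interval_cases hml : (m * l) % 3 <;> simp_all

end Triple

end Data

end Cfsg.Agent.JTwoType
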