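import Cfsg.Agent.Lib.JTwoType.ThreeNorm
import Cfsg.Agent.Lib.JTwoType.ThreeK

/-!
# Groups of Hall-Janko type: `C(k)` modulo `⟨k⟩` is the alternating group of degree six

* `Triple.exists_psi`: the action of `C(k)` on the six cosets of `⟨k⟩ × B`
* `Triple.not_commute`: lifts of an elementary abelian group of order nine do not commute
-/

set_option autoImplicit false
set_option linter.unusedSectionVars false
set_option linter.style.haveILetI false
set_option maxHeartbeats 800000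

namespace Cfsg.Agent.JTwoType

open Cfsg Subgroup OrderJTwo
open scoped commutatorElement Pointwise

variable {G : Type*} [Group G] [Finite G]

namespace Alt6

set_option synthInstance.maxSize 1024 in
theorem card_stab : Fintype.card {σ : alternatingGroup (Fin 6) // σ.1 5 = 5} = 60 := by decide +kernel

end Alt6

namespace Data

variable {D : Data G}

namespace Triple

variable {t : G} (T : D.Triple t)

/-- only powers of `k` centralise `B` and `k` -/
theorem cent_B_k {y : G} (hk : y * T.k = T.k * y) (hB : ∀ b ∈ T.P.B, y * b = b * y) : y ∈ zpowers T.k := by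
  obtain ⟨i, j, rfl⟩ := T.cent_E9 (hB _ T.aB) hk
  have h1 : T.a ^ j = 1 := T.P.centerB (pow_mem T.aB _) fun b hb => by
    have hki : Commute (T.k ^ i) b := (show Commute T.k b from T.hk.centB b hb).pow_left i
    have := hB b hb
    rw [mul_assoc, ← mul_assoc b, ← hki.eq, mul_assoc] at this
    exact mul_left_cancel this
  rw [h1, mul_one]
  exact pow_mem (mem_zpowers _) i

/-- `|C(k) ∩ C(x)| ≤ 15` for `x` of order five in `B` -/
theorem card_cent_k_five {x : G} (hx : x ∈ T.P.B) (hx5 : orderOf x = 5) :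
    Nat.card (centralizer ({T.k} : Set G) ⊓ centralizer ({x} : Set G) : Subgroup G) ≤ 15 := by
  classical
  obtain ⟨-, π, -, hker⟩ := T.hk.card_cent_five hx hx5
  have hkx : T.k ∈ centralizer ({x} : Set G) := Cyc.k_mem_cent hx T.hk
  have hx1 : x ∈ centralizer ({x} : Set G) := mem_centralizer_singleton_iff.2 rfl
  set σ := π ⟨T.k, hkx⟩ with hσ
  have hσ3 : σ ^ 3 = 1 := by
    rw [hσ, ← map_pow, show (⟨T.k, hkx⟩ : centralizer ({x} : Set G)) ^ 3 = 1 from Subtype.ext T.hk.k3, map_one]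
  have hσ1 : σ ≠ 1 := fun e => T.hk.k_ne_one (T.hk.M_inf_B T.hk.k_mem_M
    (zpowers_le.2 hx ((hker _).1 e)))
  have hF : ∀ y : (centralizer ({T.k} : Set G) ⊓ centralizer ({x} : Set G) : Subgroup G),
      ∃ i : Fin 3, (y : G) * (T.k ^ (i : ℕ))⁻¹ ∈ zpowers x := by
    intro y
    have hm := Alt5.cent_three_list σ hσ3 hσ1 (π ⟨y, y.2.2⟩) (by
      rw [hσ, ← map_mul, ← map_mul]
      exact congrArg π (Subtype.ext (mem_centralizer_singleton_iff.1 y.2.1)))
    have key : ∀ i : ℕ, π ⟨y, y.2.2⟩ = σ ^ i → (y : G) * (T.k ^ i)⁻¹ ∈ zpowers x := by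
      intro i hi
      have h1 : π (⟨y, y.2.2⟩ * (⟨T.k, hkx⟩ ^ i)⁻¹) = 1 := by
        rw [map_mul, map_inv, map_pow, hi, mul_inv_cancel]
      exact (hker _).1 h1
    simp only [List.mem_cons, List.not_mem_nil, or_false] at hm
    rcases hm with e | e | e
    exacts [⟨0, key 0 (by rw [e, pow_zero])⟩, ⟨1, key 1 (by rw [e, pow_one])⟩, ⟨2, key 2 e⟩]
  choose i hi using hF
  let f : (centralizer ({T.k} : Set G) ⊓ centralizer ({x} : Set G) : Subgroup G) → Fin 3 × zpowers x :=
    fun y => (i y, ⟨_, hi y⟩)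
  have hf : Function.Injective f := by
    intro p q e
    have e1 : i p = i q := congrArg Prod.fst e
    have e2 : (p : G) * (T.k ^ (i p : ℕ))⁻¹ = (q : G) * (T.k ^ (i q : ℕ))⁻¹ :=
      congrArg (fun z : Fin 3 × zpowers x => (z.2 : G)) e
    rw [e1] at e2
    exact Subtype.ext (mul_right_cancel e2)
  have := Nat.card_le_card_of_injective f hf
  rwa [Nat.card_prod, Nat.card_fin, Nat.card_zpowers, hx5] at this

/-- `C(k)` does not normalise `B` -/
theorem not_normalB :
    ¬ ∀ c : G, c * T.k = T.k * c → ∀ b ∈ T.P.B, c * b * c⁻¹ ∈ T.P.B := by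
  intro hn
  obtain ⟨x, hx, hx5⟩ := T.P.exists_five
  set C := centralizer ({T.k} : Set G)
  set D0 := (C ⊓ centralizer ({x} : Set G)).subgroupOf C
  let f : C ⧸ D0 → T.P.B := Quotient.lift
    (fun c : C => (⟨(c : G) * x * (c : G)⁻¹, hn c (mem_centralizer_singleton_iff.1 c.2) x hx⟩ : T.P.B))
    (fun c d h => by
      have h' : c⁻¹ * d ∈ D0 := QuotientGroup.leftRel_apply.1 h
      have h2 : (c : G)⁻¹ * d * x = x * ((c : G)⁻¹ * d) := mem_centralizer_singleton_iff.1 (mem_subgroupOf.1 h').2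
      refine Subtype.ext ?_
      show (c : G) * x * (c : G)⁻¹ = d * x * (d : G)⁻¹
      calc (c : G) * x * (c : G)⁻¹ = c * (x * ((c : G)⁻¹ * d)) * (d : G)⁻¹ := by group
        _ = _ := by rw [← h2]; group)
  have hf : Function.Injective f := by
    rintro ⟨c⟩ ⟨d⟩ e
    refine Quotient.sound (QuotientGroup.leftRel_apply.2 (mem_subgroupOf.2 ⟨(c⁻¹ * d).2, ?_⟩))
    have e' : (c : G) * x * (c : G)⁻¹ = d * x * (d : G)⁻¹ := congrArg Subtype.val e
    refine mem_centralizer_singleton_iff.2 ?_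
    show (c : G)⁻¹ * d * x = x * ((c : G)⁻¹ * d)
    calc (c : G)⁻¹ * d * x = (c : G)⁻¹ * (d * x * (d : G)⁻¹) * d := by group
      _ = _ := by rw [← e']; group
  have h1 := Nat.card_le_card_of_injective f hf
  rw [T.P.cardB, ← index_eq_card] at h1
  have h2 := D0.card_mul_index
  rw [show Nat.card C = 1080 from T.card_cent_k] at h2
  have h15 : Nat.card D0 ≤ 15 := by
    rw [Nat.card_congr (subgroupOfEquivOfLe inf_le_left).toEquiv]
    exact T.card_cent_k_five hx hx5
  have := Nat.mul_le_mul h15 h1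
  omega

/-- The action on the six cosets. -/
theorem exists_psi : ∃ ψ : centralizer ({T.k} : Set G) →* Equiv.Perm (Fin 6),
    (∀ c, ψ c = 1 ↔ (c : G) ∈ zpowers T.k) ∧ ψ.range = alternatingGroup (Fin 6) ∧
      ∀ σ ∈ alternatingGroup (Fin 6), σ 5 = 5 → ∃ c : centralizer ({T.k} : Set G), (c : G) ∈ T.P.B ∧ ψ c = σ := by
  classical
  set C := centralizer ({T.k} : Set G) with hC
  have hBC : T.P.B ≤ C := fun b hb => mem_centralizer_singleton_iff.2 (T.hk.centB b hb).symm
  have hkC : zpowers T.k ≤ C := zpowers_le.2 (mem_centralizer_singleton_iff.2 rfl)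
  have hKC : T.P.B ⊔ zpowers T.k ≤ C := sup_le hBC hkC
  have hdec : ∀ y ∈ T.P.B ⊔ zpowers T.k, ∃ b ∈ T.P.B, ∃ q ∈ zpowers T.k, y = b * q := by
    intro y hy
    have hle : zpowers T.k ≤ normalizer (T.P.B : Set G) := by
      refine zpowers_le.2 (centralizer_le_normalizer _ (mem_centralizer_iff.2 fun b hb => ?_))
      exact (T.hk.centB b hb).symm
    rw [← SetLike.mem_coe, coe_mul_of_right_le_normalizer_left _ _ hle] at hy
    obtain ⟨b, hb, q, hq, rfl⟩ := hy
    exact ⟨b, hb, q, hq, rfl⟩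
  have hdisj : ∀ y ∈ T.P.B, y ∈ zpowers T.k → y = 1 := fun y hy hk =>
    T.hk.M_inf_B (zpowers_le.2 T.hk.k_mem_M hk) hy
  set K := (T.P.B ⊔ zpowers T.k).subgroupOf C with hK
  have hKcard : Nat.card K = 180 := by
    rw [Nat.card_congr (subgroupOfEquivOfLe hKC).toEquiv]
    let f : T.P.B × zpowers T.k → (T.P.B ⊔ zpowers T.k : Subgroup G) := fun p =>
      ⟨p.1 * p.2, mul_mem_sup p.1.2 p.2.2⟩
    have hf : Function.Bijective f := by
      refine ⟨fun p q e => ?_, fun y => ?_⟩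
      · have e' : (p.1 : G) * p.2 = q.1 * q.2 := congrArg Subtype.val e
        have e2 : (q.1 : G)⁻¹ * p.1 = q.2 * (p.2 : G)⁻¹ := by
          calc (q.1 : G)⁻¹ * p.1 = (q.1 : G)⁻¹ * (p.1 * p.2) * (p.2 : G)⁻¹ := by group
            _ = _ := by rw [e']; group
        have h1 := hdisj _ (mul_mem (inv_mem q.1.2) p.1.2) (e2 ▸ mul_mem q.2.2 (inv_mem p.2.2))
        rw [h1] at e2
        exact _root_.Prod.ext (Subtype.ext (inv_mul_eq_one.1 h1).symm) (Subtype.ext (mul_inv_eq_one.1 e2.symm).symm)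
      · obtain ⟨b, hb, q, hq, e⟩ := hdec y y.2
        exact ⟨(⟨b, hb⟩, ⟨q, hq⟩), Subtype.ext e.symm⟩
    rw [← Nat.card_eq_of_bijective f hf, Nat.card_prod, T.P.cardB, Nat.card_zpowers, T.hk.k_ord]
  have hidx : K.index = 6 := by
    have := K.card_mul_index
    rw [hKcard, show Nat.card C = 1080 from T.card_cent_k] at this
    omega
  let e0 : (C ⧸ K) ≃ Fin 6 := (Finite.equivFin _).trans (finCongr (by rw [← Subgroup.index_eq_card, hidx]))
  let e : (C ⧸ K) ≃ Fin 6 := e0.trans (Equiv.swap (e0 ↑(1 : C)) 5)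
  have he : e ↑(1 : C) = 5 := Equiv.swap_apply_left _ _
  let ψ : C →* Equiv.Perm (Fin 6) := e.permCongrHom.toMonoidHom.comp (MulAction.toPermHom C (C ⧸ K))
  have hψ5 : ∀ c : C, ψ c 5 = 5 ↔ c ∈ K := by
    intro c
    show e (c • e.symm 5) = 5 ↔ _
    rw [← he, e.symm_apply_apply, e.apply_eq_iff_eq]
    show (↑(c * 1) : C ⧸ K) = ↑(1 : C) ↔ _
    rw [mul_one, QuotientGroup.eq, mul_one, inv_mem_iff]
  have hker : ∀ c, ψ c = 1 ↔ c ∈ K.normalCore := by
    intro c
    rw [Subgroup.normalCore_eq_ker, MonoidHom.mem_ker]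
    exact ⟨fun h => e.permCongrHom.injective (h.trans (map_one _).symm), fun h => by
      show e.permCongrHom (MulAction.toPermHom C (C ⧸ K) c) = 1
      rw [h, map_one]⟩
  have hcore : ∀ c : C, c ∈ K.normalCore ↔ (c : G) ∈ zpowers T.k := by
    have hzK : ∀ c : C, (c : G) ∈ zpowers T.k → c ∈ K.normalCore := by
      intro c hc g
      refine mem_subgroupOf.2 ((le_sup_right : zpowers T.k ≤ T.P.B ⊔ zpowers T.k) ?_)
      obtain ⟨n, hn⟩ := mem_zpowers_iff.1 hc
      show (g : G) * c * (g : G)⁻¹ ∈ zpowers T.k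
      rw [← hn, ((show Commute (g : G) T.k from mem_centralizer_singleton_iff.1 g.2).zpow_right n).eq,
        mul_inv_cancel_right]
      exact zpow_mem (mem_zpowers _) n
    refine fun c => ⟨fun hc => ?_, hzK c⟩
    obtain ⟨b, hb, q, hq, hcbq⟩ := hdec c (mem_subgroupOf.1 (normalCore_le K hc))
    have hbN : (⟨b, hBC hb⟩ : C) ∈ K.normalCore := by
      have : (⟨b, hBC hb⟩ : C) = c * (⟨q, hkC hq⟩ : C)⁻¹ := Subtype.ext (by
        show b = (c : G) * q⁻¹
        rw [hcbq, mul_inv_cancel_right])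
      rw [this]
      exact mul_mem hc (inv_mem (hzK _ hq))
    -- the part in `B`
    set N0 : Subgroup T.P.B := (K.normalCore.map C.subtype).subgroupOf T.P.B
    haveI : N0.Normal := ⟨fun n hn g => by
      obtain ⟨n', hn', e'⟩ := mem_subgroupOf.1 hn
      refine mem_subgroupOf.2 ⟨⟨g, hBC g.2⟩ * n' * (⟨g, hBC g.2⟩ : C)⁻¹,
        (normalCore_normal K).conj_mem _ hn' _, ?_⟩
      show (g : G) * (n' : G) * (g : G)⁻¹ = (g : G) * n * (g : G)⁻¹
      rw [show (n' : G) = (n : G) from e']⟩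
    obtain ⟨eB⟩ := T.P.iso
    haveI : IsSimpleGroup (alternatingGroup (Fin 5)) := alternatingGroup.isSimpleGroup_five
    haveI := eB.toEquiv.nontrivial
    haveI : IsSimpleGroup T.P.B := IsSimpleGroup.isSimpleGroup_of_surjective eB.symm.toMonoidHom eB.symm.surjective
    rcases (inferInstance : N0.Normal).eq_bot_or_eq_top with h | h
    · have hb0 : (⟨b, hb⟩ : T.P.B) ∈ N0 := mem_subgroupOf.2 ⟨_, hbN, rfl⟩
      rw [h, mem_bot] at hb0
      rw [hcbq, show b = 1 from congrArg Subtype.val hb0, one_mul]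
      exact hq
    · exfalso
      have hBN : ∀ y (hy : y ∈ T.P.B), (⟨y, hBC hy⟩ : C) ∈ K.normalCore := by
        intro y hy
        obtain ⟨n', hn', e'⟩ := mem_subgroupOf.1 (h ▸ mem_top (⟨y, hy⟩ : T.P.B))
        rwa [show (⟨y, hBC hy⟩ : C) = n' from Subtype.ext e'.symm]
      have hinv : ∀ g : G, g * T.k = T.k * g → ∀ u ∈ T.P.B, u * u = 1 → g * u * g⁻¹ ∈ T.P.B := by
        intro g hg u hu hu2
        have hgC : g ∈ C := mem_centralizer_singleton_iff.2 hg
        obtain ⟨b', hb', q', hq', e'⟩ := hdec _ (mem_subgroupOf.1 (normalCore_le K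
          ((normalCore_normal K).conj_mem _ (hBN u hu) ⟨g, hgC⟩)))
        change g * u * g⁻¹ = b' * q' at e'
        have hcomm : Commute b' q' := by
          obtain ⟨n, rfl⟩ := mem_zpowers_iff.1 hq'
          exact ((show Commute T.k b' from T.hk.centB b' hb').zpow_left n).symm
        have h2 : b' * b' * (q' * q') = 1 := by
          calc b' * b' * (q' * q') = b' * (b' * q') * q' := by group
            _ = b' * (q' * b') * q' := by rw [hcomm.eq]
            _ = b' * q' * (b' * q') := by group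
            _ = 1 := by rw [← e', conj_mul, hu2]; group
        have hqq : q' * q' = 1 := hdisj _ (by
          rw [eq_inv_of_mul_eq_one_right h2]; exact inv_mem (mul_mem hb' hb')) (mul_mem hq' hq')
        have hq1 : q' = 1 := by
          rcases mem_zpowers_three T.hk.k3 hq' with r | r | r
          · exact r
          · exfalso
            apply T.hk.k_ne_one
            rw [r] at hqq
            calc T.k = T.k ^ 3 * (T.k * T.k)⁻¹ := by simp only [pow_succ, pow_zero, one_mul]; group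
              _ = 1 := by rw [hqq, T.hk.k3]; group
          · exfalso
            apply T.hk.k_ne_one
            rw [r, ← pow_add] at hqq
            calc T.k = T.k ^ (2 + 2) * (T.k ^ 3)⁻¹ := by simp only [pow_succ, pow_zero, one_mul]; group
              _ = 1 := by rw [hqq, T.hk.k3]; group
        rw [e', hq1, mul_one]
        exact hb'
      apply T.not_normalB
      intro g hg y hy
      obtain ⟨u, hu, v, hv, hu2, hv2, rfl⟩ := T.P.B_gen hy
      rw [← conj_mul]
      exact mul_mem (hinv g hg u hu hu2) (hinv g hg v hv hv2)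
  have hψker : ∀ c, ψ c = 1 ↔ (c : G) ∈ zpowers T.k := fun c => (hker c).trans (hcore c)
  have hrange : ψ.range = alternatingGroup (Fin 6) := by
    refine Equiv.Perm.eq_alternatingGroup_of_index_eq_two ?_
    have h1 := ψ.ker.card_mul_index
    rw [index_ker, show Nat.card C = 1080 from T.card_cent_k] at h1
    have hk3 : Nat.card ψ.ker = 3 := by
      rw [show ψ.ker = (zpowers T.k).subgroupOf C from
        Subgroup.ext fun c => by rw [MonoidHom.mem_ker, mem_subgroupOf]; exact hψker c,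
        Nat.card_congr (subgroupOfEquivOfLe hkC).toEquiv, Nat.card_zpowers, T.hk.k_ord]
    rw [hk3] at h1
    have h2 := ψ.range.card_mul_index
    rw [Nat.card_perm, Nat.card_fin] at h2
    have h3 : Nat.card ψ.range = 360 := by omega
    rw [h3, show Nat.factorial 6 = 720 from rfl] at h2
    omega
  refine ⟨ψ, hψker, hrange, fun σ hσ h5 => ?_⟩
  let f : T.P.B → {τ : alternatingGroup (Fin 6) // τ.1 5 = 5} := fun b =>
    ⟨⟨ψ ⟨b, hBC b.2⟩, hrange ▸ ⟨_, rfl⟩⟩,
      (hψ5 _).2 (mem_subgroupOf.2 ((le_sup_left : T.P.B ≤ T.P.B ⊔ zpowers T.k) b.2))⟩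
  have hf : Function.Injective f := by
    intro p q e'
    have e2 : ψ ⟨p, hBC p.2⟩ = ψ ⟨q, hBC q.2⟩ := congrArg (fun τ : {τ : alternatingGroup (Fin 6) // τ.1 5 = 5} => τ.1.1) e'
    have e3 : ψ ((⟨q, hBC q.2⟩ : C)⁻¹ * ⟨p, hBC p.2⟩) = 1 := by rw [map_mul, map_inv, e2, inv_mul_cancel]
    have := hdisj _ (mul_mem (inv_mem q.2) p.2) ((hψker _).1 e3)
    exact Subtype.ext (inv_mul_eq_one.1 this).symm
  have hbij : Function.Bijective f := (Nat.bijective_iff_injective_and_card _).2 ⟨hf, by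
    rw [T.P.cardB, Nat.card_eq_fintype_card, Alt6.card_stab]⟩
  obtain ⟨b, hb⟩ := hbij.2 ⟨⟨σ, hσ⟩, h5⟩
  exact ⟨⟨b, hBC b.2⟩, b.2, congrArg (fun τ : {τ : alternatingGroup (Fin 6) // τ.1 5 = 5} => τ.1.1) hb⟩

/-- lifts of an elementary abelian group of order nine do not commute -/
theorem not_commute {u v : G} (hu : u * T.k = T.k * u) (hv : v * T.k = T.k * v) (hu3 : u ^ 3 = 1) (hv3 : v ^ 3 = 1)
    (hind : ∀ i j : Fin 3, u ^ (i : ℕ) * v ^ (j : ℕ) ∈ zpowers T.k → i = 0 ∧ j = 0) : u * v ≠ v * u := by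
  intro huv
  classical
  haveI : Fact (Nat.Prime 3) := ⟨Nat.prime_three⟩
  set Z := closure ({u, v, T.k} : Set G) with hZ
  have hcl : ∀ p ∈ ({u, v, T.k} : Set G), ∀ q ∈ ({u, v, T.k} : Set G), p * q = q * p := by
    simp only [Set.mem_insert_iff, Set.mem_singleton_iff]
    rintro p (rfl | rfl | rfl) q (rfl | rfl | rfl) <;> first | rfl | assumption | exact huv.symm | exact hu.symm | exact hv.symm
  have hab : ∀ p ∈ Z, ∀ q ∈ Z, p * q = q * p := by
    have h1 : Z ≤ centralizer ({u, v, T.k} : Set G) :=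
      (closure_le _).2 fun p hp => mem_centralizer_iff.2 fun q hq => hcl q hq p hp
    intro p hp q hq
    have h2 : Z ≤ centralizer ({p} : Set G) := (closure_le _).2 fun s hs =>
      mem_centralizer_singleton_iff.2 (mem_centralizer_iff.1 (h1 hp) s hs)
    exact (mem_centralizer_singleton_iff.1 (h2 hq)).symm
  have h3 : ∀ p ∈ Z, p ^ 3 = 1 := by
    intro p hp
    induction hp using closure_induction with
    | mem p hp =>
      simp only [Set.mem_insert_iff, Set.mem_singleton_iff] at hp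
      rcases hp with rfl | rfl | rfl
      exacts [hu3, hv3, T.hk.k3]
    | one => exact one_pow 3
    | mul p q hp hq ihp ihq => rw [(show Commute p q from hab p hp q hq).mul_pow, ihp, ihq, one_mul]
    | inv p _ ih => rw [inv_pow, ih, inv_one]
  have hpg : IsPGroup 3 Z := fun p => ⟨1, Subtype.ext (by rw [pow_one, Subgroup.coe_pow]; exact h3 p p.2)⟩
  obtain ⟨S, hS⟩ := hpg.exists_le_sylow
  obtain ⟨h27, -, hna, -⟩ := D.sylow3_struct S
  have hu' : u ∈ Z := subset_closure (by simp)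
  have hv' : v ∈ Z := subset_closure (by simp)
  have hk' : T.k ∈ Z := subset_closure (by simp)
  let f : Fin 3 × Fin 3 × Fin 3 → Z := fun p =>
    ⟨u ^ (p.1 : ℕ) * v ^ (p.2.1 : ℕ) * T.k ^ (p.2.2 : ℕ),
      mul_mem (mul_mem (pow_mem hu' _) (pow_mem hv' _)) (pow_mem hk' _)⟩
  have hf : Function.Injective f := by
    rintro ⟨i, j, l⟩ ⟨i', j', l'⟩ e
    have e1 : u ^ (i : ℕ) * v ^ (j : ℕ) * T.k ^ (l : ℕ) = u ^ (i' : ℕ) * v ^ (j' : ℕ) * T.k ^ (l' : ℕ) :=
      congrArg Subtype.val e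
    have hc : ∀ (w : G), w ^ 3 = 1 → ∀ m m' : Fin 3, w ^ (((m - m' : Fin 3) : ℕ)) = w ^ (m : ℕ) * (w ^ (m' : ℕ))⁻¹ := by
      intro w hw m m'
      rw [eq_mul_inv_iff_mul_eq, ← pow_add, pow_eq_pow_mod _ hw,
        (show ∀ m m' : Fin 3, (((m - m' : Fin 3) : ℕ) + (m' : ℕ)) % 3 = (m : ℕ) by decide) m m']
    have huv' : Commute u v := huv
    have huk : Commute u T.k := hu
    have hvk : Commute v T.k := hv
    have key : u ^ (((i - i' : Fin 3) : ℕ)) * v ^ (((j - j' : Fin 3) : ℕ)) = T.k ^ (l' : ℕ) * (T.k ^ (l : ℕ))⁻¹ := by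
      rw [hc u hu3, hc v hv3]
      calc u ^ (i : ℕ) * (u ^ (i' : ℕ))⁻¹ * (v ^ (j : ℕ) * (v ^ (j' : ℕ))⁻¹)
          = (u ^ (i' : ℕ))⁻¹ * (u ^ (i : ℕ) * v ^ (j : ℕ) * T.k ^ (l : ℕ)) * (T.k ^ (l : ℕ))⁻¹ * (v ^ (j' : ℕ))⁻¹ := by
            rw [((Commute.refl u).pow_pow i i').inv_right.eq]; group
        _ = v ^ (j' : ℕ) * (T.k ^ (l' : ℕ) * (T.k ^ (l : ℕ))⁻¹) * (v ^ (j' : ℕ))⁻¹ := by rw [e1]; group
        _ = _ := by
          rw [(((hvk.pow_pow _ _).mul_right ((hvk.pow_pow _ _).inv_right))).eq, mul_inv_cancel_right]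
    obtain ⟨e2, e3⟩ := hind _ _ (key ▸ mul_mem (pow_mem (mem_zpowers _) _) (inv_mem (pow_mem (mem_zpowers _) _)))
    obtain rfl := sub_eq_zero.1 e2
    obtain rfl := sub_eq_zero.1 e3
    have e4 : T.k ^ (l : ℕ) = T.k ^ (l' : ℕ) := mul_left_cancel e1
    rw [pow_eq_pow_iff_modEq, T.hk.k_ord, Nat.ModEq, Nat.mod_eq_of_lt l.2, Nat.mod_eq_of_lt l'.2] at e4
    obtain rfl : l = l' := Fin.ext e4
    rfl
  have h1 := Nat.card_le_card_of_injective f hf
  simp only [Nat.card_prod, Nat.card_fin] at h1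
  have hZS : Z = (S : Subgroup G) := Subgroup.eq_of_le_of_card_ge hS (by omega)
  exact hna fun p q => Subtype.ext (hab p (hZS.ge p.2) q (hZS.ge q.2))

end Triple

end Data

end Cfsg.Agent.JTwoType
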