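import Cfsg.Agent.Lib.JTwoType.ThreeK

/-!
# Groups of Hall-Janko type: the normaliser of a Sylow 3-subgroup

* `Triple.card_norm`: `|N(S)| = 216`
* `Triple.cover`: `S` is covered by conjugates of `⟨k, a⟩`
* `Triple.three_classes`: every element of order three is conjugate to `k` or `a`
-/

set_option autoImplicit false
set_option linter.unusedSectionVars false
set_option linter.style.haveILetI false
set_option maxHeartbeats 800000

namespace Cfsg.Agent.JTwoType

open Cfsg Subgroup OrderJTwo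
open scoped commutatorElement Pointwise

variable {G : Type*} [Group G] [Finite G]

namespace Data

variable {D : Data G}

namespace Triple

variable {t : G} (T : D.Triple t) (S : Sylow 3 G) (hS : T.E9 ≤ (S : Subgroup G))

include hS in
theorem mem_S_of {h : G} (hk : h * T.k = T.k * h) {l : ℕ} (ha : h * T.a * h⁻¹ = T.a * T.k ^ l) :
    h ∈ (S : Subgroup G) := by
  obtain ⟨hkc, -, hex⟩ := T.sylow3_basic S hS
  obtain ⟨y, hy, hya⟩ := hex l
  have hm : y⁻¹ * h ∈ T.E9 := by
    refine T.cent_E9 (mul_inv_eq_iff_eq_mul.1 ?_) ?_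
    · calc y⁻¹ * h * T.a * (y⁻¹ * h)⁻¹ = y⁻¹ * (h * T.a * h⁻¹) * y := by group
        _ = y⁻¹ * (y * T.a * y⁻¹) * y := by rw [ha, hya]
        _ = T.a := by group
    · exact ((show Commute y T.k from hkc y hy).inv_left.mul_left (show Commute h T.k from hk)).eq
  have := mul_mem hy (hS hm)
  rwa [mul_inv_cancel_left] at this

include hS in
/-- `⟨k⟩` is invariant under `N(S)` -/
theorem norm_k {n : G} (hn : n ∈ normalizer ((S : Subgroup G) : Set G)) : n * T.k * n⁻¹ ∈ zpowers T.k := by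
  obtain ⟨hkc, -, hex⟩ := T.sylow3_basic S hS
  set c := n * T.k * n⁻¹
  have hcen : ∀ y ∈ (S : Subgroup G), c * y = y * c := by
    intro y hy
    have h1 : n⁻¹ * y * n ∈ (S : Subgroup G) := (mem_normalizer_iff''.1 hn y).1 hy
    show n * T.k * n⁻¹ * y = y * (n * T.k * n⁻¹)
    calc n * T.k * n⁻¹ * y = n * (T.k * (n⁻¹ * y * n)) * n⁻¹ := by group
      _ = n * ((n⁻¹ * y * n) * T.k) * n⁻¹ := by rw [hkc _ h1]
      _ = y * (n * T.k * n⁻¹) := by group
  have hc9 : c ∈ T.E9 := T.cent_E9 (hcen _ (hS T.a_mem_E9)) (hcen _ (hS T.k_mem_E9))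
  obtain ⟨i, j, hij⟩ := hc9
  obtain ⟨y, hy, hya⟩ := hex 1
  rw [pow_one] at hya
  have hky : Commute y T.k := hkc y hy
  have h1 : y * c * y⁻¹ = T.k ^ i * (T.a ^ j * T.k ^ j) := by
    rw [hij, ← conj_mul, ← conj_pow, ← conj_pow, hky.eq, mul_inv_cancel_right, hya,
      ((show Commute T.k T.a from T.ka).symm).mul_pow]
  rw [← hcen y hy, mul_inv_cancel_right, hij] at h1
  have h2 : T.k ^ j = 1 := mul_eq_left.1 ((mul_left_cancel h1).symm)
  have h3 : 3 ∣ j := T.hk.k_ord ▸ orderOf_dvd_of_pow_eq_one h2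
  obtain ⟨l, rfl⟩ := h3
  rw [hij, pow_mul T.a, T.a3, one_pow, mul_one]
  exact pow_mem (mem_zpowers _) i

include hS in
theorem card_norm_cent : Nat.card (normalizer ((S : Subgroup G) : Set G) ⊓ centralizer ({T.k} : Set G) : Subgroup G) = 108 := by
  classical
  haveI : Fact (Nat.Prime 3) := ⟨Nat.prime_three⟩
  haveI : Fact (Nat.Prime 5) := ⟨Nat.prime_five⟩
  obtain ⟨hkc, hl, -⟩ := T.sylow3_basic S hS
  set N := normalizer ((S : Subgroup G) : Set G) ⊓ centralizer ({T.k} : Set G) with hN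
  have hSH : (S : Subgroup G) ≤ centralizer ({T.k} : Set G) := fun y hy =>
    mem_centralizer_singleton_iff.2 (hkc y hy)
  have hSN : (S : Subgroup G) ≤ N := le_inf le_normalizer hSH
  -- an involution of `B` inverting `a` lies in `N`
  obtain ⟨w, hw, hw2, hw1, hwa⟩ := T.P.exists_inverting T.aB (fun e => by
    have := orderOf_dvd_of_pow_eq_one (show T.a ^ 2 = 1 by rw [pow_two, e])
    rw [T.a_ord] at this
    norm_num at this)
  have hwk : T.k * w = w * T.k := T.hk.centB w hw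
  have hconj : ∀ s ∈ (S : Subgroup G), w * s * w⁻¹ ∈ (S : Subgroup G) := by
    intro s hs
    obtain ⟨l, hsl⟩ := hl s hs
    refine T.mem_S_of S hS ?_ (l := 2 * l) ?_
    · exact (((show Commute w T.k from hwk.symm).mul_left (hkc s hs)).mul_left
        (show Commute w T.k from hwk.symm).inv_left).eq
    · have hai : w⁻¹ * T.a * w = T.a⁻¹ := by
        have hwi : w⁻¹ = w := inv_eq_of_mul_eq_one_right hw2
        rw [← hwa, hwi]
      have hkl : T.k ^ (2 * l) = (T.k ^ l)⁻¹ := eq_inv_of_mul_eq_one_left (by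
        rw [← pow_add, show 2 * l + l = 3 * l by ring, pow_mul, T.hk.k3, one_pow])
      calc w * s * w⁻¹ * T.a * (w * s * w⁻¹)⁻¹ = w * (s * (w⁻¹ * T.a * w) * s⁻¹) * w⁻¹ := by group
        _ = w * (s * T.a * s⁻¹)⁻¹ * w⁻¹ := by rw [hai]; group
        _ = (w * (T.a * T.k ^ l) * w⁻¹)⁻¹ := by rw [hsl]; group
        _ = (T.a⁻¹ * T.k ^ l)⁻¹ := by
          rw [← conj_mul, hwa, ← conj_pow, ← hwk, mul_inv_cancel_right]
        _ = T.a * T.k ^ (2 * l) := by
          rw [hkl, mul_inv_rev, inv_inv]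
          exact ((show Commute T.k T.a from T.ka).pow_left l).inv_left.eq
  have hwN : w ∈ N := by
    refine ⟨mem_normalizer_iff.2 fun s => ⟨hconj s, fun hs => ?_⟩, mem_centralizer_singleton_iff.2 hwk.symm⟩
    have h := hconj _ hs
    have hwi : w⁻¹ = w := inv_eq_of_mul_eq_one_right hw2
    rwa [show w * (w * s * w⁻¹) * w⁻¹ = (w * w) * s * (w * w)⁻¹ by group, hw2, one_mul, inv_one, mul_one] at h
  have h54 : 54 ∣ Nat.card N := by
    have h2 : 2 ∣ Nat.card N := by
      rw [← orderOf_eq_prime (p := 2) (by rw [pow_two, hw2]) hw1]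
      exact Subgroup.orderOf_dvd_natCard N hwN
    have h27 : 27 ∣ Nat.card N := sylow3_card (D := D) S ▸ card_dvd_of_le hSN
    omega
  have h5 : ¬ 5 ∣ Nat.card N := by
    intro h
    obtain ⟨⟨n, hn⟩, hn5⟩ := exists_prime_orderOf_dvd_card' (G := N) 5 h
    rw [Subgroup.orderOf_mk] at hn5
    have hstab : ∀ x ∈ ((S : Subgroup G) : Set G), n * x * n⁻¹ ∈ ((S : Subgroup G) : Set G) := fun x hx =>
      (mem_normalizer_iff.1 hn.1 x).1 hx
    have hmod := fix_modEq n (hn5 ▸ pow_orderOf_eq_one n) _ hstab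
    set F := (S : Subgroup G) ⊓ centralizer ({n} : Set G) with hF
    rw [show {x | x ∈ ((S : Subgroup G) : Set G) ∧ n * x * n⁻¹ = x} = (F : Set G) by
        ext x
        simp only [Set.mem_ofPred_eq, hF, SetLike.mem_coe, mem_inf, mem_centralizer_singleton_iff,
          mul_inv_eq_iff_eq_mul]
        exact and_congr_right fun _ => eq_comm,
      ← Nat.card_coe_set_eq, ← Nat.card_coe_set_eq, SetLike.coe_sort_coe, SetLike.coe_sort_coe,
      sylow3_card (D := D) S] at hmod
    have hd : Nat.card F ∣ 3 ^ 3 := by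
      rw [show (3 : ℕ) ^ 3 = 27 from rfl, ← sylow3_card (D := D) S]
      exact card_dvd_of_le inf_le_left
    obtain ⟨i, hi, hi'⟩ := (Nat.dvd_prime_pow Nat.prime_three).1 hd
    rw [hi', Nat.ModEq] at hmod
    obtain rfl : i = 3 := by interval_cases i <;> omega
    have heq : F = (S : Subgroup G) := Subgroup.eq_of_le_of_card_ge inf_le_left (by
      rw [hi', sylow3_card (D := D) S]; norm_num)
    have hna : n ∈ centralizer ({T.a} : Set G) :=
      mem_centralizer_singleton_iff.2 (mem_centralizer_singleton_iff.1 (heq.ge (hS T.a_mem_E9)).2).symm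
    have := Subgroup.orderOf_dvd_natCard _ hna
    rw [T.card_cent_a, hn5] at this
    norm_num at this
  -- Sylow's theorem in `C(k)`
  set H := centralizer ({T.k} : Set G) with hH
  obtain ⟨R, hR⟩ := ((S.isPGroup'.comap_of_injective _ H.subtype_injective :
    IsPGroup 3 ((S : Subgroup G).subgroupOf H))).exists_le_sylow
  have hRS : (R : Subgroup H).map H.subtype = (S : Subgroup G) :=
    S.is_maximal' (R.isPGroup'.map _) fun s hs => ⟨⟨s, hSH hs⟩, hR (mem_subgroupOf.2 hs), rfl⟩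
  have hmem : ∀ y : H, y ∈ (R : Subgroup H) ↔ (y : G) ∈ (S : Subgroup G) := fun y => by
    rw [← hRS]
    exact ⟨fun hy => ⟨y, hy, rfl⟩, fun ⟨y', hy', e⟩ => (Subtype.ext e : y' = y) ▸ hy'⟩
  have hmap : (normalizer ((R : Subgroup H) : Set H)).map H.subtype = N := by
    ext y
    constructor
    · rintro ⟨y, hy, rfl⟩
      refine ⟨mem_normalizer_iff.2 fun s => ⟨fun hs => ?_, fun hs => ?_⟩, y.2⟩
      · exact (hmem (y * ⟨s, hSH hs⟩ * y⁻¹)).1 ((mem_normalizer_iff.1 hy _).1 ((hmem _).2 hs))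
      · have h1 := (mem_normalizer_iff''.1 hy ⟨_, hSH hs⟩).1 ((hmem _).2 hs)
        have h2 := (hmem _).1 h1
        simpa [mul_assoc] using h2
    · intro hy
      refine ⟨⟨y, hy.2⟩, mem_normalizer_iff.2 fun s => ?_, rfl⟩
      rw [hmem, hmem]
      exact mem_normalizer_iff.1 hy.1 (s : G)
  have hc : Nat.card (normalizer ((R : Subgroup H) : Set H)) = Nat.card N := by rw [← hmap, card_subtype]
  have hmod := card_sylow_modEq_one 3 H
  have hidx : Nat.card (Sylow 3 H) = (normalizer ((R : Subgroup H) : Set H)).index := R.card_eq_index_normalizer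
  rw [hidx, Nat.ModEq] at hmod
  have hprod := (normalizer ((R : Subgroup H) : Set H)).card_mul_index
  rw [hc] at hprod
  rw [show Nat.card H = 1080 from T.card_cent_k] at hprod
  obtain ⟨l, hl⟩ := h54
  rw [hl] at hprod h5 ⊢
  have hl20 : l ∣ 20 := ⟨_, (Nat.eq_of_mul_eq_mul_left (by norm_num : 0 < 54) (by rw [← mul_assoc, hprod])).symm⟩
  have hle := Nat.le_of_dvd (by norm_num) hl20
  interval_cases l <;> omega

include hS in
theorem card_norm : Nat.card (normalizer ((S : Subgroup G) : Set G)) = 216 := by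
  classical
  haveI : Fact (Nat.Prime 3) := ⟨Nat.prime_three⟩
  set NS := normalizer ((S : Subgroup G) : Set G)
  set H := centralizer ({T.k} : Set G) with hH
  obtain ⟨hkc, -, -⟩ := T.sylow3_basic S hS
  have hSH : (S : Subgroup G) ≤ H := fun y hy => mem_centralizer_singleton_iff.2 (hkc y hy)
  obtain ⟨R, hR⟩ := ((S.isPGroup'.comap_of_injective _ H.subtype_injective :
    IsPGroup 3 ((S : Subgroup G).subgroupOf H))).exists_le_sylow
  have hRS : (R : Subgroup H).map H.subtype = (S : Subgroup G) :=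
    S.is_maximal' (R.isPGroup'.map _) fun s hs => ⟨⟨s, hSH hs⟩, hR (mem_subgroupOf.2 hs), rfl⟩
  obtain ⟨n0, hn0k, hn0S⟩ := T.frattini R
  rw [hRS] at hn0S
  have hn0 : n0 ∈ NS := by
    refine mem_normalizer_iff.2 fun s => ⟨hn0S s, fun hs => ?_⟩
    let f : ↥(S : Subgroup G) → ↥(S : Subgroup G) := fun s => ⟨_, hn0S s s.2⟩
    have hf : Function.Injective f := fun a b e => Subtype.ext ((MulAut.conj n0).injective (congrArg Subtype.val e))
    obtain ⟨s', hs'⟩ := (Finite.injective_iff_surjective.1 hf) ⟨_, hs⟩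
    exact (MulAut.conj n0).injective (congrArg Subtype.val hs') ▸ s'.2
  have hk2ne : T.k⁻¹ ≠ T.k := fun e => by
    have := orderOf_dvd_of_pow_eq_one (show T.k ^ 2 = 1 by rw [pow_two]; nth_rw 1 [← e]; exact inv_mul_cancel _)
    rw [T.hk.k_ord] at this
    norm_num at this
  have hn0H : n0 ∉ H := fun h => hk2ne (by
    rw [← hn0k, mem_centralizer_singleton_iff.1 h, mul_inv_cancel_right])
  have hidx : ((NS ⊓ H).subgroupOf NS).index = 2 := by
    rw [index_eq_two_iff']
    refine ⟨⟨n0, hn0⟩⁻¹, fun b => ?_⟩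
    simp only [mem_subgroupOf, Subgroup.coe_mul, Subgroup.coe_inv, mem_inf]
    have hor : (b : G) ∈ H ∨ n0⁻¹ * (b : G) ∈ H := by
      rcases mem_zpowers_three T.hk.k3 (T.norm_k S hS b.2) with e | e | e
      · exact absurd (conj_eq_one_iff.1 e) T.hk.k_ne_one
      · exact Or.inl (mem_centralizer_singleton_iff.2 (mul_inv_eq_iff_eq_mul.1 e))
      · refine Or.inr (mem_centralizer_singleton_iff.2 (mul_inv_eq_iff_eq_mul.1 ?_))
        have hk2 : T.k ^ 2 = T.k⁻¹ := eq_inv_of_mul_eq_one_left (by rw [← pow_succ, T.hk.k3])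
        calc n0⁻¹ * b * T.k * (n0⁻¹ * b)⁻¹ = n0⁻¹ * ((b : G) * T.k * (b : G)⁻¹) * n0 := by group
          _ = n0⁻¹ * (n0 * T.k * n0⁻¹) * n0 := by rw [e, hk2, hn0k]
          _ = T.k := by group
    rcases hor with hb | hb
    · exact Or.inr ⟨⟨b.2, hb⟩, fun h' => hn0H (inv_mem_iff.1 (by simpa using mul_mem h'.2 (inv_mem hb)))⟩
    · exact Or.inl ⟨⟨mul_mem (inv_mem hn0) b.2, hb⟩,
        fun h' => hn0H (inv_mem_iff.1 (by simpa using mul_mem hb (inv_mem h'.2)))⟩
  have h1 := ((NS ⊓ H).subgroupOf NS).card_mul_index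
  rw [hidx, Nat.card_congr (subgroupOfEquivOfLe inf_le_left).toEquiv, T.card_norm_cent S hS] at h1
  exact h1.symm

include hS in
/-- every element of `S` lies in a conjugate of `⟨k, a⟩` -/
theorem cover {y : G} (hy : y ∈ (S : Subgroup G)) :
    y ∈ zpowers T.k ∨ ∃ n ∈ normalizer ((S : Subgroup G) : Set G), n⁻¹ * y * n ∈ T.E9 := by
  classical
  haveI := Fintype.ofFinite G
  set NS := normalizer ((S : Subgroup G) : Set G) with hNS
  let N : Finset G := Finset.univ.filter fun n => n ∈ NS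
  let f : G → Subgroup G := fun n => T.E9.map (MulAut.conj n).toMonoidHom
  have hfm : ∀ n x, x ∈ f n ↔ n⁻¹ * x * n ∈ T.E9 := fun n x => by
    simp only [f, mem_map_equiv, MulAut.conj_symm_apply]
  let O := N.image f
  let U : Finset G := Finset.univ.filter fun x => x ∈ T.E9 ∧ x ∉ zpowers T.k
  have hk3 : Nat.card (zpowers T.k) = 3 := by rw [Nat.card_zpowers, T.hk.k_ord]
  have hU : U.card = 6 := by
    have e1 : (U : Set G) = (T.E9 : Set G) \ (zpowers T.k : Set G) := by
      ext x; simp [U]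
    rw [← Set.ncard_coe_finset, e1, Set.ncard_sdiff (fun x hx => zpowers_le.2 T.k_mem_E9 hx) (Set.toFinite _),
      ← Nat.card_coe_set_eq, ← Nat.card_coe_set_eq, SetLike.coe_sort_coe, SetLike.coe_sort_coe, T.E9_card, hk3]
  have haC : ∀ n ∈ NS, ∀ c ∈ zpowers T.k, n * c * n⁻¹ ∈ zpowers T.k := fun n hn c hc => by
    obtain ⟨l, rfl⟩ := mem_zpowers_iff.1 hc
    rw [← conj_zpow]
    exact zpow_mem (T.norm_k S hS hn) l
  -- fibres have at most 54 elements
  have hfib : ∀ M ∈ O, (N.filter fun n => f n = M).card ≤ 54 := by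
    intro M hM
    obtain ⟨n1, hn1, rfl⟩ := Finset.mem_image.1 hM
    have hn1' := (Finset.mem_filter.1 hn1).2
    let A := N.filter fun n => f n = f 1
    have hA : A.card ≤ 54 := by
      have hmapU : ∀ n ∈ A, n * T.a * n⁻¹ ∈ U := by
        intro n hn
        obtain ⟨hnN, hnf⟩ := Finset.mem_filter.1 hn
        have h9 : n * T.a * n⁻¹ ∈ T.E9 := by
          have h1 : n * T.a * n⁻¹ ∈ f n := (hfm _ _).2 (by simpa [mul_assoc] using T.a_mem_E9)
          rw [hnf] at h1
          simpa using (hfm _ _).1 h1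
        refine Finset.mem_filter.2 ⟨Finset.mem_univ _, h9, fun hk => T.a_notMem ?_⟩
        have := haC n⁻¹ (inv_mem (Finset.mem_filter.1 hnN).2) _ hk
        simpa [mul_assoc] using this
      have hsmall : ∀ x ∈ U, (A.filter fun n => n * T.a * n⁻¹ = x).card ≤ 9 := by
        intro x _
        rcases (A.filter fun n => n * T.a * n⁻¹ = x).eq_empty_or_nonempty with h | ⟨n2, hn2⟩
        · rw [h, Finset.card_empty]; exact Nat.zero_le _
        · obtain ⟨hn2A, hn2x⟩ := Finset.mem_filter.1 hn2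
          have hn2N := (Finset.mem_filter.1 (Finset.mem_filter.1 hn2A).1).2
          let E9f : Finset G := Finset.univ.filter fun e => e ∈ T.E9
          have h9 : E9f.card = 9 := by
            rw [← T.E9_card, Nat.card_eq_fintype_card, Fintype.card_subtype]
          refine (Finset.card_le_card (t := E9f.image fun e => n2 * e) fun n hn => ?_).trans
            (Finset.card_image_le.trans h9.le)
          obtain ⟨hnA, hnx⟩ := Finset.mem_filter.1 hn
          have hnN := (Finset.mem_filter.1 (Finset.mem_filter.1 hnA).1).2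
          refine Finset.mem_image.2 ⟨n2⁻¹ * n, Finset.mem_filter.2 ⟨Finset.mem_univ _, ?_⟩, mul_inv_cancel_left _ _⟩
          refine T.cent_a_norm_k (mul_inv_eq_iff_eq_mul.1 ?_) (T.norm_k S hS (mul_mem (inv_mem hn2N) hnN))
          calc n2⁻¹ * n * T.a * (n2⁻¹ * n)⁻¹ = n2⁻¹ * (n * T.a * n⁻¹) * n2 := by group
            _ = n2⁻¹ * (n2 * T.a * n2⁻¹) * n2 := by rw [hnx, hn2x]
            _ = T.a := by group
      calc A.card = ∑ x ∈ U, (A.filter fun n => n * T.a * n⁻¹ = x).card :=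
            Finset.card_eq_sum_card_fiberwise hmapU
        _ ≤ ∑ _x ∈ U, 9 := Finset.sum_le_sum hsmall
        _ = 54 := by rw [Finset.sum_const, smul_eq_mul, hU]
    refine le_trans ?_ hA
    refine Finset.card_le_card_of_injOn (fun n => n1⁻¹ * n) (fun n hn => ?_) (mul_right_injective _).injOn
    obtain ⟨hnN, hnf⟩ := Finset.mem_filter.1 hn
    refine Finset.mem_filter.2 ⟨Finset.mem_filter.2 ⟨Finset.mem_univ _,
      mul_mem (inv_mem hn1') (Finset.mem_filter.1 hnN).2⟩, ?_⟩
    ext x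
    rw [hfm, hfm]
    have := SetLike.ext_iff.1 hnf (n1 * x * n1⁻¹)
    rw [hfm, hfm] at this
    simpa [mul_assoc] using this
  have hO : 4 ≤ O.card := by
    have hN : N.card = 216 := by
      rw [← T.card_norm S hS, Nat.card_eq_fintype_card, Fintype.card_subtype]
    have h := Finset.card_eq_sum_card_image f N
    have h2 : ∑ M ∈ O, (N.filter fun n => f n = M).card ≤ O.card * 54 := by
      refine (Finset.sum_le_sum hfib).trans ?_
      rw [Finset.sum_const, smul_eq_mul]
    rw [hN] at h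
    have : 216 ≤ O.card * 54 := h.le.trans h2
    omega
  -- the union of the conjugates
  let part : Subgroup G → Finset G := fun M => Finset.univ.filter fun x => x ∈ M ∧ x ∉ zpowers T.k
  have hMsub : ∀ M ∈ O, ∀ x ∈ part M, x ∈ (S : Subgroup G) ∧ x ∉ zpowers T.k := by
    intro M hM x hx
    obtain ⟨n, hn, rfl⟩ := Finset.mem_image.1 hM
    obtain ⟨hx1, hx2⟩ := (Finset.mem_filter.1 hx).2
    refine ⟨?_, hx2⟩
    have := (mem_normalizer_iff.1 (Finset.mem_filter.1 hn).2 _).1 (hS ((hfm n x).1 hx1))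
    simpa [mul_assoc] using this
  have hpcard : ∀ M ∈ O, (part M).card = 6 := by
    intro M hM
    obtain ⟨n, hn, rfl⟩ := Finset.mem_image.1 hM
    have hn' := (Finset.mem_filter.1 hn).2
    rw [← hU, ← Finset.card_image_of_injective U (MulAut.conj n).injective]
    congr 1
    ext x
    simp only [part, U, Finset.mem_filter, Finset.mem_univ, true_and, Finset.mem_image, MulAut.conj_apply]
    constructor
    · rintro ⟨hx, hxk⟩
      exact ⟨n⁻¹ * x * n, ⟨(hfm _ _).1 hx, fun hc => hxk (by simpa [mul_assoc] using haC n hn' _ hc)⟩, by group⟩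
    · rintro ⟨u, ⟨hu, huk⟩, rfl⟩
      exact ⟨(hfm _ _).2 (by simpa [mul_assoc] using hu),
        fun hc => huk (by simpa [mul_assoc] using haC n⁻¹ (inv_mem hn') _ hc)⟩
  have hkO : ∀ M ∈ O, zpowers T.k ≤ M := fun M hM => by
    obtain ⟨n, hn, rfl⟩ := Finset.mem_image.1 hM
    refine zpowers_le.2 ((hfm _ _).2 (zpowers_le.2 T.k_mem_E9 ?_))
    have := haC n⁻¹ (inv_mem (Finset.mem_filter.1 hn).2) _ (mem_zpowers T.k)
    simpa using this
  have hdisj : (↑O : Set (Subgroup G)).PairwiseDisjoint part := by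
    intro M hM M' hM' hne
    refine Finset.disjoint_left.2 fun x hx hx' => hne ?_
    obtain ⟨hxM, hxk⟩ := (Finset.mem_filter.1 hx).2
    obtain ⟨hxM', -⟩ := (Finset.mem_filter.1 hx').2
    have key : ∀ L ∈ O, x ∈ L → L = zpowers T.k ⊔ zpowers x := by
      intro L hL hxL
      have hle : zpowers T.k ⊔ zpowers x ≤ L := sup_le (hkO L hL) (zpowers_le.2 hxL)
      obtain ⟨n, -, rfl⟩ := Finset.mem_image.1 hL
      have hL9 : Nat.card (f n) = 9 := by
        rw [card_map_of_injective (MulAut.conj n).injective, T.E9_card]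
      refine (Subgroup.eq_of_le_of_card_ge hle ?_).symm
      have hd1 : Nat.card (zpowers T.k ⊔ zpowers x : Subgroup G) ∣ 3 ^ 2 := by
        rw [show (3 : ℕ) ^ 2 = 9 from rfl, ← hL9]; exact card_dvd_of_le hle
      obtain ⟨i, hi, hi'⟩ := (Nat.dvd_prime_pow Nat.prime_three).1 hd1
      have hgt : 3 < Nat.card (zpowers T.k ⊔ zpowers x : Subgroup G) := by
        rw [← hk3]
        by_contra hcon
        push Not at hcon
        exact hxk ((Subgroup.eq_of_le_of_card_ge le_sup_left hcon).ge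
          ((le_sup_right : zpowers x ≤ zpowers T.k ⊔ zpowers x) (mem_zpowers x)))
      rw [hi'] at hgt ⊢
      rw [hL9]
      interval_cases i <;> omega
    rw [key M hM hxM, key M' hM' hxM']
  let Sd : Finset G := Finset.univ.filter fun x => x ∈ (S : Subgroup G) ∧ x ∉ zpowers T.k
  have hSd : Sd.card = 24 := by
    have hle : zpowers T.k ≤ (S : Subgroup G) := zpowers_le.2 (hS T.k_mem_E9)
    have e1 : (Sd : Set G) = ((S : Subgroup G) : Set G) \ (zpowers T.k : Set G) := by
      ext x; simp only [Sd, Finset.coe_filter, Finset.mem_univ, true_and, Set.mem_sdiff, SetLike.mem_coe, Set.mem_ofPred_eq]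
    rw [← Set.ncard_coe_finset, e1, Set.ncard_sdiff (fun x hx => hle hx) (Set.toFinite _),
      ← Nat.card_coe_set_eq, ← Nat.card_coe_set_eq, SetLike.coe_sort_coe, SetLike.coe_sort_coe,
      sylow3_card (D := D) S, hk3]
  have heq : O.biUnion part = Sd := by
    refine Finset.eq_of_subset_of_card_le (fun x hx => ?_) ?_
    · obtain ⟨M, hM, hxM⟩ := Finset.mem_biUnion.1 hx
      exact Finset.mem_filter.2 ⟨Finset.mem_univ _, hMsub M hM x hxM⟩
    · rw [hSd, Finset.card_biUnion hdisj, Finset.sum_congr rfl hpcard, Finset.sum_const, smul_eq_mul]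
      omega
  by_cases hyk : y ∈ zpowers T.k
  · exact Or.inl hyk
  · right
    have : y ∈ O.biUnion part := heq ▸ Finset.mem_filter.2 ⟨Finset.mem_univ _, hy, hyk⟩
    obtain ⟨M, hM, hxM⟩ := Finset.mem_biUnion.1 this
    obtain ⟨n, hn, rfl⟩ := Finset.mem_image.1 hM
    exact ⟨n, (Finset.mem_filter.1 hn).2, (hfm _ _).1 (Finset.mem_filter.1 hxM).2.1⟩

include hS in
theorem exp_three {y : G} (hy : y ∈ (S : Subgroup G)) : y ^ 3 = 1 := by
  rcases T.cover S hS hy with h | ⟨n, -, h⟩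
  · exact T.E9_pow (zpowers_le.2 T.k_mem_E9 h)
  · have e := T.E9_pow h
    have e2 : y ^ 3 = n * (n⁻¹ * y * n) ^ 3 * n⁻¹ := by rw [← conj_pow]; group
    rw [e2, e, mul_one, mul_inv_cancel]

include hS in
theorem E9_classes {x : G} (hx : x ∈ T.E9) (hx1 : x ≠ 1) : IsConj x T.k ∨ IsConj x T.a := by
  obtain ⟨i, j, rfl⟩ := hx
  obtain ⟨-, -, hex⟩ := T.sylow3_basic S hS
  have hkinv : IsConj (T.k ^ 2) T.k := by
    obtain ⟨w, -, hw⟩ := T.k_inverter
    refine (isConj_iff.2 ⟨w, ?_⟩ : IsConj T.k (T.k ^ 2)).symm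
    rw [hw]; exact inv_eq_of_mul_eq_one_right (by rw [← pow_succ', T.hk.k3])
  obtain ⟨w, -, -, -, hwa⟩ := T.P.exists_inverting T.aB (fun e => by
    have := orderOf_dvd_of_pow_eq_one (show T.a ^ 2 = 1 by rw [pow_two, e])
    rw [T.a_ord] at this
    norm_num at this)
  rw [← Nat.mod_add_div i 3, ← Nat.mod_add_div j 3, pow_add, pow_add, pow_mul, pow_mul, T.hk.k3, T.a3, one_pow,
    one_pow, mul_one, mul_one] at hx1 ⊢
  have hconjy : ∀ d : ℕ, IsConj (T.a * T.k ^ d) T.a := fun d => by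
    obtain ⟨y, -, hy⟩ := hex d
    exact (isConj_iff.2 ⟨y, hy⟩ : IsConj T.a _).symm
  have hi3 := Nat.mod_lt i (show 3 > 0 by norm_num)
  have hj3 := Nat.mod_lt j (show 3 > 0 by norm_num)
  have hc : Commute T.k T.a := T.ka
  interval_cases hi : i % 3 <;> interval_cases hj : j % 3
  all_goals try simp only [pow_zero, one_mul, mul_one, pow_one] at hx1 ⊢
  · exact absurd rfl hx1
  · exact Or.inr (IsConj.refl _)
  · right
    refine (isConj_iff.2 ⟨w, ?_⟩ : IsConj T.a (T.a ^ 2)).symm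
    rw [hwa]; exact inv_eq_of_mul_eq_one_right (by rw [← pow_succ', T.a3])
  · exact Or.inl (IsConj.refl _)
  · right
    rw [hc.eq]
    simpa using hconjy 1
  · right
    -- `k a² = (a k²)⁻¹`
    obtain ⟨y, -, hy⟩ := hex 2
    have e : T.k * T.a ^ 2 = y * T.a⁻¹ * y⁻¹ := by
      rw [← conj_inv, hy, mul_inv_rev]
      refine (congrArg₂ (· * ·) (inv_eq_of_mul_eq_one_right ?_) (inv_eq_of_mul_eq_one_right ?_)).symm
      · rw [← pow_succ, T.hk.k3]
      · rw [← pow_succ', T.a3]
    rw [e]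
    exact ((isConj_iff.2 ⟨y, rfl⟩ : IsConj T.a⁻¹ _).symm).trans (isConj_iff.2 ⟨w, hwa⟩ : IsConj T.a _).symm
  · exact Or.inl hkinv
  · right
    rw [(hc.pow_left 2).eq]
    exact hconjy 2
  · right
    obtain ⟨y, -, hy⟩ := hex 1
    rw [pow_one] at hy
    have e : T.k ^ 2 * T.a ^ 2 = y * T.a⁻¹ * y⁻¹ := by
      rw [← conj_inv, hy, mul_inv_rev]
      refine (congrArg₂ (· * ·) (inv_eq_of_mul_eq_one_right ?_) (inv_eq_of_mul_eq_one_right ?_)).symm
      · rw [← pow_succ', T.hk.k3]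
      · rw [← pow_succ', T.a3]
    rw [e]
    exact ((isConj_iff.2 ⟨y, rfl⟩ : IsConj T.a⁻¹ _).symm).trans (isConj_iff.2 ⟨w, hwa⟩ : IsConj T.a _).symm

include T in
theorem three_classes {y : G} (hy : orderOf y = 3) : IsConj y T.k ∨ IsConj y T.a := by
  haveI : Fact (Nat.Prime 3) := ⟨Nat.prime_three⟩
  obtain ⟨S, hS⟩ := T.exists_sylow3
  obtain ⟨g, hg⟩ := conj_into_sylow S y ⟨1, by rw [hy, pow_one]⟩
  have hy1 : g * y * g⁻¹ ≠ 1 := fun e => by simp [conj_eq_one_iff.1 e] at hy
  have hgy : IsConj y (g * y * g⁻¹) := isConj_iff.2 ⟨g, rfl⟩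
  rcases T.cover S hS hg with h | ⟨n, -, h⟩
  · exact (T.E9_classes S hS (zpowers_le.2 T.k_mem_E9 h) hy1).imp hgy.trans hgy.trans
  · have h2 : IsConj (g * y * g⁻¹) (n⁻¹ * (g * y * g⁻¹) * n) := isConj_iff.2 ⟨n⁻¹, by rw [inv_inv]⟩
    have hne : n⁻¹ * (g * y * g⁻¹) * n ≠ 1 := fun e => hy1 (by
      rw [show g * y * g⁻¹ = n * (n⁻¹ * (g * y * g⁻¹) * n) * n⁻¹ by group, e, mul_one, mul_inv_cancel])
    exact (T.E9_classes S hS h hne).imp (hgy.trans h2).trans (hgy.trans h2).trans

end Triple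

variable (D)

include D in
theorem sylow3_struct (P : Sylow 3 G) :
    Nat.card (P : Subgroup G) = 27 ∧ (∀ x ∈ (P : Subgroup G), x ^ 3 = 1) ∧
      (¬ ∀ x y : (P : Subgroup G), x * y = y * x) ∧
      Nat.card (normalizer ((P : Subgroup G) : Set G)) = 216 := by
  classical
  haveI : Fact (Nat.Prime 3) := ⟨Nat.prime_three⟩
  obtain ⟨t, ⟨T⟩⟩ := D.exists_triple
  obtain ⟨S, hS⟩ := T.exists_sylow3
  obtain ⟨g, rfl⟩ := MulAction.exists_smul_eq G S P
  have hmem : ∀ s ∈ (S : Subgroup G), g * s * g⁻¹ ∈ ((g • S : Sylow 3 G) : Subgroup G) := fun s hs => by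
    rw [Sylow.coe_subgroup_smul]; exact Subgroup.smul_mem_pointwise_smul s (MulAut.conj g) _ hs
  refine ⟨Triple.sylow3_card (D := D) _, fun x hx => ?_, fun hab => ?_, ?_⟩
  · rw [Sylow.coe_subgroup_smul, Subgroup.mem_pointwise_smul_iff_inv_smul_mem, ← map_inv, MulAut.smul_def,
      MulAut.conj_apply, inv_inv] at hx
    have e := T.exp_three S hS hx
    have e2 : x ^ 3 = g * (g⁻¹ * x * g) ^ 3 * g⁻¹ := by rw [← conj_pow]; group
    rw [e2, e, mul_one, mul_inv_cancel]
  · obtain ⟨-, -, hex⟩ := T.sylow3_basic S hS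
    obtain ⟨y, hy, hya⟩ := hex 1
    have h := congrArg Subtype.val (hab ⟨_, hmem y hy⟩ ⟨_, hmem T.a (hS T.a_mem_E9)⟩)
    change g * y * g⁻¹ * (g * T.a * g⁻¹) = g * T.a * g⁻¹ * (g * y * g⁻¹) at h
    rw [conj_mul, conj_mul] at h
    have h' : y * T.a = T.a * y := (MulAut.conj g).injective h
    rw [h', mul_inv_cancel_right, pow_one] at hya
    exact T.hk.k_ne_one (mul_eq_left.1 hya.symm)
  · have e : (normalizer (((g • S : Sylow 3 G) : Subgroup G) : Set G)).index =
        (normalizer ((S : Subgroup G) : Set G)).index :=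
      (g • S).card_eq_index_normalizer.symm.trans S.card_eq_index_normalizer
    have h1 := (normalizer (((g • S : Sylow 3 G) : Subgroup G) : Set G)).card_mul_index
    have h2 := (normalizer ((S : Subgroup G) : Set G)).card_mul_index
    rw [e, ← h2, T.card_norm S hS] at h1
    exact Nat.eq_of_mul_eq_mul_right (Nat.pos_of_ne_zero index_ne_zero_of_finite) h1

include D in
theorem three_classes_exist : ∃ a b : G, orderOf a = 3 ∧ orderOf b = 3 ∧ ¬ IsConj a b ∧
    ∀ c : G, orderOf c = 3 → IsConj c a ∨ IsConj c b := by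
  obtain ⟨t, ⟨T⟩⟩ := D.exists_triple
  refine ⟨T.k, T.a, T.hk.k_ord, T.a_ord, T.not_conj_k_a (mem_zpowers _) ?_, fun c hc => T.three_classes hc⟩
  intro e
  have := T.a_ord
  simp [e] at this

end Data

end Cfsg.Agent.JTwoType
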